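import Cfsg.Agent.LocalEvenD.RankThreeEss.GL3Base
import Mathlib.Data.Nat.Choose.Dvd

/-!
# Unipotent automorphisms of small abelian groups: binomial sequences
-/

set_option autoImplicit false
set_option linter.style.haveILetI false

namespace Cfsg.Agent.LocalEvenD.RTE

variable {A : Type*} [CommGroup A] {p : ℕ}

/-- `a ↦ a⁻¹ η a` as an endomorphism. -/
def nHom (η : MulAut A) : A →* A where
  toFun a := a⁻¹ * η a
  map_one' := by simp
  map_mul' a b := by simp [mul_assoc, mul_left_comm, mul_comm]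

lemma eta_eq (η : MulAut A) (a : A) : η a = a * nHom η a := by simp [nHom]

lemma nHom_cube [Finite A] [Fact p.Prime] (hA : ∀ a : A, a ^ p = 1) (hc : Nat.card A ≤ p ^ 3)
    {η : MulAut A} (hη : ∃ m : ℕ, η ^ p ^ m = 1) (a : A) : nHom η (nHom η (nHom η a)) = 1 := by
  set n := nHom η
  have hP : IsPGroup p (Subgroup.zpowers η) := by
    rintro ⟨x, i, rfl⟩
    obtain ⟨m, hm⟩ := hη
    exact ⟨m, Subtype.ext (by
      show (η ^ i) ^ (p ^ m) = 1
      rw [← zpow_natCast, ← zpow_mul, mul_comm, zpow_mul, zpow_natCast, hm, one_zpow])⟩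
  have hcomm : ∀ x, η (n x) = n (η x) := fun x => by simp [n, nHom, map_mul]
  have step : ∀ U : Subgroup A, (∀ x ∈ U, η x ∈ U) → U ≠ ⊥ → p * Nat.card (U.map n) ≤ Nat.card U := by
    intro U hU hne
    haveI : Finite (MulAut A) := Finite.of_injective (fun f : MulAut A => (f : A → A)) DFunLike.coe_injective
    have hUi : ∀ u ∈ Subgroup.zpowers η, ∀ x ∈ U, (MonoidHom.id (MulAut A)) u x ∈ U := by
      intro u hu
      obtain ⟨j, rfl⟩ := (isOfFinOrder_of_finite η).mem_powers_iff_mem_zpowers.mpr hu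
      show ∀ x ∈ U, (η ^ j) x ∈ U
      induction j with
      | zero => simp
      | succ j ih => intro x hx; rw [pow_succ, MulAut.mul_apply]; exact ih (Subgroup.pow_mem _ (Subgroup.mem_zpowers η) j) _ (hU x hx)
    have hd : p ∣ Nat.card U := by
      obtain ⟨k, hk⟩ := IsPGroup.iff_card.mp
        ((show IsPGroup p A from fun v => ⟨1, by rw [pow_one]; exact hA v⟩).to_subgroup U)
      rw [hk]
      exact dvd_pow_self p fun h0 => hne (Subgroup.card_eq_one.mp (by rw [hk, h0, pow_zero]))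
    obtain ⟨v, hv, hv1, hvf⟩ := exists_fixed hP hUi hd
    have hle : U.map n ≤ U := by
      rintro _ ⟨x, hx, rfl⟩
      exact U.mul_mem (U.inv_mem hx) (hU x hx)
    refine card_mul_le hA (lt_of_le_of_ne hle fun he => ?_)
    have hsurj : Function.Surjective (fun x : U => (⟨n x, hle ⟨x, x.2, rfl⟩⟩ : U)) := by
      rintro ⟨y, hy⟩
      obtain ⟨x, hx, rfl⟩ := he.ge hy
      exact ⟨⟨x, hx⟩, rfl⟩
    have h1 : (⟨n v, hle ⟨v, hv, rfl⟩⟩ : U) = ⟨n 1, hle ⟨1, U.one_mem, rfl⟩⟩ := by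
      apply Subtype.ext
      show n v = n 1
      rw [map_one]
      show v⁻¹ * η v = 1
      rw [show η v = v from hvf η (Subgroup.mem_zpowers η), inv_mul_cancel]
    exact hv1 (congrArg Subtype.val
      ((Finite.injective_iff_surjective.mpr hsurj) (a₁ := ⟨v, hv⟩) (a₂ := ⟨1, U.one_mem⟩) h1))
  have hinv : ∀ U : Subgroup A, (∀ x ∈ U, η x ∈ U) → ∀ x ∈ U.map n, η x ∈ U.map n := by
    rintro U hU _ ⟨x, hx, rfl⟩
    exact ⟨η x, hU x hx, (hcomm x).symm⟩
  set U1 := (⊤ : Subgroup A).map n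
  set U2 := U1.map n
  set U3 := U2.map n
  suffices h : U3 = ⊥ from (Subgroup.eq_bot_iff_forall _).mp h _ ⟨_, ⟨_, ⟨a, trivial, rfl⟩, rfl⟩, rfl⟩
  by_contra h3
  have h2 : U2 ≠ ⊥ := fun h => h3 (by simp [U3, h])
  have h1 : U1 ≠ ⊥ := fun h => h2 (by simp [U2, h])
  have h0 : (⊤ : Subgroup A) ≠ ⊥ := fun h => h1 (by simp [U1, h])
  have e0 := step ⊤ (fun x _ => Subgroup.mem_top _) h0
  have e1 := step U1 (hinv ⊤ fun x _ => Subgroup.mem_top _) h1
  have e2 := step U2 (hinv U1 (hinv ⊤ fun x _ => Subgroup.mem_top _)) h2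
  have e3 : 1 < Nat.card U3 := (Subgroup.one_lt_card_iff_ne_bot _).mpr h3
  rw [Subgroup.card_top] at e0
  have hp := (Fact.out : p.Prime).pos
  nlinarith [Nat.mul_le_mul_left p (Nat.mul_le_mul_left p e2), Nat.mul_le_mul_left p e1]

/-- The corrections of the iterates `ξ^i d = d l^i ω i`. -/
def omg (η : MulAut A) (w₀ w₁ : A) (i : ℕ) : A :=
  w₀ ^ i.choose 1 * (nHom η w₀) ^ i.choose 2 * (nHom η (nHom η w₀)) ^ i.choose 3 *
    w₁ ^ i.choose 2 * (nHom η w₁) ^ i.choose 3 * (nHom η (nHom η w₁)) ^ i.choose 4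

/-- Their partial products. -/
def omgSum (η : MulAut A) (w₀ w₁ : A) (i : ℕ) : A :=
  w₀ ^ i.choose 2 * (nHom η w₀) ^ i.choose 3 * (nHom η (nHom η w₀)) ^ i.choose 4 *
    w₁ ^ i.choose 3 * (nHom η w₁) ^ i.choose 4 * (nHom η (nHom η w₁)) ^ i.choose 5

lemma omg_zero (η : MulAut A) (w₀ w₁ : A) : omg η w₀ w₁ 0 = 1 ∧ omgSum η w₀ w₁ 0 = 1 := by
  simp [omg, omgSum]

lemma omg_step {η : MulAut A} (h3 : ∀ a, nHom η (nHom η (nHom η a)) = 1) (w₀ w₁ : A) (i : ℕ) :
    w₀ * w₁ ^ i * η (omg η w₀ w₁ i) = omg η w₀ w₁ (i + 1) := by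
  rw [eta_eq]
  simp only [omg, map_mul, map_pow, h3, one_pow, mul_one, Nat.choose_succ_succ', Nat.choose_zero_right,
    Nat.choose_one_right, pow_add, pow_one]
  simp [mul_assoc, mul_left_comm, mul_comm]

lemma omgSum_step (η : MulAut A) (w₀ w₁ : A) (i : ℕ) :
    omgSum η w₀ w₁ i * omg η w₀ w₁ i = omgSum η w₀ w₁ (i + 1) := by
  simp only [omg, omgSum, Nat.choose_succ_succ', Nat.choose_zero_right, Nat.choose_one_right, pow_add]
  simp [mul_assoc, mul_left_comm, mul_comm]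

lemma omgSum_prime [Fact p.Prime] (hp : 5 ≤ p) (hA : ∀ a : A, a ^ p = 1) (η : MulAut A) (w₀ w₁ : A) :
    omgSum η w₀ w₁ p = (nHom η (nHom η w₁)) ^ p.choose 5 := by
  have h : ∀ (k : ℕ) (a : A), 0 < k → k < p → a ^ p.choose k = 1 := fun k a hk hkp => by
    obtain ⟨c, hc⟩ := (Fact.out : p.Prime).dvd_choose_self hk.ne' hkp
    rw [hc, pow_mul, hA, one_pow]
  simp only [omgSum]
  rw [h 2 _ (by norm_num) (by omega), h 3 _ (by norm_num) (by omega), h 4 _ (by norm_num) (by omega),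
    h 3 _ (by norm_num) (by omega), h 4 _ (by norm_num) (by omega)]
  simp

end Cfsg.Agent.LocalEvenD.RTE
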