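import Cfsg.Agent.LocalEvenD.RankThreeEss.Tools

/-!
# Coordinates on a group of order `p⁴` of shape `p^{1+2} × p`
-/

set_option autoImplicit false

namespace Cfsg.Agent.LocalEvenD.RTE

variable {Q : Type*} [Group Q] {p : ℕ} [Fact p.Prime]

/-- Generators `x, b, a, f` with `x b x⁻¹ = b a^s`, all else commuting, all of order `p`. -/
structure Frame (p : ℕ) (Q : Type*) [Group Q] where
  x : Q
  b : Q
  a : Q
  f : Q
  s : ZMod p
  hs : s ≠ 0
  hxp : x ^ p = 1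
  hbp : b ^ p = 1
  hap : a ^ p = 1
  hfp : f ^ p = 1
  hxa : Commute x a
  hxf : Commute x f
  hba : Commute b a
  hbf : Commute b f
  haf : Commute a f
  hxb : x * b = b * a ^ s.val * x
  gen : ∀ q : Q, ∃ i j k l : ℕ, q = x ^ i * b ^ j * a ^ k * f ^ l
  card : Nat.card Q = p ^ 4

lemma pow_add_val {G : Type*} [Group G] {u : G} (hu : u ^ p = 1) (i i' : ZMod p) :
    u ^ i.val * u ^ i'.val = u ^ (i + i').val := by
  have h := fun n : ℕ => pow_eq_pow_mod n hu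
  rw [← pow_add, h, ZMod.val_add]

lemma pow_nat_val {G : Type*} [Group G] {u : G} (hu : u ^ p = 1) (n : ℕ) :
    u ^ (n : ZMod p).val = u ^ n := by
  rw [ZMod.val_natCast, ← pow_eq_pow_mod n hu]

lemma pow_mul_val {G : Type*} [Group G] {u : G} (hu : u ^ p = 1) (i : ZMod p) (n : ℕ) :
    (u ^ i.val) ^ n = u ^ (i * n).val := by
  rw [← pow_mul, ← pow_nat_val hu (i.val * n)]
  congr 2
  push_cast
  rw [ZMod.natCast_zmod_val]

namespace Frame

variable (P : Frame p Q)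

/-- The element with given coordinates. -/
def T (i j k l : ZMod p) : Q := P.x ^ i.val * P.b ^ j.val * P.a ^ k.val * P.f ^ l.val

lemma T_of_nat (i j k l : ℕ) : P.x ^ i * P.b ^ j * P.a ^ k * P.f ^ l = P.T i j k l := by
  rw [T, pow_nat_val P.hxp, pow_nat_val P.hbp, pow_nat_val P.hap, pow_nat_val P.hfp]

lemma surj (q : Q) : ∃ i j k l, P.T i j k l = q := by
  obtain ⟨i, j, k, l, rfl⟩ := P.gen q
  exact ⟨i, j, k, l, (P.T_of_nat i j k l).symm⟩

lemma inj {i j k l i' j' k' l' : ZMod p} (h : P.T i j k l = P.T i' j' k' l') :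
    i = i' ∧ j = j' ∧ k = k' ∧ l = l' := by
  haveI : Finite Q := Nat.finite_of_card_ne_zero (by rw [P.card]; exact pow_ne_zero _ (Fact.out : p.Prime).ne_zero)
  have hb : Function.Bijective fun v : ZMod p × ZMod p × ZMod p × ZMod p => P.T v.1 v.2.1 v.2.2.1 v.2.2.2 := by
    rw [Nat.bijective_iff_surjective_and_card]
    refine ⟨fun q => ?_, ?_⟩
    · obtain ⟨i, j, k, l, hq⟩ := P.surj q
      exact ⟨(i, j, k, l), hq⟩
    · simp only [Nat.card_prod, Nat.card_zmod, P.card]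
      ring
  have := @hb.1 (i, j, k, l) (i', j', k', l') h
  simpa using this

lemma T_x : P.T 1 0 0 0 = P.x := by simp [T, ZMod.val_one]
lemma T_b : P.T 0 1 0 0 = P.b := by simp [T, ZMod.val_one]
lemma T_a : P.T 0 0 1 0 = P.a := by simp [T, ZMod.val_one]
lemma T_f : P.T 0 0 0 1 = P.f := by simp [T, ZMod.val_one]
lemma T_zero : P.T 0 0 0 0 = 1 := by simp [T]

lemma x_b_pow (i j : ZMod p) :
    P.x ^ i.val * P.b ^ j.val = P.b ^ j.val * P.a ^ (P.s * i * j).val * P.x ^ i.val := by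
  have h1 : ∀ n : ℕ, P.x * P.b ^ n = P.b ^ n * P.a ^ (P.s * n).val * P.x := by
    intro n
    induction n with
    | zero => simp
    | succ n ih =>
      rw [pow_succ, ← mul_assoc, ih]
      calc P.b ^ n * P.a ^ (P.s * n).val * P.x * P.b
          = P.b ^ n * P.a ^ (P.s * n).val * (P.b * P.a ^ P.s.val * P.x) := by rw [mul_assoc _ P.x, P.hxb]
        _ = P.b ^ n * (P.a ^ (P.s * n).val * P.b) * P.a ^ P.s.val * P.x := by simp only [mul_assoc]
        _ = P.b ^ n * P.b * (P.a ^ (P.s * n).val * P.a ^ P.s.val) * P.x := by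
          rw [(P.hba.symm.pow_left _).eq]; simp only [mul_assoc]
        _ = _ := by rw [pow_add_val P.hap]; push_cast; ring_nf
  have h2 : ∀ m n : ℕ, P.x ^ m * P.b ^ n = P.b ^ n * P.a ^ (P.s * m * n).val * P.x ^ m := by
    intro m n
    induction m with
    | zero => simp
    | succ m ih =>
      rw [pow_succ' P.x, mul_assoc, ih]
      calc P.x * (P.b ^ n * P.a ^ (P.s * m * n).val * P.x ^ m)
          = P.x * P.b ^ n * P.a ^ (P.s * m * n).val * P.x ^ m := by simp only [mul_assoc]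
        _ = P.b ^ n * P.a ^ (P.s * n).val * (P.x * P.a ^ (P.s * m * n).val) * P.x ^ m := by
          rw [h1]; simp only [mul_assoc]
        _ = P.b ^ n * (P.a ^ (P.s * n).val * P.a ^ (P.s * m * n).val) * (P.x * P.x ^ m) := by
          rw [(P.hxa.pow_right _).eq]; simp only [mul_assoc]
        _ = _ := by rw [pow_add_val P.hap]; push_cast; ring_nf
  have := h2 i.val j.val
  rwa [ZMod.natCast_zmod_val, ZMod.natCast_zmod_val] at this

lemma T_mul (i j k l i' j' k' l' : ZMod p) :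
    P.T i j k l * P.T i' j' k' l' = P.T (i + i') (j + j') (k + k' - P.s * i' * j) (l + l') := by
  have hbx : P.b ^ j.val * P.x ^ i'.val = P.x ^ i'.val * P.b ^ j.val * P.a ^ (-(P.s * i' * j)).val := by
    rw [P.x_b_pow i' j, mul_assoc (P.b ^ j.val * _), (P.hxa.pow_pow _ _).eq, mul_assoc (P.b ^ j.val),
      ← mul_assoc (P.a ^ _), pow_add_val P.hap, add_neg_cancel, ZMod.val_zero, pow_zero, one_mul]
  simp only [T]
  rw [show k + k' - P.s * i' * j = k + (-(P.s * i' * j)) + k' by ring, ← pow_add_val P.hxp,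
    ← pow_add_val P.hbp, ← pow_add_val P.hap, ← pow_add_val P.hap, ← pow_add_val P.hfp]
  calc P.x ^ i.val * P.b ^ j.val * P.a ^ k.val * P.f ^ l.val *
        (P.x ^ i'.val * P.b ^ j'.val * P.a ^ k'.val * P.f ^ l'.val)
      = P.x ^ i.val * (P.b ^ j.val * P.x ^ i'.val) * (P.a ^ k.val * P.f ^ l.val) *
          (P.b ^ j'.val * P.a ^ k'.val * P.f ^ l'.val) := by
        have : P.a ^ k.val * P.f ^ l.val * P.x ^ i'.val = P.x ^ i'.val * (P.a ^ k.val * P.f ^ l.val) :=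
          ((P.hxa.symm.pow_pow _ _).mul_left (P.hxf.symm.pow_pow _ _)).eq
        simp only [mul_assoc] at this ⊢
        rw [← mul_assoc (P.f ^ l.val) (P.x ^ i'.val), ← mul_assoc (P.a ^ k.val), this]
        simp only [mul_assoc]
    _ = P.x ^ i.val * P.x ^ i'.val * P.b ^ j.val *
          (P.a ^ (-(P.s * i' * j)).val * (P.a ^ k.val * P.f ^ l.val) * P.b ^ j'.val) *
          (P.a ^ k'.val * P.f ^ l'.val) := by rw [hbx]; simp only [mul_assoc]
    _ = P.x ^ i.val * P.x ^ i'.val * P.b ^ j.val *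
          (P.b ^ j'.val * (P.a ^ (-(P.s * i' * j)).val * (P.a ^ k.val * P.f ^ l.val))) *
          (P.a ^ k'.val * P.f ^ l'.val) := by
        rw [(((P.hba.symm.pow_pow _ _).mul_left
          ((P.hba.symm.pow_pow _ _).mul_left (P.hbf.symm.pow_pow _ _)))).eq]
    _ = _ := by
        have e1 : P.a ^ (-(P.s * i' * j)).val * P.a ^ k.val = P.a ^ k.val * P.a ^ (-(P.s * i' * j)).val :=
          ((Commute.refl P.a).pow_pow _ _).eq
        have e2 : P.f ^ l.val * P.a ^ k'.val = P.a ^ k'.val * P.f ^ l.val := (P.haf.symm.pow_pow _ _).eq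
        simp only [← mul_assoc]
        rw [mul_assoc _ (P.a ^ (-(P.s * i' * j)).val) (P.a ^ k.val), e1, mul_assoc _ (P.f ^ l.val), e2]
        simp only [mul_assoc]

lemma T_pow (i j k l : ZMod p) (n : ℕ) :
    P.T i j k l ^ n = P.T (n * i) (n * j) (n * k - P.s * i * j * n.choose 2) (n * l) := by
  induction n with
  | zero => simp [T_zero]
  | succ n ih =>
    rw [pow_succ, ih, T_mul]
    have hc : ((n + 1).choose 2 : ZMod p) = (n : ZMod p) + n.choose 2 := by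
      rw [Nat.choose_succ_succ', Nat.choose_one_right]; push_cast; ring
    rw [hc]
    congr 1 <;> push_cast <;> ring

include P in
lemma exp (hp : 2 < p) (q : Q) : q ^ p = 1 := by
  obtain ⟨i, j, k, l, rfl⟩ := P.surj q
  rw [T_pow, ← T_zero P]
  obtain ⟨c, hc⟩ := (Fact.out : p.Prime).dvd_choose_self (k := 2) (by norm_num) hp
  have h0 : (p.choose 2 : ZMod p) = 0 := by rw [hc]; push_cast; rw [ZMod.natCast_self, zero_mul]
  rw [ZMod.natCast_self, h0]
  congr 1 <;> ring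

end Frame

end Cfsg.Agent.LocalEvenD.RTE

namespace Cfsg.Agent.LocalEvenD.RTE

variable {Q : Type*} [Group Q] {p : ℕ} [Fact p.Prime]

namespace Frame

variable (P : Frame p Q)

/-- The coordinates of an element. -/
noncomputable def co (q : Q) : ZMod p × ZMod p × ZMod p × ZMod p :=
  ((P.surj q).choose, (P.surj q).choose_spec.choose, (P.surj q).choose_spec.choose_spec.choose,
    (P.surj q).choose_spec.choose_spec.choose_spec.choose)

noncomputable def c₁ (q : Q) : ZMod p := (P.co q).1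
noncomputable def c₂ (q : Q) : ZMod p := (P.co q).2.1
noncomputable def c₃ (q : Q) : ZMod p := (P.co q).2.2.1
noncomputable def c₄ (q : Q) : ZMod p := (P.co q).2.2.2

lemma T_co (q : Q) : P.T (P.c₁ q) (P.c₂ q) (P.c₃ q) (P.c₄ q) = q :=
  (P.surj q).choose_spec.choose_spec.choose_spec.choose_spec

lemma co_T (i j k l : ZMod p) :
    P.c₁ (P.T i j k l) = i ∧ P.c₂ (P.T i j k l) = j ∧ P.c₃ (P.T i j k l) = k ∧ P.c₄ (P.T i j k l) = l :=
  P.inj (P.T_co _)

@[simp] lemma c₁_T (i j k l : ZMod p) : P.c₁ (P.T i j k l) = i := (P.co_T i j k l).1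
@[simp] lemma c₂_T (i j k l : ZMod p) : P.c₂ (P.T i j k l) = j := (P.co_T i j k l).2.1
@[simp] lemma c₃_T (i j k l : ZMod p) : P.c₃ (P.T i j k l) = k := (P.co_T i j k l).2.2.1
@[simp] lemma c₄_T (i j k l : ZMod p) : P.c₄ (P.T i j k l) = l := (P.co_T i j k l).2.2.2

lemma c₁_mul (u v : Q) : P.c₁ (u * v) = P.c₁ u + P.c₁ v := by
  conv_lhs => rw [← P.T_co u, ← P.T_co v, P.T_mul, P.c₁_T]

lemma c₂_mul (u v : Q) : P.c₂ (u * v) = P.c₂ u + P.c₂ v := by
  conv_lhs => rw [← P.T_co u, ← P.T_co v, P.T_mul, P.c₂_T]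

lemma c₄_mul (u v : Q) : P.c₄ (u * v) = P.c₄ u + P.c₄ v := by
  conv_lhs => rw [← P.T_co u, ← P.T_co v, P.T_mul, P.c₄_T]

lemma c_pow (u : Q) (n : ℕ) :
    P.c₁ (u ^ n) = n * P.c₁ u ∧ P.c₂ (u ^ n) = n * P.c₂ u ∧ P.c₄ (u ^ n) = n * P.c₄ u := by
  refine ⟨?_, ?_, ?_⟩
  · conv_lhs => rw [← P.T_co u, P.T_pow, P.c₁_T]
  · conv_lhs => rw [← P.T_co u, P.T_pow, P.c₂_T]
  · conv_lhs => rw [← P.T_co u, P.T_pow, P.c₄_T]

lemma c_map (α : MulAut Q) (i j k l : ZMod p) :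
    P.c₁ (α (P.T i j k l)) = i * P.c₁ (α P.x) + j * P.c₁ (α P.b) + k * P.c₁ (α P.a) + l * P.c₁ (α P.f) ∧
    P.c₂ (α (P.T i j k l)) = i * P.c₂ (α P.x) + j * P.c₂ (α P.b) + k * P.c₂ (α P.a) + l * P.c₂ (α P.f) ∧
    P.c₄ (α (P.T i j k l)) = i * P.c₄ (α P.x) + j * P.c₄ (α P.b) + k * P.c₄ (α P.a) + l * P.c₄ (α P.f) := by
  refine ⟨?_, ?_, ?_⟩ <;>
    simp only [T, map_mul, map_pow, P.c₁_mul, P.c₂_mul, P.c₄_mul, (P.c_pow _ _).1, (P.c_pow _ _).2.1,
      (P.c_pow _ _).2.2, ZMod.natCast_zmod_val]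

/-- An automorphism sends `a` to its determinant power and keeps the centre. -/
lemma map_a (α : MulAut Q) :
    α P.a = P.T 0 0 (P.c₁ (α P.x) * P.c₂ (α P.b) - P.c₁ (α P.b) * P.c₂ (α P.x)) 0 := by
  have h := congrArg α P.hxb
  rw [map_mul, map_mul, map_mul, map_pow] at h
  have hc : ∀ q, Commute P.a q := fun q => by
    rw [← P.T_co q, ← P.T_a]
    show _ * _ = _ * _
    rw [P.T_mul, P.T_mul]
    congr 1 <;> ring
  have hca : ∀ q, Commute (α P.a) q := fun q => by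
    have := (hc (α.symm q)).map α
    rwa [MulEquiv.apply_symm_apply] at this
  obtain ⟨i, j, k, l, ht⟩ := P.surj (α P.a)
  have hx := hca P.x
  have hb := hca P.b
  rw [← ht, ← P.T_x] at hx
  rw [← ht, ← P.T_b] at hb
  obtain ⟨-, -, e1, -⟩ := P.inj ((P.T_mul i j k l 1 0 0 0).symm.trans (hx.eq.trans (P.T_mul 1 0 0 0 i j k l)))
  obtain ⟨-, -, e2, -⟩ := P.inj ((P.T_mul i j k l 0 1 0 0).symm.trans (hb.eq.trans (P.T_mul 0 1 0 0 i j k l)))
  have hj : j = 0 := by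
    have : P.s * j = 0 := by linear_combination -e1
    exact (mul_eq_zero.mp this).resolve_left P.hs
  have hi : i = 0 := by
    have : P.s * i = 0 := by linear_combination e2
    exact (mul_eq_zero.mp this).resolve_left P.hs
  subst hi hj
  obtain ⟨i₁, j₁, k₁, l₁, hX⟩ := P.surj (α P.x)
  obtain ⟨i₂, j₂, k₂, l₂, hB⟩ := P.surj (α P.b)
  rw [← hX, ← hB, ← ht, P.T_pow, P.T_mul, P.T_mul, P.T_mul] at h
  obtain ⟨-, -, e3, e4⟩ := P.inj h
  rw [ZMod.natCast_zmod_val] at e3 e4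
  rw [← hX, ← hB, ← ht]
  simp only [c₁_T, c₂_T]
  have hl : l = 0 := by
    have : P.s * l = 0 := by linear_combination -e4
    exact (mul_eq_zero.mp this).resolve_left P.hs
  have hk : k = i₁ * j₂ - i₂ * j₁ := by
    apply mul_left_cancel₀ P.hs
    linear_combination -e3
  rw [hl, hk]

lemma map_f (α : MulAut Q) : α P.f = P.T 0 0 (P.c₃ (α P.f)) (P.c₄ (α P.f)) := by
  have hc : ∀ q, Commute P.f q := fun q => by
    rw [← P.T_co q, ← P.T_f]
    show _ * _ = _ * _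
    rw [P.T_mul, P.T_mul]
    congr 1 <;> ring
  obtain ⟨i, j, k, l, ht⟩ := P.surj (α P.f)
  have hca : ∀ q, Commute (α P.f) q := fun q => by
    have := (hc (α.symm q)).map α
    rwa [MulEquiv.apply_symm_apply] at this
  have hx := hca P.x
  have hb := hca P.b
  rw [← ht, ← P.T_x] at hx
  rw [← ht, ← P.T_b] at hb
  obtain ⟨-, -, e1, -⟩ := P.inj ((P.T_mul i j k l 1 0 0 0).symm.trans (hx.eq.trans (P.T_mul 1 0 0 0 i j k l)))
  obtain ⟨-, -, e2, -⟩ := P.inj ((P.T_mul i j k l 0 1 0 0).symm.trans (hb.eq.trans (P.T_mul 0 1 0 0 i j k l)))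
  have hj : j = 0 := by
    have : P.s * j = 0 := by linear_combination -e1
    exact (mul_eq_zero.mp this).resolve_left P.hs
  have hi : i = 0 := by
    have : P.s * i = 0 := by linear_combination e2
    exact (mul_eq_zero.mp this).resolve_left P.hs
  subst hi hj
  rw [← ht, c₃_T, c₄_T]

/-- Transport along an automorphism. -/
def map (φ : MulAut Q) : Frame p Q where
  x := φ P.x
  b := φ P.b
  a := φ P.a
  f := φ P.f
  s := P.s
  hs := P.hs
  hxp := by rw [← map_pow, P.hxp, map_one]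
  hbp := by rw [← map_pow, P.hbp, map_one]
  hap := by rw [← map_pow, P.hap, map_one]
  hfp := by rw [← map_pow, P.hfp, map_one]
  hxa := P.hxa.map φ
  hxf := P.hxf.map φ
  hba := P.hba.map φ
  hbf := P.hbf.map φ
  haf := P.haf.map φ
  hxb := by rw [← map_pow, ← map_mul, ← map_mul, ← map_mul, P.hxb]
  gen := fun q => by
    obtain ⟨i, j, k, l, h⟩ := P.gen (φ.symm q)
    exact ⟨i, j, k, l, by rw [← map_pow, ← map_pow, ← map_pow, ← map_pow, ← map_mul, ← map_mul, ← map_mul,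
      ← h, MulEquiv.apply_symm_apply]⟩
  card := P.card

lemma map_T (φ : MulAut Q) (i j k l : ZMod p) : (P.map φ).T i j k l = φ (P.T i j k l) := by
  simp [T, Frame.map]

lemma map_c₁ (φ : MulAut Q) (q : Q) : (P.map φ).c₁ (φ q) = P.c₁ q := by
  conv_lhs => rw [← P.T_co q, ← P.map_T, Frame.c₁_T]

end Frame

/-- The configuration `a, b, x, f` normalized by an element fixing the lines. -/
structure Frame.Uni (P : Frame p Q) (α : MulAut Q) : Prop where
  a : α P.a = P.a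
  x₁ : P.c₁ (α P.x) = 1
  x₂ : P.c₂ (α P.x) = 0
  b₂ : P.c₂ (α P.b) = 1
  f₄ : P.c₄ (α P.f) = 1

namespace Frame.Uni

variable {P : Frame p Q} {α β : MulAut Q}

lemma apply (hα : P.Uni α) (i j k l : ZMod p) :
    P.c₁ (α (P.T i j k l)) = i + j * P.c₁ (α P.b) ∧ P.c₂ (α (P.T i j k l)) = j ∧
      P.c₄ (α (P.T i j k l)) = i * P.c₄ (α P.x) + j * P.c₄ (α P.b) + l := by
  obtain ⟨h1, h2, h3⟩ := P.c_map α i j k l
  have ha : P.c₁ (α P.a) = 0 ∧ P.c₂ (α P.a) = 0 ∧ P.c₄ (α P.a) = 0 := by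
    rw [hα.a, ← P.T_a]; simp
  have hf : P.c₁ (α P.f) = 0 ∧ P.c₂ (α P.f) = 0 := by
    rw [P.map_f α]; simp
  rw [h1, h2, h3, ha.1, ha.2.1, ha.2.2, hf.1, hf.2, hα.x₁, hα.x₂, hα.b₂, hα.f₄]
  refine ⟨?_, ?_, ?_⟩ <;> ring

lemma apply' (hα : P.Uni α) (q : Q) :
    P.c₁ (α q) = P.c₁ q + P.c₂ q * P.c₁ (α P.b) ∧ P.c₂ (α q) = P.c₂ q ∧
      P.c₄ (α q) = P.c₁ q * P.c₄ (α P.x) + P.c₂ q * P.c₄ (α P.b) + P.c₄ q := by
  have := hα.apply (P.c₁ q) (P.c₂ q) (P.c₃ q) (P.c₄ q)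
  rwa [P.T_co] at this

lemma mul (hα : P.Uni α) (hβ : P.Uni β) : P.Uni (α * β) := by
  refine ⟨by rw [MulAut.mul_apply, hβ.a, hα.a], ?_, ?_, ?_, ?_⟩
  · rw [MulAut.mul_apply, (hα.apply' _).1, hβ.x₁, hβ.x₂, zero_mul, add_zero]
  · rw [MulAut.mul_apply, (hα.apply' _).2.1, hβ.x₂]
  · rw [MulAut.mul_apply, (hα.apply' _).2.1, hβ.b₂]
  · rw [MulAut.mul_apply, (hα.apply' _).2.2, hβ.f₄]
    have := P.map_f β
    rw [this]; simp

lemma one : P.Uni (1 : MulAut Q) := by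
  refine ⟨rfl, ?_, ?_, ?_, ?_⟩ <;> simp only [MulAut.one_apply]
  · rw [← P.T_x]; simp
  · rw [← P.T_x]; simp
  · rw [← P.T_b]; simp
  · rw [← P.T_f]; simp

lemma pow (hα : P.Uni α) : ∀ n : ℕ, P.Uni (α ^ n)
  | 0 => by rw [pow_zero]; exact one
  | n + 1 => by rw [pow_succ]; exact (pow hα n).mul hα

lemma mu_mul (hα : P.Uni α) (hβ : P.Uni β) :
    P.c₁ ((α * β) P.b) = P.c₁ (α P.b) + P.c₁ (β P.b) := by
  rw [MulAut.mul_apply, (hα.apply' _).1, hβ.b₂, one_mul, add_comm]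

lemma r_mul (hα : P.Uni α) (hβ : P.Uni β) :
    P.c₄ ((α * β) P.x) = P.c₄ (α P.x) + P.c₄ (β P.x) := by
  rw [MulAut.mul_apply, (hα.apply' _).2.2, hβ.x₁, hβ.x₂, one_mul, zero_mul, add_zero]

lemma s_mul (hα : P.Uni α) (hβ : P.Uni β) (hr : P.c₄ (α P.x) = 0) :
    P.c₄ ((α * β) P.b) = P.c₄ (α P.b) + P.c₄ (β P.b) := by
  rw [MulAut.mul_apply, (hα.apply' _).2.2, hβ.b₂, hr, mul_zero, zero_add, one_mul]

lemma f_eq (hα : P.Uni α) : α P.f = P.T 0 0 (P.c₃ (α P.f)) 1 := by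
  conv_lhs => rw [P.map_f α, hα.f₄]

lemma k_mul (hα : P.Uni α) (hβ : P.Uni β) :
    P.c₃ ((α * β) P.f) = P.c₃ (α P.f) + P.c₃ (β P.f) := by
  conv_lhs => rw [MulAut.mul_apply, hβ.f_eq, Frame.T, map_mul, map_mul, map_mul, map_pow, map_pow, map_pow,
    map_pow, hα.a, hα.f_eq]
  simp only [ZMod.val_zero, pow_zero, one_mul, ZMod.val_one, pow_one]
  rw [← pow_nat_val P.hap, ZMod.natCast_zmod_val,
    show P.a ^ (P.c₃ (β P.f)).val = P.T 0 0 (P.c₃ (β P.f)) 0 by simp [Frame.T], P.T_mul]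
  simp [add_comm]

lemma k_pow (hα : P.Uni α) : ∀ n : ℕ, P.c₃ ((α ^ n) P.f) = n * P.c₃ (α P.f)
  | 0 => by rw [pow_zero, MulAut.one_apply, ← P.T_f]; simp
  | n + 1 => by rw [pow_succ, (hα.pow n).k_mul hα, k_pow hα n]; push_cast; ring

lemma mu_pow (hα : P.Uni α) : ∀ n : ℕ, P.c₁ ((α ^ n) P.b) = n * P.c₁ (α P.b)
  | 0 => by rw [pow_zero, MulAut.one_apply, ← P.T_b]; simp
  | n + 1 => by rw [pow_succ, (hα.pow n).mu_mul hα, mu_pow hα n]; push_cast; ring

lemma r_pow (hα : P.Uni α) : ∀ n : ℕ, P.c₄ ((α ^ n) P.x) = n * P.c₄ (α P.x)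
  | 0 => by rw [pow_zero, MulAut.one_apply, ← P.T_x]; simp
  | n + 1 => by rw [pow_succ, (hα.pow n).r_mul hα, r_pow hα n]; push_cast; ring

lemma s_pow (hα : P.Uni α) (hr : P.c₄ (α P.x) = 0) : ∀ n : ℕ, P.c₄ ((α ^ n) P.b) = n * P.c₄ (α P.b)
  | 0 => by rw [pow_zero, MulAut.one_apply, ← P.T_b]; simp
  | n + 1 => by
    rw [pow_succ, (hα.pow n).s_mul hα (by rw [r_pow hα n, hr, mul_zero]), s_pow hα hr n]
    push_cast; ring

/-- Unipotent automorphisms have `p`-power order. -/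
lemma pow_cube (hα : P.Uni α) : α ^ p ^ 3 = 1 := by
  have e1 : ∀ {β : MulAut Q}, P.Uni β → P.Uni (β ^ p) ∧ P.c₁ ((β ^ p) P.b) = 0 ∧
      P.c₄ ((β ^ p) P.x) = 0 ∧ (β ^ p) P.f = P.f := fun {β} hβ => by
    refine ⟨hβ.pow p, by rw [hβ.mu_pow]; simp, by rw [hβ.r_pow]; simp, ?_⟩
    rw [(hβ.pow p).f_eq, hβ.k_pow]; simp [P.T_f]
  obtain ⟨h1, hμ, hr, hf⟩ := e1 hα
  -- the second step fixes `x`
  have hx : (α ^ p) P.x = P.T 1 0 (P.c₃ ((α ^ p) P.x)) 0 := by
    conv_lhs => rw [← P.T_co ((α ^ p) P.x), h1.x₁, h1.x₂, hr]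
  set β := α ^ p with hβ
  have hb : β P.b = P.T 0 1 (P.c₃ (β P.b)) (P.c₄ (β P.b)) := by
    conv_lhs => rw [← P.T_co (β P.b), hμ, h1.b₂]
  have hxn : ∀ n : ℕ, (β ^ n) P.x = P.T 1 0 (n * P.c₃ (β P.x)) 0 := by
    intro n
    induction n with
    | zero => simp [P.T_x]
    | succ n ih =>
      rw [pow_succ', MulAut.mul_apply, ih]
      conv_lhs => rw [Frame.T, map_mul, map_mul, map_mul, map_pow, map_pow, map_pow, map_pow, hx, h1.a, hf]
      simp only [ZMod.val_zero, pow_zero, mul_one, ZMod.val_one, pow_one, c₃_T]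
      rw [show P.a ^ ((n : ZMod p) * P.c₃ (β P.x)).val = P.T 0 0 ((n : ZMod p) * P.c₃ (β P.x)) 0 by
        simp [Frame.T], P.T_mul]
      congr 1 <;> push_cast <;> ring
  have hγx : (β ^ p) P.x = P.x := by rw [hxn]; simp [P.T_x]
  obtain ⟨h2, hμ2, hr2, hf2⟩ := e1 h1
  set γ := β ^ p
  have hbn : ∀ n : ℕ, (γ ^ n) P.b = P.T 0 1 (n * P.c₃ (γ P.b)) (n * P.c₄ (γ P.b)) := by
    intro n
    induction n with
    | zero => simp [P.T_b]
    | succ n ih =>
      have hb2 : γ P.b = P.T 0 1 (P.c₃ (γ P.b)) (P.c₄ (γ P.b)) := by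
        conv_lhs => rw [← P.T_co (γ P.b), hμ2, h2.b₂]
      rw [pow_succ', MulAut.mul_apply, ih]
      conv_lhs => rw [Frame.T, map_mul, map_mul, map_mul, map_pow, map_pow, map_pow, map_pow, hγx, h2.a, hf2,
        hb2]
      simp only [ZMod.val_zero, pow_zero, one_mul, ZMod.val_one, pow_one, c₃_T, c₄_T]
      rw [show P.a ^ ((n : ZMod p) * P.c₃ (γ P.b)).val = P.T 0 0 ((n : ZMod p) * P.c₃ (γ P.b)) 0 by
        simp [Frame.T], show P.f ^ ((n : ZMod p) * P.c₄ (γ P.b)).val = P.T 0 0 0 ((n : ZMod p) * P.c₄ (γ P.b)) by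
        simp [Frame.T], P.T_mul, P.T_mul]
      congr 1 <;> push_cast <;> ring
  rw [show α ^ p ^ 3 = γ ^ p by simp only [γ, hβ, ← pow_mul]; ring_nf]
  refine MulEquiv.ext fun q => ?_
  have hgb : (γ ^ p) P.b = P.b := by rw [hbn]; simp [P.T_b]
  have hgx : (γ ^ p) P.x = P.x := by
    have : ∀ n : ℕ, (γ ^ n) P.x = P.x := fun n => by
      induction n with
      | zero => simp
      | succ n ih => rw [pow_succ, MulAut.mul_apply, hγx, ih]
    exact this p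
  have hgf : (γ ^ p) P.f = P.f := (e1 h2).2.2.2
  have hga : (γ ^ p) P.a = P.a := (h2.pow p).a
  rw [MulAut.one_apply, ← P.T_co q, Frame.T, map_mul, map_mul, map_mul, map_pow, map_pow, map_pow, map_pow,
    hgx, hgb, hga, hgf]

end Frame.Uni

end Cfsg.Agent.LocalEvenD.RTE
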