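import Cfsg.Agent.LocalEvenD.RankThreeEss.GL3Base

/-!
# Sylow subgroups of groups with a strongly `p`-embedded subgroup inside `GL₃(p)`
-/

set_option autoImplicit false
set_option linter.style.haveILetI false

namespace Cfsg.Agent.LocalEvenD.RTE

open Cfsg.Agent.LocalEven61 (NormalizersLE ConjInterCoprime)

variable {V : Type*} [CommGroup V] [Finite V] {L : Type*} [Group L] [Finite L] {p : ℕ} [Fact p.Prime]

/-- A faithful action on `p³` with a strongly `p`-embedded subgroup `M ≥ P`, `P` a Sylow subgroup. -/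
structure Ctx (p : ℕ) (ρ : L →* MulAut V) (M P : Subgroup L) : Prop where
  inj : Function.Injective ρ
  exp : ∀ v : V, v ^ p = 1
  card : Nat.card V = p ^ 3
  odd : 2 < p
  nle : NormalizersLE p M
  cic : ConjInterCoprime p M
  ne_top : M ≠ ⊤
  le : P ≤ M
  isP : IsPGroup p P
  max : ∀ Q : Subgroup L, IsPGroup p Q → P ≤ Q → Q = P
  ne_bot : P ≠ ⊥

variable {ρ : L →* MulAut V} {M P : Subgroup L}

lemma isPGroup_zp {q : L} (hq : q ^ p = 1) : IsPGroup p (Subgroup.zpowers q) := by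
  rintro ⟨x, hx⟩
  obtain ⟨i, rfl⟩ := hx
  exact ⟨1, Subtype.ext (by
    rw [pow_one]
    show (q ^ i) ^ p = 1
    rw [← zpow_natCast, ← zpow_mul, mul_comm, zpow_mul, zpow_natCast, hq, one_zpow])⟩

namespace Ctx

variable (C : Ctx p ρ M P)
include C

lemma centralizer_le {q n : L} (hq : q ^ p = 1) (hq1 : q ≠ 1) (hqM : q ∈ M) (h : n * q = q * n) :
    n ∈ M := by
  refine C.nle _ (Subgroup.zpowers_le.mpr hqM) (isPGroup_zp hq)
    (Subgroup.zpowers_ne_bot.mpr hq1) ?_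
  exact Subgroup.centralizer_le_normalizer _ (Subgroup.mem_centralizer_iff.mpr fun x hx => by
    obtain ⟨i, rfl⟩ := hx
    exact (Commute.zpow_left (h.symm : Commute q n) i).eq)

lemma conj_not_mem {z g : L} (hz : z ^ p = 1) (hz1 : z ≠ 1) (hzM : z ∈ M) (hg : g ∉ M) :
    g * z * g⁻¹ ∉ M := by
  intro hm
  refine C.cic g hg ?_
  have hle : Subgroup.zpowers (g * z * g⁻¹) ≤ M ⊓ M.map (MulAut.conj g).toMonoidHom :=
    Subgroup.zpowers_le.mpr ⟨hm, z, hzM, by simp⟩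
  have := Subgroup.card_dvd_of_le hle
  rwa [Nat.card_zpowers, show g * z * g⁻¹ = MulAut.conj g z by simp, MulEquiv.orderOf_eq,
    orderOf_eq_prime hz hz1] at this

lemma exists_not_mem : ∃ g : L, g ∉ M := by
  by_contra h
  push Not at h
  exact C.ne_top (eq_top_iff.mpr fun x _ => h x)

/-- A transvection of `M` together with a transvection outside `M` is an opposite pair. -/
lemma opposite {z w : L} {a b : V} {h k : Subgroup V} (T : IsTr p ρ z a h) (T' : IsTr p ρ w b k)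
    (hz : z ∈ M) (hw : w ∉ M) : a ∉ k ∧ b ∉ h := by
  have key : ∀ {e : L}, e * (w * z) = z * w → e * z = z * e → e * w = w * e → e ^ p = 1 → False := by
    intro e h1 h2 h3 h4
    rcases eq_or_ne e 1 with rfl | he
    · rw [one_mul] at h1
      exact hw (C.centralizer_le (T.pow_p C.inj C.exp) T.ne hz h1)
    · exact hw (C.centralizer_le h4 he
        (C.centralizer_le (T.pow_p C.inj C.exp) T.ne hz h2) h3.symm)
  refine ⟨fun ha => ?_, fun hb => ?_⟩
  · obtain ⟨e, h1, h2, h3, h4, -⟩ := T.half C.inj C.exp T' ha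
    exact key h1 h2 h3 h4
  · obtain ⟨e, h1, h2, h3, h4, -⟩ := T'.half C.inj C.exp T hb
    rcases eq_or_ne e 1 with rfl | he
    · rw [one_mul] at h1
      exact hw (C.centralizer_le (T.pow_p C.inj C.exp) T.ne hz h1.symm)
    · exact hw (C.centralizer_le h4 he
        (C.centralizer_le (T.pow_p C.inj C.exp) T.ne hz h3) h2.symm)

lemma stab_trivial {w : L} {W : Subgroup V} (hw : w ∉ M) (hW : ∀ v ∈ W, ρ w v ∈ W) {q : L}
    (hq : q ∈ M) (hqs : q ∈ stab ρ W) : q = 1 := by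
  by_contra hq1
  have hQM : stab ρ W ≤ M := fun n hn =>
    C.centralizer_le (stab_pow C.inj C.exp hqs) hq1 hq (stab_comm C.inj hn hqs)
  refine hw (C.nle _ hQM (stab_isPGroup C.inj C.exp W) (fun h => hq1 ?_) ?_)
  · exact (Subgroup.eq_bot_iff_forall _).mp h q hqs
  · refine Subgroup.mem_normalizer_iff.mpr fun n => ⟨conj_mem_stab hW (inv_invariant hW), fun hn => ?_⟩
    have := conj_mem_stab (g := w⁻¹) (inv_invariant hW) (by simpa using hW) hn
    simpa [mul_assoc] using this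

/-- The flag fixed by the Sylow subgroup. -/
lemma exists_flag : ∃ (a : V) (h : Subgroup V), a ≠ 1 ∧ a ∈ h ∧ Nat.card h = p ^ 2 ∧
    (∀ u ∈ P, ρ u a = a) ∧ (∀ u ∈ P, ∀ v ∈ h, dsp ρ u v ∈ Subgroup.zpowers a) ∧
    ∀ u ∈ P, ∀ v, dsp ρ u v ∈ h := by
  obtain ⟨a, -, ha1, ha⟩ := exists_fixed C.isP (U := (⊤ : Subgroup V)) (ρ := ρ)
    (fun u _ v _ => Subgroup.mem_top _) (by rw [Subgroup.card_top, C.card]; exact dvd_pow_self p (by norm_num))
  set A := Subgroup.zpowers a with hA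
  have hAinv : ∀ u : P, ∀ v ∈ A, (ρ.comp P.subtype) u v ∈ A := by
    rintro u v ⟨i, rfl⟩
    show ρ (u : L) (a ^ i) ∈ A
    rw [map_zpow, ha u u.2]
    exact Subgroup.zpow_mem _ (Subgroup.mem_zpowers a) i
  have hcq : Nat.card (V ⧸ A) = p ^ 2 := by
    have := Subgroup.card_eq_card_quotient_mul_card_subgroup A
    rw [C.card, hA, card_zp C.exp ha1, pow_succ] at this
    exact Nat.eq_of_mul_eq_mul_right (Fact.out : p.Prime).pos this.symm
  obtain ⟨q, -, hq1, hq⟩ := exists_fixed (P := (⊤ : Subgroup P)) (C.isP.to_subgroup ⊤)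
    (U := (⊤ : Subgroup (V ⧸ A))) (ρ := qact (ρ.comp P.subtype) A hAinv)
    (fun u _ v _ => Subgroup.mem_top _) (by rw [Subgroup.card_top, hcq]; exact dvd_pow_self p (by norm_num))
  obtain ⟨v₁, rfl⟩ := QuotientGroup.mk_surjective q
  have hv₁ : v₁ ∉ A := fun h => hq1 ((QuotientGroup.eq_one_iff v₁).mpr h)
  have hd₁ : ∀ u ∈ P, dsp ρ u v₁ ∈ A := fun u hu =>
    QuotientGroup.eq.mp (hq ⟨u, hu⟩ (Subgroup.mem_top _)).symm
  set h := A ⊔ Subgroup.zpowers v₁ with hh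
  have hlt : A < h := lt_of_le_of_ne le_sup_left fun he =>
    hv₁ (he.ge (Subgroup.mem_sup_right (Subgroup.mem_zpowers v₁)))
  have hcard : Nat.card h = p ^ 2 := by
    refine le_antisymm ?_ (le_trans (by rw [hA, card_zp C.exp ha1, sq]) (card_mul_le C.exp hlt))
    refine le_trans (Nat.card_le_card_of_surjective
      (fun x : A × Subgroup.zpowers v₁ => (⟨x.1 * x.2, Subgroup.mul_mem_sup x.1.2 x.2.2⟩ : h))
      fun ⟨y, hy⟩ => ?_) ?_
    · obtain ⟨a', ha', b', hb', rfl⟩ := Subgroup.mem_sup.mp hy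
      exact ⟨(⟨a', ha'⟩, ⟨b', hb'⟩), rfl⟩
    · rw [Nat.card_prod, hA, card_zp C.exp ha1, card_zp C.exp (fun e => hv₁ (by rw [e]; exact A.one_mem)), sq]
  have hd : ∀ u ∈ P, ∀ v ∈ h, dsp ρ u v ∈ A := by
    intro u hu v hv
    obtain ⟨x, hx, y, hy, rfl⟩ := Subgroup.mem_sup.mp hv
    obtain ⟨i, rfl⟩ := exists_pow_eq C.exp hx
    obtain ⟨j, rfl⟩ := exists_pow_eq C.exp hy
    have hm : ∀ (w : V) (n : ℕ), dsp ρ u (w ^ n) = dsp ρ u w ^ n := fun w n => by
      simp [dsp, map_pow, mul_pow]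
    rw [dsp_mul_right, hm, hm, dsp_eq_one.mpr (ha u hu), one_pow, one_mul]
    exact A.pow_mem (hd₁ u hu) j
  have hinv : ∀ u ∈ P, ∀ v ∈ h, ρ u v ∈ h := fun u hu v hv => by
    rw [apply_eq (ρ := ρ) u v]
    exact h.mul_mem hv (hlt.le (hd u hu v hv))
  refine ⟨a, h, ha1, hlt.le (Subgroup.mem_zpowers a), hcard, ha, hd, fun u hu v => ?_⟩
  refine dsp_mem_of_step C.isP hinv (W := ⊤) (fun u _ v _ => Subgroup.mem_top _) ?_ hu (Subgroup.mem_top v)
  rw [Subgroup.relIndex_top_right]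
  have := h.card_mul_index
  rw [hcard, C.card, pow_succ p 2] at this
  exact Nat.eq_of_mul_eq_mul_left (pow_pos (Fact.out : p.Prime).pos 2) this

/-- A `p`-element commuting with a transvection `z` of `P` lies in `P` if `P` preserves the flag
of `z`. -/
lemma mem_of_central {z : L} {a : V} {h : Subgroup V} (T : IsTr p ρ z a h)
    (ha : ∀ u ∈ P, ρ u a = a) (hd : ∀ u ∈ P, ∀ v ∈ h, dsp ρ u v ∈ Subgroup.zpowers a)
    (hh : ∀ u ∈ P, ∀ v, dsp ρ u v ∈ h) {q : L} (hq : q ^ p = 1) (hc : q * z = z * q) : q ∈ P := by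
  have hAh : Subgroup.zpowers a ≤ h := Subgroup.zpowers_le.mpr T.mem
  set U := flagGroup ρ (Subgroup.zpowers a) h hAh
  have hPU : P ≤ U := fun u hu => ⟨fun v hv => by
    obtain ⟨i, rfl⟩ := hv
    rw [map_zpow, ha u hu], hd u hu, hh u hu⟩
  rw [← C.max U (flagGroup_isPGroup C.odd C.inj C.exp hAh) hPU]
  have hQ := isPGroup_zp hq
  have hcomm : ∀ x ∈ Subgroup.zpowers q, x * z = z * x := fun x hx => by
    obtain ⟨i, rfl⟩ := hx
    exact (Commute.zpow_left (hc : Commute q z) i).eq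
  have hinvh : ∀ x ∈ Subgroup.zpowers q, ∀ v ∈ h, ρ x v ∈ h := fun x hx v hv =>
    T.mem_of_fix C.inj C.exp C.card (by
      rw [← MulAut.mul_apply, ← map_mul, ← hcomm x hx, map_mul, MulAut.mul_apply, T.fix v hv])
  obtain ⟨v, hv⟩ : ∃ v, dsp ρ z v ≠ 1 := by
    by_contra hc'
    push Not at hc'
    exact T.ne (C.inj (MulEquiv.ext fun v => by rw [map_one, MulAut.one_apply, dsp_eq_one.mp (hc' v)]))
  have hinvA : ∀ x ∈ Subgroup.zpowers q, ∀ w ∈ Subgroup.zpowers a, ρ x w ∈ Subgroup.zpowers a := by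
    intro x hx w hw
    obtain ⟨i, rfl⟩ := gen_of_mem C.exp T.cne hv (T.move v)
      |> fun hg => Subgroup.zpowers_le.mpr hg hw
    show ρ x (dsp ρ z v ^ i) ∈ _
    rw [map_zpow]
    refine Subgroup.zpow_mem _ ?_ i
    have : ρ x (dsp ρ z v) = dsp ρ z (ρ x v) := by
      simp only [dsp, map_mul, map_inv]
      rw [← MulAut.mul_apply, ← map_mul, hcomm x hx, map_mul, MulAut.mul_apply]
    exact this ▸ T.move _
  have hidx : h.index = p := by
    have := h.card_mul_index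
    rw [T.card, C.card, pow_succ p 2] at this
    exact Nat.eq_of_mul_eq_mul_left (pow_pos (Fact.out : p.Prime).pos 2) this
  refine ⟨fun w hw => fix_line hQ hinvA (card_zp C.exp T.cne) (Subgroup.mem_zpowers q) hw,
    fun w hw => dsp_mem_of_step hQ hinvA hinvh ?_ (Subgroup.mem_zpowers q) hw,
    fun w => dsp_mem_of_step hQ hinvh (W := ⊤) (fun _ _ _ _ => Subgroup.mem_top _)
      (by rw [Subgroup.relIndex_top_right, hidx]) (Subgroup.mem_zpowers q) (Subgroup.mem_top w)⟩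
  have := Subgroup.relIndex_mul_index hAh
  have h2 := (Subgroup.zpowers a).card_mul_index
  rw [← this, hidx, card_zp C.exp T.cne, C.card] at h2
  have hp0 := (Fact.out : p.Prime).pos
  have : (Subgroup.zpowers a).relIndex h * (p * p) = p * (p * p) := by linarith [h2]
  exact Nat.eq_of_mul_eq_mul_right (Nat.mul_pos hp0 hp0) this

/-- A Sylow subgroup of order at least `p²` contains a transvection preserving its flag. -/
lemma exists_tr_of_large (hP : p ^ 2 ≤ Nat.card P) : ∃ (z : L) (a : V) (h : Subgroup V), z ∈ P ∧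
    IsTr p ρ z a h ∧ (∀ u ∈ P, ρ u a = a) ∧ (∀ u ∈ P, ∀ v ∈ h, dsp ρ u v ∈ Subgroup.zpowers a) ∧
    ∀ u ∈ P, ∀ v, dsp ρ u v ∈ h := by
  obtain ⟨a, h, ha1, hah, hhc, ha, hd, hh⟩ := C.exists_flag
  set A := Subgroup.zpowers a
  obtain ⟨v₀, hv₀⟩ : ∃ v, v ∉ h := by
    by_contra hc
    push Not at hc
    have : h = ⊤ := eq_top_iff.mpr fun v _ => hc v
    rw [this, Subgroup.card_top, C.card] at hhc
    exact absurd (Nat.pow_right_injective (Fact.out : p.Prime).two_le hhc) (by norm_num)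
  obtain ⟨f₀, hf₀, hf₀A⟩ : ∃ f ∈ h, f ∉ A := by
    by_contra hc
    push Not at hc
    have := Subgroup.card_le_of_le (hc : h ≤ A)
    rw [card_zp C.exp ha1, hhc, sq] at this
    nlinarith [(Fact.out : p.Prime).two_le]
  by_cases hker : ∃ z ∈ P, z ≠ 1 ∧ (∀ v ∈ h, ρ z v = v) ∧ dsp ρ z v₀ ∈ A
  · obtain ⟨z, hz, hz1, hzh, hz0⟩ := hker
    refine ⟨z, a, h, hz, ⟨hz1, ha1, hah, hhc, hzh, fun v => ?_⟩, ha, hd, hh⟩
    obtain ⟨y, hy, n, rfl⟩ := decomp C.exp C.card hhc hv₀ v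
    rw [dsp_mul_right, dsp_eq_one.mpr (hzh y hy), one_mul]
    have : dsp ρ z (v₀ ^ n) = dsp ρ z v₀ ^ n := by simp [dsp, map_pow, mul_pow]
    exact this ▸ A.pow_mem hz0 n
  exfalso
  push Not at hker
  have hfix : ∀ u ∈ P, dsp ρ u f₀ = 1 → ∀ v ∈ h, ρ u v = v := by
    intro u hu hu0 v hv
    obtain ⟨i, j, rfl⟩ := decomp_two C.exp hhc hah hf₀ ha1 hf₀A hv
    rw [map_mul, map_pow, map_pow, ha u hu, dsp_eq_one.mp hu0]
  have hmul0 : ∀ u ∈ P, ∀ u' ∈ P, dsp ρ (u * u') f₀ = dsp ρ u f₀ * dsp ρ u' f₀ := by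
    intro u hu u' hu'
    have : ρ u (dsp ρ u' f₀) = dsp ρ u' f₀ := by
      obtain ⟨i, hi⟩ := exists_pow_eq C.exp (hd u' hu' f₀ hf₀)
      rw [hi, map_pow, ha u hu]
    rw [dsp, map_mul, MulAut.mul_apply, apply_eq (ρ := ρ) u' f₀, map_mul, this, ← mul_assoc, ← dsp]
  have hmulv : ∀ u ∈ P, ∀ u' ∈ P,
      ((dsp ρ (u * u') v₀ : V) : V ⧸ A) = (dsp ρ u v₀ * dsp ρ u' v₀ : V) := by
    intro u hu u' hu'
    have : dsp ρ (u * u') v₀ = dsp ρ u v₀ * dsp ρ u' v₀ * dsp ρ u (dsp ρ u' v₀) := by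
      rw [dsp, map_mul, MulAut.mul_apply, apply_eq (ρ := ρ) u' v₀, map_mul,
        apply_eq (ρ := ρ) u (dsp ρ u' v₀), apply_eq (ρ := ρ) u v₀]
      simp [mul_assoc]
    rw [this, QuotientGroup.mk_mul _ (dsp ρ u v₀ * dsp ρ u' v₀),
      (QuotientGroup.eq_one_iff _).mpr (hd u hu _ (hh u' hu' v₀)), mul_one]
  let hbar : Subgroup (V ⧸ A) := h.map (QuotientGroup.mk' A)
  let Φ : P →* A × hbar :=
    { toFun := fun u => (⟨dsp ρ u f₀, hd u u.2 f₀ hf₀⟩, ⟨(dsp ρ u v₀ : V), _, hh u u.2 v₀, rfl⟩)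
      map_one' := by ext <;> simp [dsp]
      map_mul' := fun u u' => Prod.ext (Subtype.ext (hmul0 u u.2 u' u'.2)) (Subtype.ext
        ((hmulv u u.2 u' u'.2).trans (QuotientGroup.mk_mul _ _ _))) }
  have hinj : Function.Injective Φ := by
    refine (injective_iff_map_eq_one Φ).mpr fun u hu => Subtype.ext ?_
    by_contra hu1
    have h1 := congrArg (fun q : A × hbar => (q.1 : V)) hu
    have h2 := congrArg (fun q : A × hbar => (q.2 : V ⧸ A)) hu
    exact hker u u.2 hu1 (hfix u u.2 h1) ((QuotientGroup.eq_one_iff _).mp h2)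
  have hcard : Nat.card (A × hbar) = p ^ 2 := by
    have h1 : Nat.card hbar * p = p ^ 2 := by
      have := Subgroup.card_eq_card_quotient_mul_card_subgroup (A.subgroupOf h)
      have hAh : A ≤ h := Subgroup.zpowers_le.mpr hah
      rw [hhc, Nat.card_congr (Subgroup.subgroupOfEquivOfLe hAh).toEquiv, card_zp C.exp ha1] at this
      have e : Nat.card hbar = Nat.card (h ⧸ A.subgroupOf h) := by
        have e1 := Nat.card_congr
          (QuotientGroup.quotientKerEquivRange ((QuotientGroup.mk' A).comp h.subtype)).toEquiv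
        rw [MonoidHom.range_comp, Subgroup.range_subtype] at e1
        rw [← e1]
        congr 2
        ext x
        simp [Subgroup.mem_subgroupOf]
      rw [e, ← this]
    rw [Nat.card_prod, card_zp C.exp ha1, mul_comm, h1]
  have hsurj : Function.Surjective Φ :=
    ((Nat.bijective_iff_injective_and_card Φ).mpr
      ⟨hinj, le_antisymm (Nat.card_le_card_of_injective _ hinj) (hcard ▸ hP)⟩).2
  obtain ⟨u₁, hu₁⟩ := hsurj (1, ⟨(f₀ : V), f₀, hf₀, rfl⟩)
  obtain ⟨u₂, hu₂⟩ := hsurj (⟨a, Subgroup.mem_zpowers a⟩, 1)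
  have hcomm : u₁ * u₂ = u₂ * u₁ := hinj (by rw [map_mul, map_mul, mul_comm])
  have h11 : dsp ρ (u₁ : L) f₀ = 1 := congrArg (fun q : A × hbar => (q.1 : V)) hu₁
  have h12 : ((dsp ρ (u₁ : L) v₀ : V) : V ⧸ A) = f₀ := congrArg (fun q : A × hbar => (q.2 : V ⧸ A)) hu₁
  have h21 : dsp ρ (u₂ : L) f₀ = a := congrArg (fun q : A × hbar => (q.1 : V)) hu₂
  have h22 : dsp ρ (u₂ : L) v₀ ∈ A :=
    (QuotientGroup.eq_one_iff _).mp (congrArg (fun q : A × hbar => (q.2 : V ⧸ A)) hu₂)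
  obtain ⟨i, hi⟩ := exists_pow_eq C.exp (QuotientGroup.eq.mp h12.symm)
  obtain ⟨j, hj⟩ := exists_pow_eq C.exp h22
  have hd1 : dsp ρ (u₁ : L) v₀ = f₀ * a ^ i := by rw [← hi, mul_inv_cancel_left]
  have e1 : ρ ((u₁ * u₂ : P) : L) v₀ = v₀ * (f₀ * a ^ i) * a ^ j := by
    rw [Subgroup.coe_mul, map_mul, MulAut.mul_apply, apply_eq (ρ := ρ) (u₂ : L) v₀, hj, map_mul,
      map_pow, ha _ u₁.2, apply_eq (ρ := ρ) (u₁ : L) v₀, hd1]
  have e2 : ρ ((u₂ * u₁ : P) : L) v₀ = v₀ * a ^ j * ((f₀ * a) * a ^ i) := by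
    rw [Subgroup.coe_mul, map_mul, MulAut.mul_apply, apply_eq (ρ := ρ) (u₁ : L) v₀, hd1, map_mul,
      map_mul, map_pow, ha _ u₂.2, apply_eq (ρ := ρ) (u₂ : L) v₀, hj, apply_eq (ρ := ρ) (u₂ : L) f₀,
      h21]
  rw [hcomm, e2] at e1
  refine ha1 ?_
  have : v₀ * (f₀ * a ^ i) * a ^ j * a = v₀ * (f₀ * a ^ i) * a ^ j * 1 := by
    rw [mul_one]
    conv_rhs => rw [← e1]
    simp [mul_assoc, mul_left_comm, mul_comm]
  exact mul_left_cancel this

/-- The Sylow subgroup has order less than `p²`. -/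
theorem card_lt : Nat.card P < p ^ 2 := by
  by_contra hP
  rw [not_lt] at hP
  obtain ⟨z, a, h, hz, T, ha, hd, hh⟩ := C.exists_tr_of_large hP
  have hzp := T.pow_p C.inj C.exp
  obtain ⟨g, hg⟩ := C.exists_not_mem
  set w := g * z * g⁻¹ with hw
  set a' := ρ g a with ha'
  set h' := h.map (ρ g).toMonoidHom
  have T' : IsTr p ρ w a' h' := T.conj g
  have hwM : w ∉ M := C.conj_not_mem hzp T.ne (C.le hz) hg
  obtain ⟨hak, hbh⟩ := C.opposite T T' (C.le hz) hwM
  obtain ⟨f₀, hf₀, hf₀', hf₀1⟩ := exists_mem_inter C.exp C.card T.card T'.card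
  have hf₀a : f₀ ∉ Subgroup.zpowers a := fun hm =>
    hak (Subgroup.zpowers_le.mpr hf₀' (gen_of_mem C.exp T.cne hf₀1 hm))
  have hm : ∀ (u : L) (x : V) (n : ℕ), dsp ρ u (x ^ n) = dsp ρ u x ^ n := fun u x n => by
    simp [dsp, map_pow, mul_pow]
  obtain ⟨y, hy⟩ := exists_pow_eq C.exp (T.move a')
  have hy0 : (y : ZMod p) ≠ 0 := fun h0 => hbh (T.mem_of_fix C.inj C.exp C.card (dsp_eq_one.mp (by
    rw [hy, pow_cast C.exp a (h0.trans Nat.cast_zero.symm), pow_zero])))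
  -- correct `u` by a power of `z`
  have adjust : ∀ (u : L), (∀ v ∈ h, ρ u v = v) ∨ u ∈ P → ∀ i : ℕ, ∃ n : ℕ,
      dsp ρ (u * z ^ n) a' = dsp ρ u a' * (a ^ i)⁻¹ := by
    intro u hu i
    refine ⟨((-(i : ZMod p)) / y).val, ?_⟩
    have hua : ρ u a = a := hu.elim (fun h0 => h0 a T.mem) (ha u)
    rw [dsp, map_mul, MulAut.mul_apply, iter_apply (T.fix_pow_a (T.move a')), hy, map_mul, map_pow,
      map_pow, hua, ← mul_assoc, ← dsp, ← pow_mul]
    congr 1
    rw [eq_inv_iff_mul_eq_one, ← pow_add, ← pow_zero a]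
    refine pow_cast C.exp a ?_
    push_cast
    rw [ZMod.natCast_zmod_val]
    field_simp
    ring
  have hz_of : ∀ u ∈ P, dsp ρ u f₀ = 1 → u ∈ Subgroup.zpowers z := by
    intro u hu hu0
    obtain ⟨i, j, hij⟩ := decomp_two C.exp T.card T.mem hf₀ T.cne hf₀a (hh u hu a')
    obtain ⟨n, hn⟩ := adjust u (Or.inr hu) i
    rw [hij, mul_comm, inv_mul_cancel_left] at hn
    have hfix : ∀ v ∈ h, ρ (u * z ^ n) v = v := by
      intro v hv
      rw [map_mul, MulAut.mul_apply, fix_pow (T.fix v hv)]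
      obtain ⟨i, j, rfl⟩ := decomp_two C.exp T.card T.mem hf₀ T.cne hf₀a hv
      rw [map_mul, map_pow, map_pow, ha u hu, dsp_eq_one.mp hu0]
    have hW : ∀ v ∈ Subgroup.zpowers f₀, ρ w v ∈ Subgroup.zpowers f₀ := fun v hv => by
      rw [T'.fix v (Subgroup.zpowers_le.mpr hf₀' hv)]; exact hv
    have := C.stab_trivial hwM hW (C.le (mul_mem hu (pow_mem hz n))) ⟨fun v => ?_, fun v hv =>
      hfix v (Subgroup.zpowers_le.mpr hf₀ hv)⟩
    · rw [mul_eq_one_iff_eq_inv] at this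
      rw [this]
      exact inv_mem (pow_mem (Subgroup.mem_zpowers z) n)
    · obtain ⟨x, hx, m, rfl⟩ := decomp C.exp C.card T.card hbh v
      rw [dsp_mul_right, dsp_eq_one.mpr (hfix x hx), one_mul, hm, hn]
      exact Subgroup.pow_mem _ (Subgroup.pow_mem _ (Subgroup.mem_zpowers _) _) _
  have hz_of' : ∀ u ∈ P, dsp ρ u a' ∈ Subgroup.zpowers a → u ∈ Subgroup.zpowers z := by
    intro u hu hu0
    obtain ⟨i, hi⟩ := exists_pow_eq C.exp hu0
    obtain ⟨n, hn⟩ := adjust u (Or.inr hu) i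
    rw [hi, mul_inv_cancel] at hn
    set W := Subgroup.zpowers a ⊔ Subgroup.zpowers a'
    have hW : ∀ v ∈ W, ρ w v ∈ W := fun v hv => by
      rw [apply_eq (ρ := ρ) w v]
      exact W.mul_mem hv (Subgroup.mem_sup_right (T'.move v))
    have hua : ρ (u * z ^ n) a = a := by rw [map_mul, MulAut.mul_apply, fix_pow (T.fix a T.mem), ha u hu]
    have := C.stab_trivial hwM hW (C.le (mul_mem hu (pow_mem hz n))) ⟨fun v => ?_, fun v hv => ?_⟩
    · rw [mul_eq_one_iff_eq_inv] at this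
      rw [this]
      exact inv_mem (pow_mem (Subgroup.mem_zpowers z) n)
    · obtain ⟨x, hx, m, rfl⟩ := decomp C.exp C.card T.card hbh v
      rw [dsp_mul_right, hm, hn, one_pow, mul_one]
      exact Subgroup.mem_sup_left (hd _ (mul_mem hu (pow_mem hz n)) x hx)
    · obtain ⟨x, hx, x', hx', rfl⟩ := Subgroup.mem_sup.mp hv
      obtain ⟨i, rfl⟩ := exists_pow_eq C.exp hx
      obtain ⟨j, rfl⟩ := exists_pow_eq C.exp hx'
      rw [map_mul, map_pow, map_pow, hua, dsp_eq_one.mp hn]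
  have horb : Function.Injective (fun u : P => (⟨dsp ρ u a', hh u u.2 a'⟩ : h)) := by
    intro u₁ u₂ he
    have he' : ρ (u₁ : L) a' = ρ (u₂ : L) a' := by
      rw [apply_eq (ρ := ρ) (u₁ : L) a', apply_eq (ρ := ρ) (u₂ : L) a',
        show dsp ρ (u₁ : L) a' = dsp ρ (u₂ : L) a' from congrArg Subtype.val he]
    set u : L := (u₂ : L)⁻¹ * u₁ with hu
    have hfixa : ρ u a' = a' := by
      rw [hu, map_mul, MulAut.mul_apply, he', ← MulAut.mul_apply, ← map_mul, inv_mul_cancel, map_one,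
        MulAut.one_apply]
    obtain ⟨i, hi⟩ := hz_of' u (mul_mem (inv_mem u₂.2) u₁.2)
      (by rw [dsp_eq_one.mpr hfixa]; exact one_mem _)
    have : u = 1 := C.inj (MulEquiv.ext fun v => by
      obtain ⟨x, hx, m, rfl⟩ := decomp C.exp C.card T.card hbh v
      have hx' : ρ u x = x := by
        rw [← hi]
        show ρ (z ^ i) x = x
        rw [map_zpow]
        exact (Subgroup.zpow_mem (MulAction.stabilizer (MulAut V) x) (T.fix x hx) i : _)
      rw [map_mul, map_pow, hfixa, hx', map_one, MulAut.one_apply])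
    exact Subtype.ext (inv_mul_eq_one.mp this).symm
  have hsurj := ((Nat.bijective_iff_injective_and_card _).mpr
    ⟨horb, le_antisymm (Nat.card_le_card_of_injective _ horb) (T.card ▸ hP)⟩).2
  obtain ⟨u, hu⟩ := hsurj ⟨f₀, hf₀⟩
  have hu' : ρ (u : L) a' = a' * f₀ := by
    rw [apply_eq (ρ := ρ) (u : L) a', show dsp ρ (u : L) a' = f₀ from congrArg Subtype.val hu]
  -- the conjugate transvection with centre `g⁻¹ (a' f₀)`
  set k : L := g⁻¹ * u * g with hk
  have T3 := T.conj k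
  set v₃ := ρ k a with hv₃
  have hgv : ρ g v₃ = a' * f₀ := by
    rw [hv₃, hk, ← MulAut.mul_apply, ← map_mul,
      show g * (g⁻¹ * (u : L) * g) = (u : L) * g by simp [mul_assoc], map_mul, MulAut.mul_apply, hu']
  have hv₃h : v₃ ∈ h := by
    obtain ⟨x, hx, hxe⟩ : ρ g v₃ ∈ h' := hgv ▸ h'.mul_mem T'.mem hf₀'
    exact (ρ g).injective hxe ▸ hx
  have hv₃a : v₃ ∉ Subgroup.zpowers a := by
    intro hmem
    obtain ⟨i, hi⟩ := hmem
    have hi' : a' ^ i = a' * f₀ := by rw [← hgv, ← hi, map_zpow]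
    have hf : f₀ ∈ Subgroup.zpowers a' := ⟨-1 + i, by
      show a' ^ (-1 + i) = f₀
      rw [zpow_add, hi', zpow_neg_one, inv_mul_cancel_left]⟩
    exact hbh (Subgroup.zpowers_le.mpr hf₀ (gen_of_mem C.exp T'.cne hf₀1 hf))
  have final : ∀ q ∈ P, q ≠ 1 → (∀ v, dsp ρ q v ∈ Subgroup.zpowers v₃) → False := by
    intro q hq hq1 hmove
    obtain ⟨v, hv, hv'⟩ : ∃ v, dsp ρ q v ≠ 1 ∧ dsp ρ q v ∈ Subgroup.zpowers a := by
      rcases eq_or_ne (dsp ρ q f₀) 1 with h0 | h0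
      · obtain ⟨i, hi⟩ := hz_of q hq h0
        obtain ⟨v, hv⟩ : ∃ v, dsp ρ q v ≠ 1 := by
          by_contra hc
          push Not at hc
          exact hq1 (C.inj (MulEquiv.ext fun v => by rw [map_one, MulAut.one_apply, dsp_eq_one.mp (hc v)]))
        refine ⟨v, hv, ?_⟩
        obtain ⟨n, hn⟩ := (isOfFinOrder_of_finite z).mem_powers_iff_mem_zpowers.mpr ⟨i, hi⟩
        rw [← hn]
        show dsp ρ (z ^ n) v ∈ _
        rw [dsp, iter_apply (T.fix_pow_a (T.move v)), inv_mul_cancel_left]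
        exact Subgroup.pow_mem _ (T.move v) n
      · exact ⟨f₀, h0, hd q hq f₀ hf₀⟩
    exact hv₃a (Subgroup.zpowers_le.mpr hv' (gen_of_mem C.exp T3.cne hv (hmove v)))
  obtain ⟨e, h1, h2, h3, h4, h5⟩ := T3.half C.inj C.exp T hv₃h
  rcases eq_or_ne e 1 with rfl | he
  · rw [one_mul] at h1
    exact final _ (C.mem_of_central T ha hd hh (T3.pow_p C.inj C.exp) h1.symm) T3.ne T3.move
  · exact final e (C.mem_of_central T ha hd hh h4 h3) he h5

end Ctx

end Cfsg.Agent.LocalEvenD.RTE
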