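import Cfsg.Agent.LocalEvenD.RankThreeEss.Plane
import Cfsg.Agent.LocalEven61.StronglyEmbedded

/-!
# Strongly `p`-embedded subgroups of groups acting faithfully on `p³`: tools
-/

set_option autoImplicit false

namespace Cfsg.Agent.LocalEvenD.RTE

open Cfsg.Agent.LocalEven61 (NormalizersLE ConjInterCoprime)

variable {V : Type*} [CommGroup V] {L : Type*} [Group L] {p : ℕ} {ρ : L →* MulAut V}

/-- The action on the quotient by an invariant subgroup. -/
def qact (ρ : L →* MulAut V) (U : Subgroup V) (hU : ∀ u : L, ∀ v ∈ U, ρ u v ∈ U) :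
    L →* MulAut (V ⧸ U) where
  toFun u := QuotientGroup.congr U U (ρ u) (by
    refine le_antisymm ?_ fun v hv => ⟨ρ u⁻¹ v, hU _ v hv, ?_⟩
    · rintro _ ⟨v, hv, rfl⟩
      exact hU u v hv
    · show ρ u (ρ u⁻¹ v) = v
      rw [← MulAut.mul_apply, ← map_mul, mul_inv_cancel, map_one, MulAut.one_apply])
  map_one' := MulEquiv.ext fun q => by
    induction q using QuotientGroup.induction_on with
    | H v => simp
  map_mul' a b := MulEquiv.ext fun q => by
    induction q using QuotientGroup.induction_on with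
    | H v => simp

@[simp] lemma qact_mk {U : Subgroup V} {hU : ∀ u : L, ∀ v ∈ U, ρ u v ∈ U} (u : L) (v : V) :
    qact ρ U hU u (v : V ⧸ U) = ((ρ u v : V) : V ⧸ U) := rfl

lemma inv_invariant [Finite L] {u : L} {U : Subgroup V} (h : ∀ v ∈ U, ρ u v ∈ U) :
    ∀ v ∈ U, ρ u⁻¹ v ∈ U := by
  have hp : ∀ n : ℕ, ∀ v ∈ U, ρ (u ^ n) v ∈ U := by
    intro n
    induction n with
    | zero => simp
    | succ n ih =>
      intro v hv
      rw [pow_succ, map_mul, MulAut.mul_apply]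
      exact ih _ (h v hv)
  obtain ⟨n, hn⟩ := (isOfFinOrder_of_finite u).mem_powers_iff_mem_zpowers.mpr
    (Subgroup.inv_mem _ (Subgroup.mem_zpowers u))
  rw [← hn]
  exact hp n

section
variable [Fact p.Prime] (hV : ∀ v : V, v ^ p = 1)

include hV in
lemma card_zp {a : V} (ha : a ≠ 1) : Nat.card (Subgroup.zpowers a) = p := by
  rw [Nat.card_zpowers, orderOf_eq_prime (hV a) ha]

include hV in
lemma exists_pow_eq [Finite V] {a x : V} (hx : x ∈ Subgroup.zpowers a) : ∃ n : ℕ, x = a ^ n := by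
  obtain ⟨n, hn⟩ := (isOfFinOrder_of_finite a).mem_powers_iff_mem_zpowers.mpr hx
  exact ⟨n, hn.symm⟩

include hV in
lemma gen_of_mem {a x : V} (ha : a ≠ 1) (hx1 : x ≠ 1) (hx : x ∈ Subgroup.zpowers a) :
    a ∈ Subgroup.zpowers x := by
  haveI : Finite (Subgroup.zpowers a) :=
    Nat.finite_of_card_ne_zero (card_zp hV ha ▸ (Fact.out : p.Prime).ne_zero)
  rw [Subgroup.eq_of_le_of_card_ge (Subgroup.zpowers_le.mpr hx) (by rw [card_zp hV ha, card_zp hV hx1])]
  exact Subgroup.mem_zpowers a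

include hV in
lemma card_mul_le [Finite V] {U W : Subgroup V} (hUW : U < W) : p * Nat.card U ≤ Nat.card W := by
  have hP : IsPGroup p V := fun v => ⟨1, by rw [pow_one]; exact hV v⟩
  obtain ⟨i, hi⟩ := IsPGroup.iff_card.mp (hP.to_subgroup U)
  obtain ⟨j, hj⟩ := IsPGroup.iff_card.mp (hP.to_subgroup W)
  have hlt : Nat.card U < Nat.card W := by
    refine lt_of_le_of_ne (Subgroup.card_le_of_le hUW.le) fun h => hUW.ne ?_
    exact Subgroup.eq_of_le_of_card_ge hUW.le h.ge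
  rw [hi, hj] at hlt ⊢
  rw [← pow_succ']
  exact Nat.pow_le_pow_right (Fact.out : p.Prime).pos
    ((Nat.pow_lt_pow_iff_right (Fact.out : p.Prime).one_lt).mp hlt)

variable [Finite V] (hcard : Nat.card V = p ^ 3)

include hV hcard in
lemma decomp {h : Subgroup V} (hh : Nat.card h = p ^ 2) {v₀ : V} (hv₀ : v₀ ∉ h) (v : V) :
    ∃ y ∈ h, ∃ n : ℕ, v = y * v₀ ^ n := by
  have hlt : h < h ⊔ Subgroup.zpowers v₀ := lt_of_le_of_ne le_sup_left fun he =>
    hv₀ (he.ge (Subgroup.mem_sup_right (Subgroup.mem_zpowers v₀)))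
  have htop : h ⊔ Subgroup.zpowers v₀ = ⊤ := by
    refine Subgroup.eq_of_le_of_card_ge le_top ?_
    rw [Subgroup.card_top, hcard]
    exact le_trans (by rw [hh, ← pow_succ']) (card_mul_le hV hlt)
  obtain ⟨y, hy, w, hw, rfl⟩ := Subgroup.mem_sup.mp (htop ▸ Subgroup.mem_top v)
  obtain ⟨n, rfl⟩ := exists_pow_eq hV hw
  exact ⟨y, hy, n, rfl⟩

include hV in
lemma decomp_two {h : Subgroup V} (hh : Nat.card h = p ^ 2) {a f : V} (ha : a ∈ h) (hf : f ∈ h)
    (ha1 : a ≠ 1) (hfa : f ∉ Subgroup.zpowers a) {v : V} (hv : v ∈ h) :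
    ∃ i j : ℕ, v = a ^ i * f ^ j := by
  have hlt : Subgroup.zpowers a < Subgroup.zpowers a ⊔ Subgroup.zpowers f :=
    lt_of_le_of_ne le_sup_left fun he => hfa (he.ge (Subgroup.mem_sup_right (Subgroup.mem_zpowers f)))
  have heq : Subgroup.zpowers a ⊔ Subgroup.zpowers f = h := by
    refine Subgroup.eq_of_le_of_card_ge (sup_le (Subgroup.zpowers_le.mpr ha) (Subgroup.zpowers_le.mpr hf)) ?_
    exact le_trans (by rw [hh, card_zp hV ha1, sq]) (card_mul_le hV hlt)
  obtain ⟨x, hx, w, hw, rfl⟩ := Subgroup.mem_sup.mp (heq ▸ hv)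
  obtain ⟨i, rfl⟩ := exists_pow_eq hV hx
  obtain ⟨j, rfl⟩ := exists_pow_eq hV hw
  exact ⟨i, j, rfl⟩

include hV hcard in
lemma exists_mem_inter {h k : Subgroup V} (hh : Nat.card h = p ^ 2) (hk : Nat.card k = p ^ 2) :
    ∃ f ∈ h, f ∈ k ∧ f ≠ 1 := by
  by_contra hc
  push Not at hc
  have hinj : Function.Injective (fun q : h × k => (q.1 : V) * q.2) := by
    rintro ⟨⟨a, ha⟩, ⟨b, hb⟩⟩ ⟨⟨c, hc'⟩, ⟨d, hd⟩⟩ he
    simp only at he
    have h1 : c⁻¹ * a = d * b⁻¹ := by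
      rw [eq_mul_inv_iff_mul_eq, mul_assoc, he, inv_mul_cancel_left]
    have h2 := hc (c⁻¹ * a) (h.mul_mem (h.inv_mem hc') ha) (h1 ▸ k.mul_mem hd (k.inv_mem hb))
    have h3 : c = a := inv_mul_eq_one.mp h2
    subst h3
    simp only [mul_right_inj] at he
    subst he
    rfl
  have := Nat.card_le_card_of_injective _ hinj
  rw [Nat.card_prod, hh, hk, hcard, ← pow_add] at this
  exact absurd this (not_le.mpr (Nat.pow_lt_pow_right (Fact.out : p.Prime).one_lt (by norm_num)))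

end

/-- Elements moving everything into `W` and fixing `W`. -/
def stab (ρ : L →* MulAut V) (W : Subgroup V) : Subgroup L where
  carrier := {m | (∀ v, dsp ρ m v ∈ W) ∧ ∀ w ∈ W, ρ m w = w}
  one_mem' := ⟨fun v => by simp [dsp], fun w _ => by simp⟩
  mul_mem' {m n} hm hn := by
    refine ⟨fun v => ?_, fun w hw => by rw [map_mul, MulAut.mul_apply, hn.2 w hw, hm.2 w hw]⟩
    have : dsp ρ (m * n) v = dsp ρ m v * dsp ρ n v := by
      rw [dsp, map_mul, MulAut.mul_apply, apply_eq (ρ := ρ) n v, map_mul, hm.2 _ (hn.1 v),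
        ← mul_assoc, ← dsp]
    exact this ▸ W.mul_mem (hm.1 v) (hn.1 v)
  inv_mem' {m} hm := by
    refine ⟨fun v => ?_, fun w hw => fix_inv (hm.2 w hw)⟩
    set u := ρ m⁻¹ v with hu
    have h1 : ρ m u = v := by
      rw [hu, ← MulAut.mul_apply, ← map_mul, mul_inv_cancel, map_one, MulAut.one_apply]
    have : dsp ρ m⁻¹ v = (dsp ρ m u)⁻¹ := by
      rw [dsp, ← hu, dsp, h1, mul_inv_rev, inv_inv]
    exact this ▸ W.inv_mem (hm.1 u)

lemma stab_pow (hinj : Function.Injective ρ) (hV : ∀ v : V, v ^ p = 1) {W : Subgroup V} {m : L}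
    (hm : m ∈ stab ρ W) : m ^ p = 1 := by
  refine hinj (MulEquiv.ext fun v => ?_)
  rw [iter_apply (hm.2 _ (hm.1 v)), hV, mul_one, map_one, MulAut.one_apply]

lemma stab_isPGroup [Fact p.Prime] (hinj : Function.Injective ρ) (hV : ∀ v : V, v ^ p = 1)
    (W : Subgroup V) : IsPGroup p (stab ρ W) := fun m =>
  ⟨1, Subtype.ext (by rw [pow_one]; exact stab_pow hinj hV m.2)⟩

lemma stab_comm (hinj : Function.Injective ρ) {W : Subgroup V} {m n : L} (hm : m ∈ stab ρ W)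
    (hn : n ∈ stab ρ W) : m * n = n * m := by
  refine hinj (MulEquiv.ext fun v => ?_)
  rw [map_mul, map_mul, MulAut.mul_apply, MulAut.mul_apply, apply_eq (ρ := ρ) n v, map_mul,
    hm.2 _ (hn.1 v), apply_eq (ρ := ρ) m v, map_mul, hn.2 _ (hm.1 v), apply_eq (ρ := ρ) n v,
    mul_right_comm]

lemma conj_mem_stab {W : Subgroup V} {g m : L} (hg : ∀ v ∈ W, ρ g v ∈ W)
    (hg' : ∀ v ∈ W, ρ g⁻¹ v ∈ W) (hm : m ∈ stab ρ W) : g * m * g⁻¹ ∈ stab ρ W := by
  have hv : ∀ v, ρ g (ρ g⁻¹ v) = v := fun v => by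
    rw [← MulAut.mul_apply, ← map_mul, mul_inv_cancel, map_one, MulAut.one_apply]
  refine ⟨fun v => ?_, fun w hw => ?_⟩
  · have : dsp ρ (g * m * g⁻¹) v = ρ g (dsp ρ m (ρ g⁻¹ v)) := by
      simp only [dsp, map_mul, MulAut.mul_apply, map_inv, hv]
      rw [← map_inv ρ g, hv]
    exact this ▸ hg _ (hm.1 _)
  · rw [map_mul, map_mul, MulAut.mul_apply, MulAut.mul_apply, hm.2 _ (hg' w hw), hv]

/-- Unipotent elements for a flag. -/
def flagGroup (ρ : L →* MulAut V) (A h : Subgroup V) (hA : A ≤ h) : Subgroup L where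
  carrier := {m | (∀ v ∈ A, ρ m v = v) ∧ (∀ v ∈ h, dsp ρ m v ∈ A) ∧ ∀ v, dsp ρ m v ∈ h}
  one_mem' := ⟨fun v _ => by simp, fun v _ => by simp [dsp], fun v => by simp [dsp]⟩
  mul_mem' {m n} hm hn := by
    have key : ∀ v, dsp ρ (m * n) v = dsp ρ n v * dsp ρ m v * dsp ρ m (dsp ρ n v) := by
      intro v
      simp only [dsp, map_mul, MulAut.mul_apply, map_inv]
      apply mul_left_cancel (a := v)
      simp [mul_assoc, mul_left_comm, mul_comm]
    refine ⟨fun v hv => by rw [map_mul, MulAut.mul_apply, hn.1 v hv, hm.1 v hv], fun v hv => ?_,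
      fun v => ?_⟩
    · rw [key]
      exact A.mul_mem (A.mul_mem (hn.2.1 v hv) (hm.2.1 v hv))
        (by rw [show dsp ρ m (dsp ρ n v) = 1 from dsp_eq_one.mpr (hm.1 _ (hn.2.1 v hv))]; exact A.one_mem)
    · rw [key]
      exact h.mul_mem (h.mul_mem (hn.2.2 v) (hm.2.2 v)) (hm.2.2 _)
  inv_mem' {m} hm := by
    have h1 : ∀ v, ρ m (ρ m⁻¹ v) = v := fun v => by
      rw [← MulAut.mul_apply, ← map_mul, mul_inv_cancel, map_one, MulAut.one_apply]
    have key : ∀ v, dsp ρ m⁻¹ v = (dsp ρ m (ρ m⁻¹ v))⁻¹ := by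
      intro v
      simp only [dsp, mul_inv_rev, inv_inv, h1]
    have hh : ∀ v ∈ h, ρ m⁻¹ v ∈ h := by
      intro v _
      have h2 := key v
      have h3 : ρ m⁻¹ v = v * dsp ρ m⁻¹ v := apply_eq _ _
      rw [h3, h2]
      exact h.mul_mem ‹v ∈ h› (h.inv_mem (hm.2.2 _))
    refine ⟨fun v hv => fix_inv (hm.1 v hv), fun v hv => ?_, fun v => ?_⟩
    · rw [key]
      exact A.inv_mem (hm.2.1 _ (hh v hv))
    · rw [key]
      exact h.inv_mem (hm.2.2 _)

lemma flagGroup_isPGroup [Fact p.Prime] (hp2 : 2 < p) (hinj : Function.Injective ρ)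
    (hV : ∀ v : V, v ^ p = 1) {A h : Subgroup V} (hA : A ≤ h) : IsPGroup p (flagGroup ρ A h hA) := by
  rintro ⟨m, hm⟩
  refine ⟨1, Subtype.ext ?_⟩
  rw [pow_one]
  show m ^ p = 1
  refine hinj (MulEquiv.ext fun v => ?_)
  set d := dsp ρ m v with hd
  set e := dsp ρ m d with he
  have hfe : ρ m e = e := hm.1 _ (hm.2.1 _ (hm.2.2 v))
  have : ∀ n : ℕ, ρ (m ^ n) v = v * d ^ n * e ^ n.choose 2 := by
    intro n
    induction n with
    | zero => simp
    | succ n ih =>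
      rw [pow_succ', map_mul, MulAut.mul_apply, ih, map_mul, map_mul, map_pow, map_pow, hfe,
        apply_eq (ρ := ρ) m v, ← hd, apply_eq (ρ := ρ) m d, ← he, Nat.choose_succ_succ', Nat.choose_one_right,
        pow_succ', pow_add, mul_pow]
      simp [mul_assoc, mul_left_comm, mul_comm]
  rw [this, hV, mul_one, map_one, MulAut.one_apply]
  obtain ⟨c, hc⟩ := (Fact.out : p.Prime).dvd_choose_self (k := 2) (by norm_num) hp2
  rw [hc, pow_mul, hV, one_pow, mul_one]

/-- A transvection. -/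
structure IsTr (p : ℕ) (ρ : L →* MulAut V) (z : L) (a : V) (h : Subgroup V) : Prop where
  ne : z ≠ 1
  cne : a ≠ 1
  mem : a ∈ h
  card : Nat.card h = p ^ 2
  fix : ∀ v ∈ h, ρ z v = v
  move : ∀ v, dsp ρ z v ∈ Subgroup.zpowers a

namespace IsTr

variable {z : L} {a : V} {h : Subgroup V} (T : IsTr p ρ z a h)
include T

lemma fix_pow_a {x : V} (hx : x ∈ Subgroup.zpowers a) : ρ z x = x :=
  T.fix x (Subgroup.zpowers_le.mpr T.mem hx)

lemma pow_p [Fact p.Prime] (hinj : Function.Injective ρ) (hV : ∀ v : V, v ^ p = 1) : z ^ p = 1 := by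
  refine hinj (MulEquiv.ext fun v => ?_)
  rw [iter_apply (T.fix_pow_a (T.move v)), hV, mul_one, map_one, MulAut.one_apply]

lemma mem_of_fix [Fact p.Prime] [Finite V] (hinj : Function.Injective ρ) (hV : ∀ v : V, v ^ p = 1)
    (hcard : Nat.card V = p ^ 3) {v : V} (hv : ρ z v = v) : v ∈ h := by
  by_contra hn
  refine T.ne (hinj (MulEquiv.ext fun w => ?_))
  obtain ⟨y, hy, n, rfl⟩ := decomp hV hcard T.card hn w
  rw [map_mul, map_pow, hv, T.fix y hy, map_one, MulAut.one_apply]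

lemma conj (g : L) : IsTr p ρ (g * z * g⁻¹) (ρ g a) (h.map (ρ g).toMonoidHom) := by
  have h1 : ∀ v, ρ g (ρ g⁻¹ v) = v := fun v => by
    rw [← MulAut.mul_apply, ← map_mul, mul_inv_cancel, map_one, MulAut.one_apply]
  have h2 : ∀ v, ρ g⁻¹ (ρ g v) = v := fun v => by
    rw [← MulAut.mul_apply, ← map_mul, inv_mul_cancel, map_one, MulAut.one_apply]
  refine ⟨fun e => T.ne ?_, fun e => T.cne ?_, ⟨a, T.mem, rfl⟩, ?_, ?_, fun v => ?_⟩
  · simpa [mul_assoc] using congrArg (fun x => g⁻¹ * x * g) e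
  · exact (ρ g).injective (by rw [e, map_one])
  · rw [Subgroup.card_map_of_injective (ρ g).injective]; exact T.card
  · rintro _ ⟨v, hv, rfl⟩
    rw [map_mul, map_mul, MulAut.mul_apply, MulAut.mul_apply]
    show ρ g (ρ z (ρ g⁻¹ (ρ g v))) = ρ g v
    rw [h2, T.fix v hv]
  · obtain ⟨i, hi⟩ := T.move (ρ g⁻¹ v)
    refine ⟨i, ?_⟩
    show ρ g a ^ i = _
    have hv : dsp ρ (g * z * g⁻¹) v = ρ g (dsp ρ z (ρ g⁻¹ v)) := by
      simp only [dsp, map_mul, MulAut.mul_apply, map_inv] at *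
      rw [h1]
    rw [hv, ← hi, map_zpow]

/-- If the centre of one transvection lies on the axis of the other, their commutator `e` commutes
with both and moves everything along the first centre. -/
lemma half [Fact p.Prime] (hinj : Function.Injective ρ) (hV : ∀ v : V, v ^ p = 1) {w : L} {b : V}
    {k : Subgroup V} (T' : IsTr p ρ w b k) (hak : a ∈ k) :
    ∃ e : L, e * (w * z) = z * w ∧ e * z = z * e ∧ e * w = w * e ∧ e ^ p = 1 ∧
      ∀ v, dsp ρ e v ∈ Subgroup.zpowers a := by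
  obtain ⟨e, hedef⟩ : ∃ e, e = z * w * (w * z)⁻¹ := ⟨_, rfl⟩
  have hwA : ∀ x ∈ Subgroup.zpowers a, ρ w x = x := fun x hx =>
    T'.fix x (Subgroup.zpowers_le.mpr hak hx)
  have hwz : ∀ v, ρ (w * z) v = v * dsp ρ z v * dsp ρ w v := by
    intro v
    rw [map_mul, MulAut.mul_apply, apply_eq (ρ := ρ) z v, map_mul, hwA _ (T.move v),
      apply_eq (ρ := ρ) w v, mul_right_comm]
  have hzw : ∀ v, ρ (z * w) v = v * dsp ρ z v * dsp ρ w v * dsp ρ z (dsp ρ w v) := by
    intro v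
    rw [map_mul, MulAut.mul_apply, apply_eq (ρ := ρ) w v, map_mul, apply_eq (ρ := ρ) z v,
      apply_eq (ρ := ρ) z (dsp ρ w v)]
    simp [mul_assoc]
  have he : ∀ v, dsp ρ e (ρ (w * z) v) = dsp ρ z (dsp ρ w v) := by
    intro v
    have h1 : ρ e (ρ (w * z) v) = ρ (z * w) v := by
      rw [← MulAut.mul_apply, ← map_mul, hedef, inv_mul_cancel_right]
    rw [dsp, h1, hzw, hwz, inv_mul_cancel_left]
  have hsurj : ∀ u, ∃ v, ρ (w * z) v = u := fun u => (ρ (w * z)).surjective u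
  have hmove : ∀ u, dsp ρ e u ∈ Subgroup.zpowers a := fun u => by
    obtain ⟨v, rfl⟩ := hsurj u
    rw [he]; exact T.move _
  have hfa : ∀ x ∈ Subgroup.zpowers a, ρ e x = x := by
    intro x hx
    obtain ⟨v, hv⟩ := hsurj x
    have hvx : v = x := (ρ (w * z)).injective (by
      rw [hv, map_mul, MulAut.mul_apply, T.fix_pow_a hx, hwA x hx])
    rw [← dsp_eq_one, ← hv, he, hvx, dsp_eq_one.mpr (hwA x hx)]
    simp [dsp]
  have hfb : ∀ x ∈ Subgroup.zpowers b, ρ e x = x := by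
    intro x hx
    have hvx : ρ (w * z) (ρ z⁻¹ x) = x := by
      rw [map_mul, MulAut.mul_apply]
      rw [show ρ z (ρ z⁻¹ x) = x by rw [← MulAut.mul_apply, ← map_mul, mul_inv_cancel, map_one,
        MulAut.one_apply]]
      exact T'.fix_pow_a hx
    have hfix : ρ w (ρ z⁻¹ x) = ρ z⁻¹ x := by
      set y := ρ z⁻¹ x with hy
      have hxy : x = y * dsp ρ z y := by
        rw [← apply_eq, hy, ← MulAut.mul_apply, ← map_mul, mul_inv_cancel, map_one, MulAut.one_apply]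
      have : y = x * (dsp ρ z y)⁻¹ := by rw [hxy, mul_inv_cancel_right]
      rw [this, map_mul, T'.fix_pow_a hx, hwA _ ((Subgroup.zpowers a).inv_mem (T.move y))]
    rw [← dsp_eq_one, ← hvx, he, dsp_eq_one.mpr hfix]
    simp [dsp]
  refine ⟨e, by rw [hedef, inv_mul_cancel_right], ?_, ?_, ?_, hmove⟩
  · refine hinj (MulEquiv.ext fun u => ?_)
    rw [map_mul, map_mul, MulAut.mul_apply, MulAut.mul_apply, apply_eq (ρ := ρ) z u, map_mul,
      hfa _ (T.move u), apply_eq (ρ := ρ) e u, map_mul, T.fix_pow_a (hmove u), apply_eq (ρ := ρ) z u,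
      mul_right_comm]
  · refine hinj (MulEquiv.ext fun u => ?_)
    rw [map_mul, map_mul, MulAut.mul_apply, MulAut.mul_apply, apply_eq (ρ := ρ) w u, map_mul,
      hfb _ (T'.move u), apply_eq (ρ := ρ) e u, map_mul, hwA _ (hmove u), apply_eq (ρ := ρ) w u,
      mul_right_comm]
  · refine hinj (MulEquiv.ext fun v => ?_)
    rw [iter_apply (hfa _ (hmove v)), hV, mul_one, map_one, MulAut.one_apply]

end IsTr

end Cfsg.Agent.LocalEvenD.RTE
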