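import Cfsg.Agent.LocalEvenD.RankThreeEss.GL3

/-!
# The two shapes of the Sylow generator: transvection (with a torus) or regular (irreducible)
-/

set_option autoImplicit false
set_option linter.style.haveILetI false

namespace Cfsg.Agent.LocalEvenD.RTE

variable {V : Type*} [CommGroup V] [Finite V] {L : Type*} [Group L] [Finite L] {p : ℕ} [Fact p.Prime]
variable {ρ : L →* MulAut V} {M P : Subgroup L}

/-- A transvection `z` with an opposite point and the tori of the pair. -/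
def HasTorus (p : ℕ) (ρ : L →* MulAut V) (z : L) : Prop :=
  ∃ (a b f : V) (s : ℕ), (s : ZMod p) ≠ 0 ∧ ρ z a = a ∧ ρ z f = f ∧ ρ z b = b * a ^ s ∧
    (∀ v : V, ∃ i j k : ℕ, v = a ^ i * b ^ j * f ^ k) ∧
    ∀ c : ZMod p, c ≠ 0 → ∃ k : L, ρ k a = a ^ c.val ∧ ρ k b = b ^ c⁻¹.val ∧ ρ k f = f ∧
      k * z * k⁻¹ = z ^ (c * c).val

/-- A regular unipotent `z` with the group irreducible. -/
def HasRegular (ρ : L →* MulAut V) (z : L) : Prop :=
  ∃ e d l : V, dsp ρ z e = d ∧ dsp ρ z d = l ∧ ρ z l = l ∧ l ≠ 1 ∧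
    (∀ v : V, ∃ i j k : ℕ, v = e ^ i * d ^ j * l ^ k) ∧
    (∀ v : V, ρ z v = v → v ∈ Subgroup.zpowers l) ∧
    ∀ U : Subgroup V, (∀ u : L, ∀ v ∈ U, ρ u v ∈ U) → U = ⊥ ∨ U = ⊤

namespace Ctx

variable (C : Ctx p ρ M P)
include C

lemma card_eq : Nat.card P = p := by
  obtain ⟨n, hn⟩ := IsPGroup.iff_card.mp C.isP
  have h2 := C.card_lt
  rw [hn] at h2 ⊢
  have hn0 : n ≠ 0 := fun h0 => C.ne_bot (Subgroup.card_eq_one.mp (by rw [hn, h0, pow_zero]))
  have : n < 2 := (Nat.pow_lt_pow_iff_right (Fact.out : p.Prime).one_lt).mp h2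
  rw [show n = 1 by omega, pow_one]

lemma eq_zpowers {z : L} (hz : z ∈ P) (hz1 : z ≠ 1) : z ^ p = 1 ∧ P = Subgroup.zpowers z := by
  have hzp : z ^ p = 1 := by
    have := congrArg Subtype.val (pow_card_eq_one' (x := (⟨z, hz⟩ : P)))
    rwa [C.card_eq] at this
  refine ⟨hzp, (Subgroup.eq_of_le_of_card_ge (Subgroup.zpowers_le.mpr hz) ?_).symm⟩
  rw [C.card_eq, Nat.card_zpowers, orderOf_eq_prime hzp hz1]

lemma mem_pgroup {z : L} (hz : z ∈ P) {U : Subgroup L} (hU : IsPGroup p U) (hzU : z ∈ U) (hz1 : z ≠ 1)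
    {w : L} (hw : w ∈ U) : w ∈ P := by
  rw [← C.max U hU (by rw [(C.eq_zpowers hz hz1).2]; exact Subgroup.zpowers_le.mpr hzU)]
  exact hw

lemma torus {z : L} {a : V} {h : Subgroup V} (hz : z ∈ P) (T : IsTr p ρ z a h) :
    HasTorus p ρ z := by
  have hzp := T.pow_p C.inj C.exp
  obtain ⟨g, hg⟩ := C.exists_not_mem
  set b := ρ g a
  set h' := h.map (ρ g).toMonoidHom
  have T' : IsTr p ρ (g * z * g⁻¹) b h' := T.conj g
  have hwM := C.conj_not_mem hzp T.ne (C.le hz) hg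
  obtain ⟨hak, hbh⟩ := C.opposite T T' (C.le hz) hwM
  obtain ⟨f, hf, hf', hf1⟩ := exists_mem_inter C.exp C.card T.card T'.card
  have hfa : f ∉ Subgroup.zpowers a := fun hm =>
    hak (Subgroup.zpowers_le.mpr hf' (gen_of_mem C.exp T.cne hf1 hm))
  obtain ⟨s, hs⟩ := exists_pow_eq C.exp (T.move b)
  obtain ⟨t, ht⟩ := exists_pow_eq C.exp (T'.move a)
  have hs0 : (s : ZMod p) ≠ 0 := fun h0 => hbh (T.mem_of_fix C.inj C.exp C.card (dsp_eq_one.mp (by
    rw [hs, pow_cast C.exp a (h0.trans Nat.cast_zero.symm), pow_zero])))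
  have ht0 : (t : ZMod p) ≠ 0 := fun h0 => hak (T'.mem_of_fix C.inj C.exp C.card (dsp_eq_one.mp (by
    rw [ht, pow_cast C.exp b (h0.trans Nat.cast_zero.symm), pow_zero])))
  have hdec : ∀ v : V, ∃ i j k : ℕ, v = a ^ i * b ^ j * f ^ k := fun v => by
    obtain ⟨x, hx, n, rfl⟩ := decomp C.exp C.card T.card hbh v
    obtain ⟨i, j, rfl⟩ := decomp_two C.exp T.card T.mem hf T.cne hfa hx
    exact ⟨i, n, j, mul_right_comm _ _ _⟩
  have hzb : ρ z b = b * a ^ s := by rw [apply_eq (ρ := ρ) z b, hs]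
  refine ⟨a, b, f, s, hs0, T.fix a T.mem, T.fix f hf, hzb, hdec, fun c hc => ?_⟩
  obtain ⟨k, hk, hka, hkb⟩ := exists_torus C.exp hs0 ht0 (T.fix a T.mem) hzb (T'.fix b T'.mem)
    (by rw [apply_eq (ρ := ρ) (g * z * g⁻¹) a, ht]) hc
  have hkf : ρ k f = f := fix_of_mem_closure hk (T.fix f hf) (T'.fix f hf')
  refine ⟨k, hka, hkb, hkf, ?_⟩
  have key : k * z = z ^ (c * c).val * k := by
    refine C.inj (MulEquiv.ext fun v => ?_)
    obtain ⟨i, j, l, rfl⟩ := hdec v
    have hn := fun n => iter_apply (ρ := ρ) (T.fix_pow_a (T.move b)) n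
    have e1 : ρ (k * z) a = ρ (z ^ (c * c).val * k) a := by
      rw [map_mul, map_mul, MulAut.mul_apply, MulAut.mul_apply, T.fix a T.mem, hka, map_pow (ρ (z ^ _)),
        fix_pow (T.fix a T.mem)]
    have e2 : ρ (k * z) f = ρ (z ^ (c * c).val * k) f := by
      rw [map_mul, map_mul, MulAut.mul_apply, MulAut.mul_apply, T.fix f hf, hkf, fix_pow (T.fix f hf)]
    have e3 : ρ (k * z) b = ρ (z ^ (c * c).val * k) b := by
      rw [map_mul, map_mul, MulAut.mul_apply, MulAut.mul_apply, hzb, map_mul, map_pow, hka, hkb,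
        map_pow (ρ (z ^ _)), hn, hs, mul_pow, ← pow_mul, ← pow_mul, ← pow_mul]
      congr 1
      refine pow_cast C.exp a ?_
      push_cast
      simp only [ZMod.natCast_zmod_val]
      field_simp
    generalize k * z = q at e1 e2 e3 ⊢
    generalize z ^ (c * c).val * k = q' at e1 e2 e3 ⊢
    simp only [map_mul, map_pow, e1, e2, e3]
  rw [key, mul_inv_cancel_right]

lemma trichotomy {z : L} (hz : z ∈ P) (hz1 : z ≠ 1) :
    (∃ a h, IsTr p ρ z a h) ∨
    ∃ e d l : V, dsp ρ z e = d ∧ dsp ρ z d = l ∧ ρ z l = l ∧ l ≠ 1 ∧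
      (∀ v : V, ∃ i j k : ℕ, v = e ^ i * d ^ j * l ^ k) ∧
      ∀ v : V, ρ z v = v → v ∈ Subgroup.zpowers l := by
  obtain ⟨a, h, ha1, hah, hhc, ha, hd, hh⟩ := C.exists_flag
  obtain ⟨e, he⟩ : ∃ v, v ∉ h := by
    by_contra hc
    push Not at hc
    have : h = ⊤ := eq_top_iff.mpr fun v _ => hc v
    rw [this, Subgroup.card_top, C.card] at hhc
    exact absurd (Nat.pow_right_injective (Fact.out : p.Prime).two_le hhc) (by norm_num)
  have hm : ∀ (x : V) (n : ℕ), dsp ρ z (x ^ n) = dsp ρ z x ^ n := fun x n => by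
    simp [dsp, map_pow, mul_pow]
  set d := dsp ρ z e with hde
  set l := dsp ρ z d with hle
  by_cases hfix : ∀ v ∈ h, ρ z v = v
  · left
    refine ⟨d, h, hz1, fun h0 => hz1 (C.inj (MulEquiv.ext fun v => ?_)), hh z hz e, hhc, hfix,
      fun v => ?_⟩
    · obtain ⟨y, hy, n, rfl⟩ := decomp C.exp C.card hhc he v
      rw [map_one, MulAut.one_apply, map_mul, map_pow, hfix y hy, dsp_eq_one.mp h0]
    · obtain ⟨y, hy, n, rfl⟩ := decomp C.exp C.card hhc he v
      rw [dsp_mul_right, dsp_eq_one.mpr (hfix y hy), one_mul, hm, ← hde]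
      exact Subgroup.pow_mem _ (Subgroup.mem_zpowers d) n
  by_cases hdA : d ∈ Subgroup.zpowers a
  · left
    push Not at hfix
    obtain ⟨f, hf, hf1⟩ := hfix
    have hfa : f ∉ Subgroup.zpowers a := fun hm' => hf1 (by
      obtain ⟨i, rfl⟩ := hm'
      rw [map_zpow, ha z hz])
    have hmove : ∀ v, dsp ρ z v ∈ Subgroup.zpowers a := fun v => by
      obtain ⟨y, hy, n, rfl⟩ := decomp C.exp C.card hhc he v
      rw [dsp_mul_right, hm, ← hde]
      exact Subgroup.mul_mem _ (hd z hz y hy) (Subgroup.pow_mem _ hdA n)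
    -- the axis: correct `e` by a power of `f`
    obtain ⟨i, hi⟩ := exists_pow_eq C.exp hdA
    obtain ⟨j, hj⟩ := exists_pow_eq C.exp (hd z hz f hf)
    have hj0 : (j : ZMod p) ≠ 0 := fun h0 => hf1 (dsp_eq_one.mp (by
      rw [hj, pow_cast C.exp a (h0.trans Nat.cast_zero.symm), pow_zero]))
    set n := ((-(i : ZMod p)) / j).val
    have hfix' : ρ z (e * f ^ n) = e * f ^ n := dsp_eq_one.mp (by
      rw [dsp_mul_right, hm, ← hde, hi, hj, ← pow_mul, ← pow_add, ← pow_zero a]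
      refine pow_cast C.exp a ?_
      push_cast
      rw [ZMod.natCast_zmod_val]
      field_simp
      ring)
    set k := Subgroup.zpowers a ⊔ Subgroup.zpowers (e * f ^ n)
    have hne : e * f ^ n ∉ h := fun h0 => he (by simpa using h.mul_mem h0 (h.inv_mem (h.pow_mem hf n)))
    have hlt : Subgroup.zpowers a < k := lt_of_le_of_ne le_sup_left fun h0 =>
      hne (Subgroup.zpowers_le.mpr hah (h0.ge (Subgroup.mem_sup_right (Subgroup.mem_zpowers _))))
    refine ⟨a, k, hz1, ha1, Subgroup.mem_sup_left (Subgroup.mem_zpowers a), ?_, fun v hv => ?_, hmove⟩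
    · refine le_antisymm ?_ (le_trans (by rw [card_zp C.exp ha1, sq]) (card_mul_le C.exp hlt))
      refine le_trans (Nat.card_le_card_of_surjective
        (fun x : Subgroup.zpowers a × Subgroup.zpowers (e * f ^ n) =>
          (⟨x.1 * x.2, Subgroup.mul_mem_sup x.1.2 x.2.2⟩ : k)) fun ⟨y, hy⟩ => ?_) ?_
      · obtain ⟨a', ha', b', hb', rfl⟩ := Subgroup.mem_sup.mp hy
        exact ⟨(⟨a', ha'⟩, ⟨b', hb'⟩), rfl⟩
      · rw [Nat.card_prod, card_zp C.exp ha1, card_zp C.exp (fun h0 => hne (by rw [h0]; exact h.one_mem)),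
          sq]
    · obtain ⟨x, hx, y, hy, rfl⟩ := Subgroup.mem_sup.mp hv
      obtain ⟨x', rfl⟩ := exists_pow_eq C.exp hx
      obtain ⟨y', rfl⟩ := exists_pow_eq C.exp hy
      rw [map_mul, map_pow, map_pow, hfix', ha z hz]
  right
  have hdh : d ∈ h := hh z hz e
  have hl : l ∈ Subgroup.zpowers a := hd z hz d hdh
  have hl1 : l ≠ 1 := fun h0 => hfix fun v hv => by
    obtain ⟨i, j, rfl⟩ := decomp_two C.exp hhc hah hdh ha1 hdA hv
    rw [map_mul, map_pow, map_pow, ha z hz, dsp_eq_one.mp h0]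
  have hla := gen_of_mem C.exp ha1 hl1 hl
  have hlh : l ∈ h := Subgroup.zpowers_le.mpr hah hl
  have hdl : d ∉ Subgroup.zpowers l := fun h0 => hdA (Subgroup.zpowers_le.mpr hl h0)
  have hzl : ρ z l = l := by
    obtain ⟨i, hi⟩ := exists_pow_eq C.exp hl
    rw [hi, map_pow, ha z hz]
  have hdec : ∀ v : V, ∃ i j k : ℕ, v = e ^ i * d ^ j * l ^ k := fun v => by
    obtain ⟨x, hx, n, rfl⟩ := decomp C.exp C.card hhc he v
    obtain ⟨i, j, rfl⟩ := decomp_two C.exp hhc hlh hdh hl1 hdl hx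
    exact ⟨n, j, i, by simp [mul_assoc, mul_comm]⟩
  refine ⟨e, d, l, rfl, rfl, hzl, hl1, hdec, fun v hv => ?_⟩
  obtain ⟨i, j, k, rfl⟩ := hdec v
  have h0 := dsp_eq_one.mpr hv
  rw [dsp_mul_right, dsp_mul_right, hm, hm, hm, ← hde, ← hle, dsp_eq_one.mpr hzl, one_pow, mul_one] at h0
  have hi : (i : ZMod p) = 0 := by
    by_contra hi
    refine hdl ?_
    have h1 : d ^ i ∈ Subgroup.zpowers l := by
      rw [eq_inv_of_mul_eq_one_left h0]
      exact inv_mem (Subgroup.pow_mem _ (Subgroup.mem_zpowers l) j)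
    have h2 := Subgroup.pow_mem _ h1 ((i : ZMod p)⁻¹).val
    rwa [← pow_mul, pow_cast C.exp d (n := 1) (by
      push_cast; rw [ZMod.natCast_zmod_val, mul_inv_cancel₀ hi]), pow_one] at h2
  rw [pow_cast C.exp d (n := 0) (by rw [hi, Nat.cast_zero]), pow_zero, one_mul] at h0
  have hj : (j : ZMod p) = 0 := by
    by_contra hj
    apply hl1
    have h2 := congrArg (· ^ ((j : ZMod p)⁻¹).val) h0
    simp only [one_pow] at h2
    rwa [← pow_mul, pow_cast C.exp l (n := 1) (by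
      push_cast; rw [ZMod.natCast_zmod_val, mul_inv_cancel₀ hj]), pow_one] at h2
  rw [pow_cast C.exp e (n := 0) (by rw [hi, Nat.cast_zero]), pow_zero,
    pow_cast C.exp d (n := 0) (by rw [hj, Nat.cast_zero]), pow_zero, one_mul, one_mul]
  exact Subgroup.pow_mem _ (Subgroup.mem_zpowers l) k

lemma normal_p_eq_bot {Q : Subgroup L} [Q.Normal] (hQ : IsPGroup p Q) : Q = ⊥ := by
  by_contra hne
  have hQP : Q ≤ P := by
    rw [← C.max (Q ⊔ P) (IsPGroup.to_sup_of_normal_left hQ C.isP) le_sup_right]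
    exact le_sup_left
  obtain ⟨g, hg⟩ := C.exists_not_mem
  exact hg (C.nle Q (hQP.trans C.le) hQ hne (Subgroup.normalizer_eq_top Q ▸ Subgroup.mem_top g))

lemma not_mem_of_conj {z g : L} (hz : z ∈ P) (hz1 : z ≠ 1) (hg : g ∉ M) {U : Subgroup L}
    (hU : IsPGroup p U) (hzU : z ∈ U) : g * z * g⁻¹ ∉ U := fun hw =>
  C.conj_not_mem (C.eq_zpowers hz hz1).1 hz1 (C.le hz) hg (C.le (C.mem_pgroup hz hU hzU hz1 hw))

lemma irreducible {z : L} (hz : z ∈ P) (hz1 : z ≠ 1) {e d l : V} (he : dsp ρ z e = d)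
    (hd : dsp ρ z d = l) (hzl : ρ z l = l) (hl1 : l ≠ 1)
    (hdec : ∀ v : V, ∃ i j k : ℕ, v = e ^ i * d ^ j * l ^ k)
    (hfix : ∀ v : V, ρ z v = v → v ∈ Subgroup.zpowers l) (U : Subgroup V)
    (hU : ∀ u : L, ∀ v ∈ U, ρ u v ∈ U) : U = ⊥ ∨ U = ⊤ := by
  by_contra hne
  push Not at hne
  obtain ⟨hbot, htop⟩ := hne
  obtain ⟨hzp, hPz⟩ := C.eq_zpowers hz hz1
  obtain ⟨g, hg⟩ := C.exists_not_mem
  set w := g * z * g⁻¹ with hw
  have hzP : IsPGroup p (Subgroup.zpowers z) := isPGroup_zp hzp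
  have hcz : ∀ x : V, ρ z (ρ z⁻¹ x) = x := fun x => by
    rw [← MulAut.mul_apply, ← map_mul, mul_inv_cancel, map_one, MulAut.one_apply]
  have hm : ∀ (u : L) (x : V) (n : ℕ), dsp ρ u (x ^ n) = dsp ρ u x ^ n := fun u x n => by
    simp [dsp, map_pow, mul_pow]
  have hcancel : ∀ v, ρ g (ρ g⁻¹ v) = v := fun v => by
    rw [← MulAut.mul_apply, ← map_mul, mul_inv_cancel, map_one, MulAut.one_apply]
  have hwdsp : ∀ v, dsp ρ w v = ρ g (dsp ρ z (ρ g⁻¹ v)) := fun v => by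
    simp only [dsp, hw, map_mul, MulAut.mul_apply, map_inv, hcancel]
    rw [← map_inv ρ g, hcancel]
  have hp' : p ∣ Nat.card U := by
    obtain ⟨n, hn⟩ := IsPGroup.iff_card.mp
      ((show IsPGroup p V from fun v => ⟨1, by rw [pow_one]; exact C.exp v⟩).to_subgroup U)
    rw [hn]
    exact dvd_pow_self p fun h0 => hbot (Subgroup.card_eq_one.mp (by rw [hn, h0, pow_zero]))
  obtain ⟨x₀, hx₀, hx₀1, hx₀f⟩ := exists_fixed hzP (fun u _ => hU u) hp'
  have hlU : l ∈ U := Subgroup.zpowers_le.mpr hx₀ (gen_of_mem C.exp hl1 hx₀1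
    (hfix x₀ (hx₀f z (Subgroup.mem_zpowers z))))
  have hA : ∀ v ∈ Subgroup.zpowers l, ρ z v = v := fun v hv => by
    obtain ⟨i, rfl⟩ := hv
    rw [map_zpow, hzl]
  set D := Subgroup.zpowers l ⊔ Subgroup.zpowers d with hD
  have hdD : d ∈ D := Subgroup.mem_sup_right (Subgroup.mem_zpowers d)
  have hzD : ∀ v, dsp ρ z v ∈ D := fun v => by
    obtain ⟨i, j, k, rfl⟩ := hdec v
    rw [dsp_mul_right, dsp_mul_right, hm, hm, hm, he, hd, dsp_eq_one.mpr hzl, one_pow, mul_one]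
    exact D.mul_mem (D.pow_mem hdD i) (D.pow_mem (Subgroup.mem_sup_left (Subgroup.mem_zpowers l)) j)
  have hzDA : ∀ v ∈ D, dsp ρ z v ∈ Subgroup.zpowers l := fun v hv => by
    obtain ⟨x, hx, y, hy, rfl⟩ := Subgroup.mem_sup.mp hv
    obtain ⟨n, rfl⟩ := exists_pow_eq C.exp hy
    rw [dsp_mul_right, dsp_eq_one.mpr (hA x hx), one_mul, hm, hd]
    exact Subgroup.pow_mem _ (Subgroup.mem_zpowers l) n
  have hdU : d ∈ U → False := fun hdU => by
    have hDU : D ≤ U := sup_le (Subgroup.zpowers_le.mpr hlU) (Subgroup.zpowers_le.mpr hdU)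
    have heU : e ∉ U := fun heU => htop (eq_top_iff.mpr fun v _ => by
      obtain ⟨i, j, k, rfl⟩ := hdec v
      exact U.mul_mem (U.mul_mem (U.pow_mem heU i) (U.pow_mem hdU j)) (U.pow_mem hlU k))
    have hUD : ∀ v ∈ U, v ∈ D := fun v hv => by
      obtain ⟨i, j, k, rfl⟩ := hdec v
      have h1 : e ^ i ∈ U := by
        have := U.mul_mem hv (U.inv_mem (U.mul_mem (U.pow_mem hdU j) (U.pow_mem hlU k)))
        simpa [mul_assoc] using this
      rcases eq_or_ne (e ^ i) 1 with h0 | h0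
      · rw [h0, one_mul]
        exact D.mul_mem (D.pow_mem hdD j) (D.pow_mem (Subgroup.mem_sup_left (Subgroup.mem_zpowers l)) k)
      · exact absurd (Subgroup.zpowers_le.mpr h1 (gen_of_mem C.exp
          (fun h2 => h0 (by rw [h2, one_pow])) h0 (Subgroup.pow_mem _ (Subgroup.mem_zpowers e) i))) heU
    have hwU : ∀ v, dsp ρ w v ∈ U := fun v => by
      rw [hwdsp]; exact hU g _ (hDU (hzD _))
    have hwl : ∀ v ∈ U, dsp ρ w v ∈ Subgroup.zpowers (ρ g l) := fun v hv => by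
      rw [hwdsp]
      obtain ⟨i, hi⟩ := exists_pow_eq C.exp (hzDA _ (hUD _ (hU g⁻¹ v hv)))
      rw [hi, map_pow]
      exact Subgroup.pow_mem _ (Subgroup.mem_zpowers _) i
    have hzl' : dsp ρ z (ρ g l) ∈ Subgroup.zpowers l := hzDA _ (hUD _ (hU g l hlU))
    have hwb : ρ w (ρ g l) = ρ g l := by
      rw [← MulAut.mul_apply, ← map_mul, hw, inv_mul_cancel_right, map_mul, MulAut.mul_apply, hzl]
    obtain ⟨s, hs⟩ := exists_pow_eq C.exp hzl'
    obtain ⟨t, ht⟩ := exists_pow_eq C.exp (hwl l hlU)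
    have hgl : ρ g l ∉ Subgroup.zpowers l := fun hmem => by
      refine C.not_mem_of_conj hz hz1 hg
        (flagGroup_isPGroup C.odd C.inj C.exp (A := Subgroup.zpowers l) (Subgroup.zpowers_le.mpr hlU))
        ⟨hA, fun v hv => hzDA v (hUD v hv), fun v => hDU (hzD v)⟩ ?_
      refine ⟨fun v hv => ?_, fun v hv => Subgroup.zpowers_le.mpr hmem (hwl v hv), hwU⟩
      have h0 : l ∈ Subgroup.zpowers (ρ g l) :=
        gen_of_mem C.exp hl1 (fun h2 => hl1 ((ρ g).injective (h2.trans (map_one (ρ g)).symm))) hmem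
      obtain ⟨i, rfl⟩ := exists_pow_eq C.exp (Subgroup.zpowers_le.mpr h0 hv)
      rw [map_pow, hwb]
    have hs0 : (s : ZMod p) ≠ 0 := fun h0 => hgl (hfix _ (dsp_eq_one.mp (by
      rw [hs, pow_cast C.exp l (h0.trans Nat.cast_zero.symm), pow_zero])))
    have ht0 : (t : ZMod p) ≠ 0 := fun h0 => by
      have h1 : dsp ρ w l = 1 := by rw [ht, pow_cast C.exp _ (h0.trans Nat.cast_zero.symm), pow_zero]
      rw [hwdsp] at h1
      have h2 : dsp ρ z (ρ g⁻¹ l) = 1 := (ρ g).injective (h1.trans (map_one (ρ g)).symm)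
      have h3 := Subgroup.zpowers_le.mpr (show ρ g l ∈ Subgroup.zpowers (ρ g l) from Subgroup.mem_zpowers _)
      obtain ⟨i, hi⟩ := exists_pow_eq C.exp (hfix _ (dsp_eq_one.mp h2))
      have h4 : l = ρ g l ^ i := by rw [← map_pow, ← hi, hcancel]
      exact hgl (gen_of_mem C.exp (fun h5 => hl1 ((ρ g).injective (h5.trans (map_one (ρ g)).symm))) hl1
        ⟨(i : ℤ), by simpa using h4.symm⟩)
    obtain ⟨k, hk, hka, hkb⟩ := exists_torus C.exp hs0 ht0 hzl
      (by rw [apply_eq (ρ := ρ) z (ρ g l), hs]) hwb (by rw [apply_eq (ρ := ρ) w l, ht])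
      (c := -1) (neg_ne_zero.mpr one_ne_zero)
    have hkU : ∀ v, dsp ρ k v ∈ U := by
      intro v
      have hq : qact ρ U hU k (v : V ⧸ U) = (v : V ⧸ U) := fix_of_mem_closure hk
        (by rw [qact_mk, apply_eq (ρ := ρ) z v, QuotientGroup.mk_mul,
          (QuotientGroup.eq_one_iff _).mpr (hDU (hzD v)), mul_one])
        (by rw [qact_mk, apply_eq (ρ := ρ) w v, QuotientGroup.mk_mul,
          (QuotientGroup.eq_one_iff _).mpr (hwU v), mul_one])
      rw [qact_mk] at hq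
      exact QuotientGroup.eq.mp hq.symm
    have hneg : ∀ x : V, x ^ ((-1 : ZMod p)).val = x⁻¹ := fun x => by
      rw [eq_inv_iff_mul_eq_one, ← pow_succ, ← pow_zero x]
      exact pow_cast C.exp x (by push_cast; rw [ZMod.natCast_zmod_val]; ring)
    rw [hneg] at hka
    rw [inv_neg, inv_one, hneg] at hkb
    have hspan : ∀ v ∈ U, ∃ i j : ℕ, v = l ^ i * ρ g l ^ j := by
      intro v hv
      have hD2 : Nat.card D = p ^ 2 := by
        have hdl : d ∉ Subgroup.zpowers l := fun h0 => hl1 (by rw [← hd, dsp_eq_one.mpr (hA d h0)])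
        refine le_antisymm ?_ (le_trans (by rw [card_zp C.exp hl1, sq]) (card_mul_le C.exp
          (lt_of_le_of_ne le_sup_left fun h0 => hdl (h0.ge hdD))))
        refine le_trans (Nat.card_le_card_of_surjective (fun x : Subgroup.zpowers l × Subgroup.zpowers d =>
          (⟨x.1 * x.2, Subgroup.mul_mem_sup x.1.2 x.2.2⟩ : D)) fun ⟨y, hy⟩ => ?_) ?_
        · obtain ⟨a', ha', b', hb', rfl⟩ := Subgroup.mem_sup.mp hy
          exact ⟨(⟨a', ha'⟩, ⟨b', hb'⟩), rfl⟩
        · rw [Nat.card_prod, card_zp C.exp hl1, card_zp C.exp (fun h0 => hdl (by rw [h0]; exact one_mem _)), sq]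
      obtain ⟨i, j, hij⟩ := decomp_two C.exp hD2 (hUD l hlU) (hUD _ (hU g l hlU)) hl1 hgl (hUD v hv)
      exact ⟨i, j, hij⟩
    haveI : (stab ρ U).Normal := ⟨fun m hm g => conj_mem_stab (hU g) (hU g⁻¹) hm⟩
    have hstab := C.normal_p_eq_bot (stab_isPGroup C.inj C.exp U)
    have hk2 : k * k = 1 := by
      refine (Subgroup.eq_bot_iff_forall _).mp hstab _ ⟨fun v => ?_, fun v hv => ?_⟩
      · rw [dsp, map_mul, MulAut.mul_apply, apply_eq (ρ := ρ) k v, map_mul, apply_eq (ρ := ρ) k v,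
          ← mul_assoc, inv_mul_cancel_left]
        exact U.mul_mem (hkU v) (hU k _ (hkU v))
      · obtain ⟨i, j, rfl⟩ := hspan v hv
        simp only [map_mul, MulAut.mul_apply, map_pow, hka, hkb, map_inv, inv_inv]
    have hkz : k * z = z * k := by
      have : k * z * k⁻¹ * z⁻¹ = 1 := by
        refine (Subgroup.eq_bot_iff_forall _).mp hstab _ ⟨fun v => ?_, fun v hv => ?_⟩
        · refine QuotientGroup.eq.mp (?_ : (v : V ⧸ U) = _)
          have hq : ∀ x : V ⧸ U, qact ρ U hU k x = x ∧ qact ρ U hU z x = x := fun x => by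
            induction x using QuotientGroup.induction_on with
            | H y =>
              exact ⟨by rw [qact_mk, apply_eq (ρ := ρ) k y, QuotientGroup.mk_mul,
                (QuotientGroup.eq_one_iff _).mpr (hkU y), mul_one],
                by rw [qact_mk, apply_eq (ρ := ρ) z y, QuotientGroup.mk_mul,
                (QuotientGroup.eq_one_iff _).mpr (hDU (hzD y)), mul_one]⟩
          rw [← qact_mk (hU := hU), map_mul, map_mul, map_mul, MulAut.mul_apply, MulAut.mul_apply,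
            MulAut.mul_apply, fix_inv (hq _).2, fix_inv (hq _).1, (hq _).2, (hq _).1]
        · have hkk : ∀ x ∈ U, ρ k x = x⁻¹ := fun x hx => by
            obtain ⟨i, j, rfl⟩ := hspan x hx
            rw [map_mul, map_pow, map_pow, hka, hkb, mul_inv, inv_pow, inv_pow]
          have hki : ∀ x ∈ U, ρ k⁻¹ x = x⁻¹ := fun x hx => by
            apply (ρ k).injective
            rw [hkk x⁻¹ (U.inv_mem hx), inv_inv, ← MulAut.mul_apply, ← map_mul, mul_inv_cancel, map_one,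
              MulAut.one_apply]
          rw [map_mul, map_mul, map_mul, MulAut.mul_apply, MulAut.mul_apply, MulAut.mul_apply,
            hki _ (hU _ v hv), map_inv (ρ z), hcz, hkk _ (U.inv_mem hv), inv_inv]
      rw [mul_inv_eq_one, mul_inv_eq_iff_eq_mul] at this
      exact this
    -- the fixed points of `k` miss `U`
    set v' := e * ρ k e with hv'
    have hv'fix : ρ k v' = v' := by
      rw [hv', map_mul, ← MulAut.mul_apply, ← map_mul, hk2, map_one, MulAut.one_apply, mul_comm]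
    have hv'U : v' ∉ U := fun h0 => heU (by
      have h1 : e ^ 2 ∈ U := by
        have := U.mul_mem h0 (U.inv_mem (hkU e))
        rw [hv', apply_eq (ρ := ρ) k e, ← mul_assoc, mul_inv_cancel_right] at this
        rwa [sq]
      have hc : ((2 * ((2 : ZMod p)⁻¹).val : ℕ) : ZMod p) = ((1 : ℕ) : ZMod p) := by
        have h2 : (2 : ZMod p) ≠ 0 := by
          intro h2
          have := (ZMod.natCast_eq_zero_iff 2 p).mp (by exact_mod_cast h2 : ((2 : ℕ) : ZMod p) = 0)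
          exact absurd (Nat.le_of_dvd (by norm_num) this) (not_le.mpr C.odd)
        push_cast
        rw [ZMod.natCast_zmod_val, mul_inv_cancel₀ h2]
      have h3 := U.pow_mem h1 ((2 : ZMod p)⁻¹).val
      rwa [← pow_mul, pow_cast C.exp e hc, pow_one] at h3)
    have hFinv : ∀ u ∈ Subgroup.zpowers z, ∀ v ∈ fixSub ρ k, ρ u v ∈ fixSub ρ k := by
      rintro u ⟨i, rfl⟩ v hv
      show ρ k (ρ (z ^ i) v) = ρ (z ^ i) v
      rw [← MulAut.mul_apply, ← map_mul, (Commute.zpow_right (show Commute k z from hkz) i).eq, map_mul,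
        MulAut.mul_apply, (hv : ρ k v = v)]
    have hFd : p ∣ Nat.card (fixSub ρ k) := by
      have hv'1 : v' ≠ 1 := fun h0 => hv'U (by rw [h0]; exact U.one_mem)
      have := Subgroup.card_dvd_of_le (Subgroup.zpowers_le.mpr (show v' ∈ fixSub ρ k from hv'fix))
      rwa [card_zp C.exp hv'1] at this
    obtain ⟨x, hxF, hx1, hxf⟩ := exists_fixed hzP hFinv hFd
    have hxU : x ∈ U := Subgroup.zpowers_le.mpr hlU (hfix x (hxf z (Subgroup.mem_zpowers z)))
    apply hx1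
    obtain ⟨i, j, rfl⟩ := hspan x hxU
    have h5 : (l ^ i * ρ g l ^ j)⁻¹ = l ^ i * ρ g l ^ j := by
      conv_rhs => rw [← (hxF : ρ k _ = _)]
      rw [map_mul, map_pow, map_pow, hka, hkb, mul_inv, inv_pow, inv_pow]
    generalize l ^ i * ρ g l ^ j = y at h5
    have h6 : y ^ 2 = 1 := by rw [sq]; nth_rewrite 1 [← h5]; rw [inv_mul_cancel]
    have := Nat.dvd_gcd (orderOf_dvd_of_pow_eq_one h6) (orderOf_dvd_of_pow_eq_one (C.exp y))
    rw [((Fact.out : p.Prime).coprime_iff_not_dvd.mpr (fun h2 => absurd (Nat.le_of_dvd (by norm_num) h2)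
      (not_le.mpr C.odd))).symm.gcd_eq_one, Nat.dvd_one, orderOf_eq_one_iff] at this
    exact this
  -- now `U = ⟨l⟩`
  have hUl : ∀ v ∈ U, v ∈ Subgroup.zpowers l := by
    intro v hv
    have h0 : dsp ρ z (dsp ρ z v) = 1 ∧ dsp ρ z v ∈ Subgroup.zpowers l := by
      have h1 : ∀ x ∈ U, x ∈ D → x ∈ Subgroup.zpowers l := fun x hx hxD => by
        obtain ⟨a', ha', y, hy, rfl⟩ := Subgroup.mem_sup.mp hxD
        rcases eq_or_ne y 1 with hy1 | hy1
        · rw [hy1, mul_one]; exact ha'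
        exfalso
        refine hdU (Subgroup.zpowers_le.mpr ?_ (gen_of_mem C.exp (fun h2 => hy1 ?_) hy1 hy))
        · have h3 := U.mul_mem (U.inv_mem (Subgroup.zpowers_le.mpr hlU ha')) hx
          rwa [inv_mul_cancel_left] at h3
        · rw [h2] at hy; simpa using hy
      have h2 : dsp ρ z v ∈ U := U.mul_mem (U.inv_mem hv) (hU z v hv)
      exact ⟨dsp_eq_one.mpr (hA _ (h1 _ h2 (hzD v))), h1 _ h2 (hzD v)⟩
    obtain ⟨i, j, k, rfl⟩ := hdec v
    have h3 := h0.2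
    rw [dsp_mul_right, dsp_mul_right, hm, hm, hm, he, hd, dsp_eq_one.mpr hzl, one_pow, mul_one,
      Subgroup.mul_mem_cancel_right _ (Subgroup.pow_mem _ (Subgroup.mem_zpowers l) j)] at h3
    have hdi : d ^ i = 1 := by
      by_contra h4
      exact hdU (Subgroup.zpowers_le.mpr hlU (Subgroup.zpowers_le.mpr h3 (gen_of_mem C.exp
        (fun h5 => h4 (by rw [h5, one_pow])) h4 (Subgroup.pow_mem _ (Subgroup.mem_zpowers d) i))))
    have hei : e ^ i = 1 := by
      have hd1 : d ≠ 1 := fun h5 => hl1 (by rw [← hd, h5, dsp, map_one, mul_one, inv_one])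
      have := orderOf_dvd_of_pow_eq_one hdi
      rw [orderOf_eq_prime (C.exp d) hd1] at this
      obtain ⟨c, rfl⟩ := this
      rw [pow_mul, C.exp, one_pow]
    rw [hei, one_mul] at hv ⊢
    have h6 : d ^ j ∈ U := (Subgroup.mul_mem_cancel_right _ (U.pow_mem hlU k)).mp hv
    have hdj : d ^ j = 1 := by
      by_contra h4
      exact hdU (Subgroup.zpowers_le.mpr h6 (gen_of_mem C.exp
        (fun h5 => h4 (by rw [h5, one_pow])) h4 (Subgroup.pow_mem _ (Subgroup.mem_zpowers d) j)))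
    rw [hdj, one_mul]
    exact Subgroup.pow_mem _ (Subgroup.mem_zpowers l) k
  set π := qact ρ U hU
  have hq1 : ∀ x : V ⧸ U, x ^ p = 1 := fun x => by
    induction x using QuotientGroup.induction_on with
    | H y => rw [← QuotientGroup.mk_pow, C.exp, QuotientGroup.mk_one]
  set dg := ρ g d
  have hdD2 : ∀ v ∈ D, (v : V ⧸ U) ∈ Subgroup.zpowers (d : V ⧸ U) := fun v hv => by
    obtain ⟨x, hx, y, hy, rfl⟩ := Subgroup.mem_sup.mp hv
    obtain ⟨n, rfl⟩ := exists_pow_eq C.exp hy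
    rw [QuotientGroup.mk_mul, (QuotientGroup.eq_one_iff _).mpr (Subgroup.zpowers_le.mpr hlU hx), one_mul,
      QuotientGroup.mk_pow]
    exact Subgroup.pow_mem _ (Subgroup.mem_zpowers _) n
  have hwD : ∀ v, ((dsp ρ w v : V) : V ⧸ U) ∈ Subgroup.zpowers (dg : V ⧸ U) := fun v => by
    obtain ⟨i, hi⟩ := hdD2 _ (hzD (ρ g⁻¹ v))
    refine ⟨i, ?_⟩
    show (dg : V ⧸ U) ^ i = _
    rw [← qact_mk (hU := hU), ← map_zpow]
    show π g ((d : V ⧸ U) ^ i) = _
    rw [show (d : V ⧸ U) ^ i = _ from hi, qact_mk, hwdsp]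
  have hwfix : ∀ v ∈ U, ρ w v = v := fun v hv => dsp_eq_one.mp (by
    rw [hwdsp, dsp_eq_one.mpr (hA _ (hUl _ (hU g⁻¹ v hv))), map_one])
  have hzfix : ∀ v ∈ U, ρ z v = v := fun v hv => hA v (hUl v hv)
  have hwdg : π w (dg : V ⧸ U) = dg := by
    have h0 : dsp ρ w dg ∈ U := by
      rw [hwdsp, show ρ g⁻¹ dg = d by
        rw [← MulAut.mul_apply, ← map_mul, inv_mul_cancel, map_one, MulAut.one_apply], hd]
      exact hU g _ hlU
    rw [qact_mk, apply_eq (ρ := ρ) w dg, QuotientGroup.mk_mul, (QuotientGroup.eq_one_iff _).mpr h0,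
      mul_one]
  have hzd : π z (d : V ⧸ U) = d := by
    rw [qact_mk, apply_eq (ρ := ρ) z d, QuotientGroup.mk_mul, hd, (QuotientGroup.eq_one_iff _).mpr hlU,
      mul_one]
  have hd1 : (d : V ⧸ U) ≠ 1 := fun h0 => hdU ((QuotientGroup.eq_one_iff _).mp h0)
  have hdg1 : (dg : V ⧸ U) ≠ 1 := fun h0 => hdU (by
    have := hU g⁻¹ _ ((QuotientGroup.eq_one_iff _).mp h0)
    rwa [← MulAut.mul_apply, ← map_mul, inv_mul_cancel, map_one, MulAut.one_apply] at this)
  obtain ⟨s, hs⟩ := exists_pow_eq hq1 (hdD2 _ (hzD dg))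
  obtain ⟨t, ht⟩ := exists_pow_eq hq1 (hwD d)
  have hmod : ∀ x : V, (x : V ⧸ U) ∈ Subgroup.zpowers (d : V ⧸ U) → x ∈ D := fun x hx => by
    obtain ⟨n, hn⟩ := hx
    have h0 := QuotientGroup.eq.mp (show ((d ^ n : V) : V ⧸ U) = x by rw [QuotientGroup.mk_zpow]; exact hn)
    have h1 := D.mul_mem (D.zpow_mem hdD n) (Subgroup.mem_sup_left (hUl _ h0))
    rwa [mul_inv_cancel_left] at h1
  have hndg : (dg : V ⧸ U) ∉ Subgroup.zpowers (d : V ⧸ U) := fun hmem => by
    have hUD : U ≤ D := fun v hv => Subgroup.mem_sup_left (hUl v hv)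
    refine C.not_mem_of_conj hz hz1 hg (flagGroup_isPGroup C.odd C.inj C.exp (A := U) hUD)
      ⟨hzfix, fun v hv => Subgroup.zpowers_le.mpr hlU (hzDA v hv), hzD⟩
      ⟨hwfix, fun v hv => ?_, fun v => hmod _ (Subgroup.zpowers_le.mpr hmem (hwD v))⟩
    have h0 := gen_of_mem hq1 hd1 hdg1 hmem
    obtain ⟨i, hi⟩ := exists_pow_eq hq1 (Subgroup.zpowers_le.mpr h0 (hdD2 v hv))
    refine (QuotientGroup.eq_one_iff _).mp ?_
    rw [dsp, QuotientGroup.mk_mul, ← qact_mk (hU := hU), hi]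
    show _ * π w _ = _
    rw [map_pow, hwdg, QuotientGroup.mk_inv, hi, inv_mul_cancel]
  have hqfix : ∀ v : V, π z (v : V ⧸ U) = v → (v : V ⧸ U) ∈ Subgroup.zpowers (d : V ⧸ U) := by
    intro v hv
    rw [qact_mk] at hv
    have h0 := QuotientGroup.eq.mp hv.symm
    have h1 : dsp ρ z (dsp ρ z v) = 1 := dsp_eq_one.mpr (hzfix _ h0)
    obtain ⟨i, j, k, rfl⟩ := hdec v
    have h2 : dsp ρ z (e ^ i * d ^ j * l ^ k) = d ^ i * l ^ j := by
      rw [dsp_mul_right, dsp_mul_right, hm, hm, hm, he, hd, dsp_eq_one.mpr hzl, one_pow, mul_one]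
    rw [h2, dsp_mul_right, hm, hm, hd, dsp_eq_one.mpr hzl, one_pow, mul_one] at h1
    have hei : e ^ i = 1 := by
      have := orderOf_dvd_of_pow_eq_one h1
      rw [orderOf_eq_prime (C.exp l) hl1] at this
      obtain ⟨c, rfl⟩ := this
      rw [pow_mul, C.exp, one_pow]
    rw [hei, one_mul, QuotientGroup.mk_mul, QuotientGroup.mk_pow,
      (QuotientGroup.eq_one_iff _).mpr (U.pow_mem hlU k), mul_one]
    exact Subgroup.pow_mem _ (Subgroup.mem_zpowers _) j
  have hs0 : (s : ZMod p) ≠ 0 := fun h0 => hndg (hqfix dg (by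
    rw [qact_mk, apply_eq (ρ := ρ) z dg, QuotientGroup.mk_mul, hs,
      pow_cast hq1 _ (h0.trans Nat.cast_zero.symm), pow_zero, mul_one]))
  have ht0 : (t : ZMod p) ≠ 0 := fun h0 => by
    have h1 : ((dsp ρ w d : V) : V ⧸ U) = 1 := by
      rw [ht, pow_cast hq1 _ (h0.trans Nat.cast_zero.symm), pow_zero]
    rw [hwdsp, QuotientGroup.eq_one_iff] at h1
    have h2 := hU g⁻¹ _ h1
    rw [← MulAut.mul_apply, ← map_mul, inv_mul_cancel, map_one, MulAut.one_apply] at h2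
    obtain ⟨i, hi⟩ := hqfix (ρ g⁻¹ d) (by
      rw [qact_mk, apply_eq (ρ := ρ) z (ρ g⁻¹ d), QuotientGroup.mk_mul,
        (QuotientGroup.eq_one_iff _).mpr h2, mul_one])
    have h3 : (dg : V ⧸ U) ^ i = d := by
      show π g (d : V ⧸ U) ^ i = _
      rw [← map_zpow, show (d : V ⧸ U) ^ i = _ from hi, qact_mk, hcancel]
    exact hndg (gen_of_mem hq1 hdg1 hd1 ⟨i, h3⟩)
  obtain ⟨k, hk, hka, hkb⟩ := exists_torus (ρ := π) hq1 hs0 ht0 hzd
    (by rw [qact_mk, apply_eq (ρ := ρ) z dg, QuotientGroup.mk_mul, hs]) hwdg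
    (by rw [qact_mk, apply_eq (ρ := ρ) w d, QuotientGroup.mk_mul, ht])
    (c := -1) (neg_ne_zero.mpr one_ne_zero)
  have hneg : ∀ x : V ⧸ U, x ^ ((-1 : ZMod p)).val = x⁻¹ := fun x => by
    rw [eq_inv_iff_mul_eq_one, ← pow_succ, ← pow_zero x]
    exact pow_cast hq1 x (by push_cast; rw [ZMod.natCast_zmod_val]; ring)
  rw [hneg] at hka
  rw [inv_neg, inv_one, hneg] at hkb
  have hkfix : ∀ v ∈ U, ρ k v = v := fun v hv => fix_of_mem_closure hk (hzfix v hv) (hwfix v hv)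
  have hcardU : Nat.card U = p := by
    rw [show U = Subgroup.zpowers l from le_antisymm hUl (Subgroup.zpowers_le.mpr hlU), card_zp C.exp hl1]
  have hspan : ∀ x : V ⧸ U, ∃ i j : ℕ, x = (d : V ⧸ U) ^ i * (dg : V ⧸ U) ^ j := by
    intro x
    have hc : Nat.card (V ⧸ U) = p ^ 2 := by
      have := Subgroup.card_eq_card_quotient_mul_card_subgroup U
      rw [C.card, hcardU, pow_succ] at this
      exact Nat.eq_of_mul_eq_mul_right (Fact.out : p.Prime).pos this.symm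
    exact decomp_two hq1 (h := ⊤) (by rw [Subgroup.card_top, hc]) (Subgroup.mem_top _) (Subgroup.mem_top _)
      hd1 hndg (Subgroup.mem_top x)
  have hkinv : ∀ x : V ⧸ U, π k x = x⁻¹ := fun x => by
    obtain ⟨i, j, rfl⟩ := hspan x
    rw [map_mul, map_pow, map_pow, hka, hkb, mul_inv, inv_pow, inv_pow]
  haveI : (stab ρ U).Normal := ⟨fun m hm g => conj_mem_stab (hU g) (hU g⁻¹) hm⟩
  have hstab := C.normal_p_eq_bot (stab_isPGroup C.inj C.exp U)
  have hmem : ∀ q : L, (∀ x : V ⧸ U, π q x = x) → (∀ v ∈ U, ρ q v = v) → q = 1 := fun q h1 h2 =>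
    (Subgroup.eq_bot_iff_forall _).mp hstab q
      ⟨fun v => QuotientGroup.eq.mp ((qact_mk (hU := hU) q v).symm.trans (h1 _)).symm, h2⟩
  have hk2 : k * k = 1 := hmem _ (fun x => by rw [map_mul, MulAut.mul_apply, hkinv, hkinv, inv_inv])
    fun v hv => by rw [map_mul, MulAut.mul_apply, hkfix v hv, hkfix v hv]
  have hczq : ∀ x : V ⧸ U, π z (π z⁻¹ x) = x := fun x => by
    rw [← MulAut.mul_apply, ← map_mul, mul_inv_cancel, map_one, MulAut.one_apply]
  have hkz : k * z = z * k := by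
    have : k * z * k⁻¹ * z⁻¹ = 1 := by
      refine hmem _ (fun x => ?_) fun v hv => ?_
      · have hki : ∀ y : V ⧸ U, π k⁻¹ y = y⁻¹ := fun y => by
          apply (π k).injective
          rw [hkinv y⁻¹, inv_inv, ← MulAut.mul_apply, ← map_mul, mul_inv_cancel, map_one, MulAut.one_apply]
        rw [map_mul, map_mul, map_mul, MulAut.mul_apply, MulAut.mul_apply, MulAut.mul_apply, hki,
          map_inv (π z), hczq, hkinv, inv_inv]
      · rw [map_mul, map_mul, map_mul, MulAut.mul_apply, MulAut.mul_apply, MulAut.mul_apply,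
          fix_inv (hzfix v hv), fix_inv (hkfix v hv), hzfix v hv, hkfix v hv]
    rw [mul_inv_eq_one, mul_inv_eq_iff_eq_mul] at this
    exact this
  -- the inverted points of `k` miss `U`
  let I : Subgroup V :=
    { carrier := {v | ρ k v = v⁻¹}
      one_mem' := by simp
      mul_mem' := fun {a b} ha hb => by
        show ρ k (a * b) = (a * b)⁻¹
        rw [map_mul, (ha : ρ k a = a⁻¹), (hb : ρ k b = b⁻¹), mul_inv]
      inv_mem' := fun {a} ha => by
        show ρ k a⁻¹ = a⁻¹⁻¹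
        rw [map_inv, (ha : ρ k a = a⁻¹)] }
  set v' := d * (ρ k d)⁻¹ with hv'
  have hv'I : v' ∈ I := by
    show ρ k v' = v'⁻¹
    rw [hv', map_mul, map_inv, ← MulAut.mul_apply, ← map_mul, hk2, map_one, MulAut.one_apply,
      mul_inv, inv_inv, mul_comm]
  have hv'1 : v' ≠ 1 := fun h0 => hd1 (by
    have h1 : (d : V ⧸ U) * (d : V ⧸ U) = 1 := by
      have h2 := congrArg (QuotientGroup.mk (s := U)) h0
      rw [hv', QuotientGroup.mk_mul, QuotientGroup.mk_inv, ← qact_mk (hU := hU), QuotientGroup.mk_one] at h2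
      rwa [hkinv, inv_inv] at h2
    have h3 : orderOf (d : V ⧸ U) ∣ 2 := orderOf_dvd_of_pow_eq_one (by rw [sq, h1])
    rw [orderOf_eq_prime (hq1 _) hd1] at h3
    exact absurd (Nat.le_of_dvd (by norm_num) h3) (not_le.mpr C.odd))
  have hIinv : ∀ u ∈ Subgroup.zpowers z, ∀ v ∈ I, ρ u v ∈ I := by
    rintro u ⟨i, rfl⟩ v hv
    show ρ k (ρ (z ^ i) v) = (ρ (z ^ i) v)⁻¹
    rw [← MulAut.mul_apply, ← map_mul, (Commute.zpow_right (show Commute k z from hkz) i).eq, map_mul,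
      MulAut.mul_apply, (hv : ρ k v = v⁻¹), map_inv]
  obtain ⟨x, hxI, hx1, hxf⟩ := exists_fixed hzP hIinv (by
    have := Subgroup.card_dvd_of_le (Subgroup.zpowers_le.mpr hv'I)
    rwa [card_zp C.exp hv'1] at this)
  apply hx1
  have h5 : x⁻¹ = x := (hxI : ρ k x = x⁻¹).symm.trans
    (hkfix x (Subgroup.zpowers_le.mpr hlU (hfix x (hxf z (Subgroup.mem_zpowers z)))))
  have h6 : x ^ 2 = 1 := by rw [sq]; nth_rewrite 1 [← h5]; rw [inv_mul_cancel]
  have := Nat.dvd_gcd (orderOf_dvd_of_pow_eq_one h6) (orderOf_dvd_of_pow_eq_one (C.exp x))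
  rw [((Fact.out : p.Prime).coprime_iff_not_dvd.mpr (fun h2 => absurd (Nat.le_of_dvd (by norm_num) h2)
    (not_le.mpr C.odd))).symm.gcd_eq_one, Nat.dvd_one, orderOf_eq_one_iff] at this
  exact this

theorem dichotomy {z : L} (hz : z ∈ P) (hz1 : z ≠ 1) : HasTorus p ρ z ∨ HasRegular ρ z := by
  rcases C.trichotomy hz hz1 with ⟨a, h, T⟩ | ⟨e, d, l, he, hd, hzl, hl1, hdec, hfix⟩
  · exact Or.inl (C.torus hz T)
  · exact Or.inr ⟨e, d, l, he, hd, hzl, hl1, hdec, hfix,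
      C.irreducible hz hz1 he hd hzl hl1 hdec hfix⟩

end Ctx

end Cfsg.Agent.LocalEvenD.RTE
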