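import Mathlib.GroupTheory.PGroup
import Mathlib.Data.ZMod.Basic
import Mathlib.Algebra.Field.ZMod
import Mathlib.GroupTheory.Subgroup.Centralizer
import Mathlib.GroupTheory.Index
import Mathlib.Tactic

/-!
# `p`-groups acting on small abelian groups; the torus inside a pair of opposite transvections
-/

set_option autoImplicit false

namespace Cfsg.Agent.LocalEvenD.RTE

variable {V : Type*} [CommGroup V] {L : Type*} [Group L] {p : ℕ}

/-- The displacement `v⁻¹ * u v`. -/
def dsp (ρ : L →* MulAut V) (u : L) (v : V) : V := v⁻¹ * ρ u v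

variable {ρ : L →* MulAut V}

lemma apply_eq (u : L) (v : V) : ρ u v = v * dsp ρ u v := by simp [dsp]

lemma dsp_mul_right (u : L) (v w : V) : dsp ρ u (v * w) = dsp ρ u v * dsp ρ u w := by
  simp only [dsp, map_mul, mul_inv_rev]
  rw [mul_comm w⁻¹ v⁻¹, mul_mul_mul_comm]

lemma dsp_eq_one {u : L} {v : V} : dsp ρ u v = 1 ↔ ρ u v = v := by
  rw [dsp, inv_mul_eq_one, eq_comm]

/-- The fixed subgroup. -/
def fixSub (ρ : L →* MulAut V) (u : L) : Subgroup V where
  carrier := {v | ρ u v = v}
  one_mem' := map_one _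
  mul_mem' {a b} ha hb := by
    show ρ u (a * b) = a * b
    rw [map_mul, ha, hb]
  inv_mem' {a} ha := by
    show ρ u a⁻¹ = a⁻¹
    rw [map_inv, ha]

@[simp] lemma mem_fixSub {u : L} {v : V} : v ∈ fixSub ρ u ↔ ρ u v = v := Iff.rfl

lemma fix_pow {u : L} {v : V} (h : ρ u v = v) (n : ℕ) : ρ (u ^ n) v = v := by
  induction n with
  | zero => simp
  | succ n ih => rw [pow_succ, map_mul, MulAut.mul_apply, h, ih]

lemma fix_inv {u : L} {v : V} (h : ρ u v = v) : ρ u⁻¹ v = v := by
  conv_lhs => rw [← h]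
  rw [← MulAut.mul_apply, ← map_mul, inv_mul_cancel, map_one, MulAut.one_apply]

/-- Iterating an element which fixes its displacement. -/
lemma iter_apply {u : L} {v : V} (h : ρ u (dsp ρ u v) = dsp ρ u v) (n : ℕ) :
    ρ (u ^ n) v = v * dsp ρ u v ^ n := by
  induction n with
  | zero => simp
  | succ n ih =>
    rw [pow_succ', map_mul, MulAut.mul_apply, ih, map_mul, map_pow, h, apply_eq, pow_succ', mul_assoc]

/-- A `p`-group with a fixed point on a set of `p` points fixes it pointwise. -/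
lemma fix_all_of_card [Fact p.Prime] {X : Type*} [MulAction L X] (hL : IsPGroup p L) [Finite X]
    (hX : Nat.card X = p) {x₀ : X} (hx₀ : ∀ u : L, u • x₀ = x₀) (u : L) (x : X) : u • x = x := by
  have h := hL.card_modEq_card_fixedPoints X
  have hfin : Finite (MulAction.fixedPoints L X) := inferInstance
  have hpos : 0 < Nat.card (MulAction.fixedPoints L X) := Nat.card_pos_iff.mpr ⟨⟨⟨x₀, hx₀⟩⟩, hfin⟩
  have hle : Nat.card (MulAction.fixedPoints L X) ≤ p :=
    hX ▸ Nat.card_le_card_of_injective _ Subtype.val_injective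
  have hdvd : p ∣ Nat.card (MulAction.fixedPoints L X) := by
    rw [hX] at h
    exact Nat.modEq_zero_iff_dvd.mp (h.symm.trans (Nat.modEq_zero_iff_dvd.mpr dvd_rfl))
  have heq : (MulAction.fixedPoints L X) = Set.univ := by
    refine Set.eq_of_subset_of_ncard_le (Set.subset_univ _) ?_
    rw [Set.ncard_univ, hX, ← Nat.card_coe_set_eq]
    exact Nat.le_of_dvd hpos hdvd
  exact (heq ▸ Set.mem_univ x : x ∈ MulAction.fixedPoints L X) u

/-- The action of a subgroup on an invariant subgroup. -/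
@[reducible] def subAction (ρ : L →* MulAut V) (P : Subgroup L) (U : Subgroup V)
    (hU : ∀ u ∈ P, ∀ v ∈ U, ρ u v ∈ U) : MulAction P U where
  smul u v := ⟨ρ u v, hU u u.2 v v.2⟩
  one_smul v := Subtype.ext (show ρ ((1 : P) : L) (v : V) = v by simp)
  mul_smul u u' v := Subtype.ext (show ρ ((u * u' : P) : L) (v : V) = ρ u (ρ u' v) by simp)

/-- A nontrivial invariant subgroup contains a nontrivial fixed point of a `p`-group. -/
lemma exists_fixed [Fact p.Prime] [Finite V] {P : Subgroup L} (hP : IsPGroup p P) {U : Subgroup V}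
    (hU : ∀ u ∈ P, ∀ v ∈ U, ρ u v ∈ U) (hd : p ∣ Nat.card U) :
    ∃ v ∈ U, v ≠ 1 ∧ ∀ u ∈ P, ρ u v = v := by
  letI := subAction ρ P U hU
  have h1 : (1 : U) ∈ MulAction.fixedPoints P U := fun u => Subtype.ext (map_one (ρ u))
  obtain ⟨b, hb, hne⟩ :=
    hP.exists_fixed_point_of_prime_dvd_card_of_fixed_point U hd h1
  exact ⟨b, b.2, fun h => hne (Subtype.ext h.symm), fun u hu => congrArg Subtype.val (hb ⟨u, hu⟩)⟩

/-- A `p`-group fixes an invariant subgroup of order `p` pointwise. -/
lemma fix_line [Fact p.Prime] [Finite V] {P : Subgroup L} (hP : IsPGroup p P) {U : Subgroup V}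
    (hU : ∀ u ∈ P, ∀ v ∈ U, ρ u v ∈ U) (hc : Nat.card U = p) {u : L} (hu : u ∈ P) {v : V} (hv : v ∈ U) :
    ρ u v = v := by
  letI := subAction ρ P U hU
  exact congrArg Subtype.val
    (fix_all_of_card hP hc (x₀ := (1 : U)) (fun w => Subtype.ext (map_one (ρ w))) ⟨u, hu⟩ ⟨v, hv⟩)

/-- A `p`-group acts trivially on `W / U` when both are invariant and the quotient has order `p`. -/
lemma dsp_mem_of_step [Fact p.Prime] [Finite V] {P : Subgroup L} (hP : IsPGroup p P) {U W : Subgroup V}
    (hU : ∀ u ∈ P, ∀ v ∈ U, ρ u v ∈ U) (hW : ∀ u ∈ P, ∀ v ∈ W, ρ u v ∈ W)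
    (hc : U.relIndex W = p) {u : L} (hu : u ∈ P) {v : V} (hv : v ∈ W) : dsp ρ u v ∈ U := by
  let N := U.subgroupOf W
  letI : MulAction P (W ⧸ N) :=
    { smul := fun g q => Quotient.liftOn' q
        (fun w => (QuotientGroup.mk ⟨ρ g w, hW g g.2 w w.2⟩ : W ⧸ N))
        (fun a b hab => by
          rw [QuotientGroup.leftRel_apply] at hab
          refine QuotientGroup.eq.mpr ?_
          show ((⟨ρ g a, _⟩ : W)⁻¹ * ⟨ρ g b, _⟩ : W) ∈ N
          rw [Subgroup.mem_subgroupOf]
          simpa [← map_inv, ← map_mul] using hU g g.2 _ (Subgroup.mem_subgroupOf.mp hab))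
      one_smul := fun q => by
        induction q using QuotientGroup.induction_on with
        | H w => exact congrArg QuotientGroup.mk (Subtype.ext (show ρ ((1 : P) : L) (w : V) = w by simp))
      mul_smul := fun g g' q => by
        induction q using QuotientGroup.induction_on with
        | H w =>
          exact congrArg QuotientGroup.mk
            (Subtype.ext (show ρ ((g * g' : P) : L) (w : V) = ρ g (ρ g' w) by simp)) }
  have h := fix_all_of_card hP (X := W ⧸ N) hc (x₀ := ((1 : W) : W ⧸ N))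
    (fun g => congrArg QuotientGroup.mk (Subtype.ext (map_one (ρ g)))) ⟨u, hu⟩ (QuotientGroup.mk ⟨v, hv⟩)
  have h2 := QuotientGroup.eq.mp h.symm
  exact h2

variable (hV : ∀ v : V, v ^ p = 1)

include hV in
lemma pow_cast [NeZero p] (v : V) {m n : ℕ} (h : (m : ZMod p) = n) : v ^ m = v ^ n := by
  rw [← Nat.mod_add_div m p, ← Nat.mod_add_div n p, pow_add, pow_add, pow_mul, pow_mul, hV, one_pow,
    one_pow, (ZMod.natCast_eq_natCast_iff' m n p).mp h]

include hV in
/-- Two elements acting as opposite transvections on a plane generate the torus element. -/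
lemma exists_torus [Fact p.Prime] {z z' : L} {a a' : V} {s t : ℕ} (hs : (s : ZMod p) ≠ 0)
    (ht : (t : ZMod p) ≠ 0) (hza : ρ z a = a) (hza' : ρ z a' = a' * a ^ s) (hz'a' : ρ z' a' = a')
    (hz'a : ρ z' a = a * a' ^ t) {c : ZMod p} (hc : c ≠ 0) :
    ∃ k ∈ Subgroup.closure {z, z'}, ρ k a = a ^ c.val ∧ ρ k a' = a' ^ c⁻¹.val := by
  let P : ZMod p → ZMod p → V := fun x y => a ^ x.val * a' ^ y.val
  let X : ZMod p → L := fun y => z ^ (y / s).val
  let Y : ZMod p → L := fun y => z' ^ (y / t).val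
  have hzn : ∀ n : ℕ, ρ (z ^ n) a' = a' * a ^ (s * n) := by
    intro n
    have hd : dsp ρ z a' = a ^ s := by simp [dsp, hza']
    rw [iter_apply (by rw [hd, map_pow, hza]), hd, ← pow_mul]
  have hz'n : ∀ n : ℕ, ρ (z' ^ n) a = a * a' ^ (t * n) := by
    intro n
    have hd : dsp ρ z' a = a' ^ t := by simp [dsp, hz'a]
    rw [iter_apply (by rw [hd, map_pow, hz'a']), hd, ← pow_mul]
  have hX : ∀ y u v, ρ (X y) (P u v) = P (u + y * v) v := by
    intro y u v
    have e1 : ρ (X y) a = a := fix_pow hza _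
    have e2 : ρ (X y) a' = a' * a ^ (s * (y / s).val) := hzn _
    generalize X y = k at e1 e2
    simp only [P, map_mul, map_pow, e1, e2, mul_pow, ← pow_mul]
    rw [mul_comm (a' ^ v.val), ← mul_assoc, ← pow_add]
    congr 1
    refine pow_cast hV a ?_
    push_cast
    simp only [ZMod.natCast_zmod_val]
    field_simp
  have hY : ∀ y u v, ρ (Y y) (P u v) = P u (v + y * u) := by
    intro y u v
    have e1 : ρ (Y y) a' = a' := fix_pow hz'a' _
    have e2 : ρ (Y y) a = a * a' ^ (t * (y / t).val) := hz'n _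
    generalize Y y = k at e1 e2
    simp only [P, map_mul, map_pow, e1, e2, mul_pow, ← pow_mul]
    rw [mul_assoc, ← pow_add]
    congr 1
    refine pow_cast hV a' ?_
    push_cast
    simp only [ZMod.natCast_zmod_val]
    field_simp
    ring
  have hmem : ∀ y, X y ∈ Subgroup.closure {z, z'} ∧ Y y ∈ Subgroup.closure {z, z'} := fun y =>
    ⟨Subgroup.pow_mem _ (Subgroup.subset_closure (by simp)) _,
      Subgroup.pow_mem _ (Subgroup.subset_closure (by simp)) _⟩
  refine ⟨X c * Y (-c⁻¹) * X c * X (-1) * Y 1 * X (-1), ?_, ?_, ?_⟩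
  · exact mul_mem (mul_mem (mul_mem (mul_mem (mul_mem (hmem _).1 (hmem _).2) (hmem _).1) (hmem _).1)
      (hmem _).2) (hmem _).1
  · have h1 : a = P 1 0 := by simp [P, ZMod.val_one]
    have h2 : a ^ c.val = P c 0 := by simp [P]
    rw [h2]
    conv_lhs => rw [h1]
    simp only [map_mul, MulAut.mul_apply, hX, hY]
    congr 1 <;> field_simp <;> ring
  · have h1 : a' = P 0 1 := by simp [P, ZMod.val_one]
    have h2 : a' ^ c⁻¹.val = P 0 c⁻¹ := by simp [P]
    rw [h2]
    conv_lhs => rw [h1]
    simp only [map_mul, MulAut.mul_apply, hX, hY]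
    congr 1 <;> field_simp <;> ring

/-- An element of the group generated by two elements fixing `v` fixes `v`. -/
lemma fix_of_mem_closure {z z' k : L} (hk : k ∈ Subgroup.closure {z, z'}) {v : V} (h : ρ z v = v)
    (h' : ρ z' v = v) : ρ k v = v := by
  induction hk using Subgroup.closure_induction with
  | mem x hx => rcases hx with rfl | rfl <;> assumption
  | one => simp
  | mul x y _ _ hx hy => rw [map_mul, MulAut.mul_apply, hy, hx]
  | inv x _ hx => exact fix_inv hx

end Cfsg.Agent.LocalEvenD.RTE
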