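import Cfsg.Agent.LocalEvenD.RankThreeEss.RegularCore

/-!
# The regular case
-/

set_option autoImplicit false
set_option linter.style.haveILetI false

namespace Cfsg.Agent.LocalEvenD.RTE

open scoped commutatorElement

/-- `(uv)^n` when the iterated commutators of `v` with `u` are central after two steps. -/
lemma pow_three {H : Type*} [Group H] {u v c₁ c₂ c₃ : H} (h1 : v * u = c₁ * u * v)
    (h2 : v * c₁ = c₂ * c₁ * v) (h3 : c₁ * u = c₃ * u * c₁) (hc2 : ∀ x, Commute c₂ x)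
    (hc3 : ∀ x, Commute c₃ x) (n : ℕ) :
    (u * v) ^ n = u ^ n * c₁ ^ n.choose 2 * v ^ n * (c₂ ^ n.choose 3 * c₃ ^ (n + 1).choose 3) := by
  have hvu : ∀ n : ℕ, v ^ n * u = c₂ ^ n.choose 2 * c₁ ^ n * u * v ^ n := by
    intro n
    induction n with
    | zero => simp
    | succ n ih =>
      have hvc : v * c₁ ^ n = c₂ ^ n * c₁ ^ n * v := by
        rw [← (hc2 c₁).mul_pow]
        exact (SemiconjBy.pow_right (show SemiconjBy v c₁ (c₂ * c₁) from h2) n).eq
      rw [pow_succ' v, mul_assoc, ih, Nat.choose_succ_succ' n 1, Nat.choose_one_right, pow_add,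
        pow_succ c₁]
      calc v * (c₂ ^ n.choose 2 * c₁ ^ n * u * v ^ n)
          = (v * c₂ ^ n.choose 2) * c₁ ^ n * u * v ^ n := by simp only [mul_assoc]
        _ = c₂ ^ n.choose 2 * (v * c₁ ^ n) * u * v ^ n := by
          rw [((hc2 v).pow_left _).symm.eq]; simp only [mul_assoc]
        _ = c₂ ^ n.choose 2 * c₂ ^ n * c₁ ^ n * (v * u) * v ^ n := by rw [hvc]; simp only [mul_assoc]
        _ = c₂ ^ n.choose 2 * c₂ ^ n * c₁ ^ n * c₁ * u * (v * v ^ n) := by rw [h1]; simp only [mul_assoc]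
        _ = _ := by
          rw [((Commute.refl c₂).pow_pow (n.choose 2) n).eq]; simp only [mul_assoc]
  have hcu : ∀ m : ℕ, c₁ ^ m * u = c₃ ^ m * u * c₁ ^ m := by
    intro m
    induction m with
    | zero => simp
    | succ m ih =>
      rw [pow_succ c₁, mul_assoc, h3, pow_succ c₃]
      calc c₁ ^ m * (c₃ * u * c₁) = c₁ ^ m * c₃ * u * c₁ := by simp only [mul_assoc]
        _ = c₃ * (c₁ ^ m * u) * c₁ := by rw [(hc3 _).symm.eq]; simp only [mul_assoc]
        _ = c₃ * c₃ ^ m * u * c₁ ^ m * c₁ := by rw [ih]; simp only [mul_assoc]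
        _ = _ := by rw [((Commute.refl c₃).pow_right m).eq]; simp only [mul_assoc]
  induction n with
  | zero => simp [Nat.choose]
  | succ n ih =>
    have hz : ∀ (i j : ℕ) (x : H), Commute (c₂ ^ i * c₃ ^ j) x := fun i j x =>
      ((hc2 x).pow_left i).mul_left ((hc3 x).pow_left j)
    have key : v ^ n * u = u * c₁ ^ n * v ^ n * (c₂ ^ n.choose 2 * c₃ ^ n) := by
      rw [hvu, mul_assoc (c₂ ^ _), hcu]
      calc c₂ ^ n.choose 2 * (c₃ ^ n * u * c₁ ^ n) * v ^ n
          = (c₂ ^ n.choose 2 * c₃ ^ n) * (u * c₁ ^ n * v ^ n) := by simp only [mul_assoc]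
        _ = _ := (hz _ _ _).eq
    have key2 : c₁ ^ n.choose 2 * u = u * c₁ ^ n.choose 2 * c₃ ^ n.choose 2 := by
      rw [hcu, mul_assoc, ((hc3 _).pow_left _).eq]
    rw [pow_succ (u * v), ih]
    set a := n.choose 3
    set b := (n + 1).choose 3
    calc u ^ n * c₁ ^ n.choose 2 * v ^ n * (c₂ ^ a * c₃ ^ b) * (u * v)
        = u ^ n * c₁ ^ n.choose 2 * (v ^ n * u) * v * (c₂ ^ a * c₃ ^ b) := by
          rw [mul_assoc _ (c₂ ^ a * c₃ ^ b), (hz a b (u * v)).eq]; simp only [mul_assoc]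
      _ = u ^ n * (c₁ ^ n.choose 2 * u) * c₁ ^ n * v ^ n *
            ((c₂ ^ n.choose 2 * c₃ ^ n) * v) * (c₂ ^ a * c₃ ^ b) := by rw [key]; simp only [mul_assoc]
      _ = u ^ n * u * c₁ ^ n.choose 2 * (c₃ ^ n.choose 2 * (c₁ ^ n * v ^ n * v)) *
            (c₂ ^ n.choose 2 * c₃ ^ n * (c₂ ^ a * c₃ ^ b)) := by
          rw [key2, (hz _ _ v).eq]; simp only [mul_assoc]
      _ = u ^ (n + 1) * (c₁ ^ n.choose 2 * c₁ ^ n) * (v ^ n * v) *
            (c₃ ^ n.choose 2 * (c₂ ^ n.choose 2 * c₃ ^ n * (c₂ ^ a * c₃ ^ b))) := by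
          rw [((hc3 _).pow_left _).eq, pow_succ u]; simp only [mul_assoc]
      _ = _ := by
          have e1 : (n + 1).choose 2 = n.choose 2 + n := by
            rw [Nat.choose_succ_succ', Nat.choose_one_right, add_comm]
          have e2 : (n + 1).choose 3 = n.choose 2 + n.choose 3 := Nat.choose_succ_succ' n 2
          have e3 : (n + 1 + 1).choose 3 = n.choose 2 + n + b := by rw [Nat.choose_succ_succ', ← e1]
          rw [← pow_add, ← pow_succ, ← e1]
          congr 1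
          rw [e3, show c₂ ^ b = c₂ ^ (n.choose 2 + a) from congrArg (c₂ ^ ·) e2]
          have hcc : ∀ i j : ℕ, Commute (c₃ ^ i) (c₂ ^ j) := fun i j => ((hc3 _).pow_left i)
          calc c₃ ^ n.choose 2 * (c₂ ^ n.choose 2 * c₃ ^ n * (c₂ ^ a * c₃ ^ b))
              = (c₃ ^ n.choose 2 * c₂ ^ n.choose 2) * (c₃ ^ n * c₂ ^ a) * c₃ ^ b := by simp only [mul_assoc]
            _ = (c₂ ^ n.choose 2 * c₃ ^ n.choose 2) * (c₂ ^ a * c₃ ^ n) * c₃ ^ b := by
              rw [(hcc _ _).eq, (hcc n a).eq]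
            _ = c₂ ^ n.choose 2 * (c₃ ^ n.choose 2 * c₂ ^ a) * (c₃ ^ n * c₃ ^ b) := by simp only [mul_assoc]
            _ = _ := by rw [(hcc _ _).eq]; simp [pow_add, mul_assoc, a]

variable {G : Type*} [Group G] [Finite G] {p : ℕ} [Fact p.Prime]

lemma mem_frattini_map {E₀ : Subgroup G} (hG : IsPGroup p G) {u v : G} (hu : u ∈ E₀) (hv : v ∈ E₀) :
    u ^ p ∈ (frattini E₀).map E₀.subtype ∧ ⁅u, v⁆ ∈ (frattini E₀).map E₀.subtype := by
  refine ⟨⟨(⟨u, hu⟩ : E₀) ^ p, PGroup.pow_mem_frattini (hG.to_subgroup E₀) _, rfl⟩,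
    ⟨⁅(⟨u, hu⟩ : E₀), ⟨v, hv⟩⁆, PGroup.comm_mem_frattini (hG.to_subgroup E₀) _ _, rfl⟩⟩

/-- The regular configuration is impossible. -/
theorem regular_false (hp : 5 ≤ p) (hG : IsPGroup p G) (hrank : RankThree p G)
    (E₀ : Subgroup G) (hrankE : RankThree p E₀) (hidx : E₀.index = p)
    (hirr : ∀ U : Subgroup E₀, U.Characteristic → frattini E₀ ≤ U → U = frattini E₀ ∨ U = ⊤)
    (x e d l : G) (hx : x ∉ E₀) (he : e ∈ E₀)
    (hd : d = e⁻¹ * (x * e * x⁻¹)) (hl : l = d⁻¹ * (x * d * x⁻¹))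
    (hl' : l⁻¹ * (x * l * x⁻¹) ∈ (frattini E₀).map E₀.subtype)
    (hlnot : l ∉ (frattini E₀).map E₀.subtype)
    (hdec : ∀ q ∈ E₀, ∃ i j k : ℕ, ∃ w ∈ (frattini E₀).map E₀.subtype, q = e ^ i * d ^ j * l ^ k * w)
    (hfix : ∀ q ∈ E₀, q⁻¹ * (x * q * x⁻¹) ∈ (frattini E₀).map E₀.subtype →
      ∃ k : ℕ, ∃ w ∈ (frattini E₀).map E₀.subtype, q = l ^ k * w)
    (σ : MulAut G) (hσ : ∃ m : ℕ, σ ^ p ^ m = 1) (hσE : E₀.map σ.toMonoidHom ≠ E₀) : False := by
  classical
  have hpp := (Fact.out : p.Prime)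
  haveI hE₀n : E₀.Normal := PGroup.normal_of_index_eq_prime hG hidx
  set Φ := (frattini E₀).map E₀.subtype with hΦdef
  haveI hΦn : Φ.Normal := ConjAct.normal_of_characteristic_of_normal
  have hΦE : Φ ≤ E₀ := Subgroup.map_subtype_le _
  have hxc : ∀ q ∈ E₀, x * q * x⁻¹ ∈ E₀ := fun q hq => hE₀n.conj_mem q hq x
  have hdE : d ∈ E₀ := hd ▸ E₀.mul_mem (E₀.inv_mem he) (hxc e he)
  have hlE : l ∈ E₀ := hl ▸ E₀.mul_mem (E₀.inv_mem hdE) (hxc d hdE)
  -- working modulo `Φ`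
  let π := QuotientGroup.mk' Φ
  have hπ : ∀ {q : G}, π q = 1 ↔ q ∈ Φ := fun {q} => QuotientGroup.eq_one_iff q
  have hEc : ∀ {u v : G}, u ∈ E₀ → v ∈ E₀ → Commute (π u) (π v) := fun {u v} hu hv => by
    rw [← commutatorElement_eq_one_iff_commute, ← map_commutatorElement, hπ]
    exact (mem_frattini_map hG hu hv).2
  have hEp : ∀ {u : G}, u ∈ E₀ → π u ^ p = 1 := fun {u} hu => by
    rw [← map_pow, hπ]; exact (mem_frattini_map hG hu hu).1
  have hxe : π x * π e = π e * π d * π x := by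
    rw [← map_mul, ← map_mul, ← map_mul, hd]; congr 1; group
  have hxd : π x * π d = π d * π l * π x := by
    rw [← map_mul, ← map_mul, ← map_mul, hl]; congr 1; group
  have hxl : Commute (π x) (π l) := by
    have h := hπ.mpr hl'
    rw [map_mul, map_mul, map_mul, map_inv, map_inv, inv_mul_eq_one, eq_comm, mul_inv_eq_iff_eq_mul] at h
    exact h
  -- `x^p` is a power of `l` modulo `Φ`
  have hxpE : x ^ p ∈ E₀ := by have := Subgroup.pow_index_mem E₀ x; rwa [hidx] at this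
  obtain ⟨ν₁, w₁, hw₁, hxp⟩ := hfix (x ^ p) hxpE (by
    rw [show (x ^ p)⁻¹ * (x * x ^ p * x⁻¹) = 1 by
      rw [← pow_succ', pow_succ, mul_inv_cancel_right, inv_mul_cancel]]
    exact Φ.one_mem)
  -- `D₁` and `D = Φ(G)`
  set D₁ := Φ ⊔ Subgroup.zpowers l with hD₁
  set D := frattini G with hDdef
  have hΦD : Φ ≤ D := frattini_map_le hG E₀
  have hdD : d ∈ D := by
    have : d = ⁅e⁻¹, x⁆ := by rw [hd, commutatorElement_def]; group
    exact this ▸ PGroup.comm_mem_frattini hG _ _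
  have hlD : l ∈ D := by
    have : l = ⁅d⁻¹, x⁆ := by rw [hl, commutatorElement_def]; group
    exact this ▸ PGroup.comm_mem_frattini hG _ _
  have hΦD₁ : Φ < D₁ := lt_of_le_of_ne le_sup_left fun h =>
    hlnot (h.ge (Subgroup.mem_sup_right (Subgroup.mem_zpowers l)))
  have hD₁E : D₁ ≤ E₀ := sup_le hΦE (Subgroup.zpowers_le.mpr hlE)
  have hlx : ∀ g : G, Commute (π l) (π g) := by
    intro g
    have htop : E₀ ⊔ Subgroup.zpowers x = ⊤ :=
      (PGroup.isCoatom_iff_index_eq_prime hG |>.mpr hidx).2 _ (lt_of_le_of_ne le_sup_left fun h =>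
        hx (h.ge (Subgroup.mem_sup_right (Subgroup.mem_zpowers x))))
    obtain ⟨q, hq, y, ⟨i, rfl⟩, rfl⟩ := Subgroup.mem_sup_of_normal_left.mp (htop.ge (Subgroup.mem_top g))
    show Commute (π l) (π (q * x ^ i))
    rw [map_mul, map_zpow]
    exact (hEc hlE hq).mul_right (hxl.symm.zpow_right i)
  haveI hD₁n : D₁.Normal := ⟨fun y hy g => by
    obtain ⟨w, hw, z, ⟨i, rfl⟩, rfl⟩ := Subgroup.mem_sup_of_normal_left.mp hy
    have h1 : g * l ^ i * g⁻¹ * (l ^ i)⁻¹ ∈ Φ := by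
      rw [← hπ]; simp only [map_mul, map_inv, map_zpow]
      rw [((hlx g).symm.zpow_right i).eq, mul_inv_cancel_right, mul_inv_cancel]
    have h2 : g * (w * l ^ i) * g⁻¹ = (g * w * g⁻¹) * (g * l ^ i * g⁻¹ * (l ^ i)⁻¹) * l ^ i := by group
    rw [h2]
    exact Subgroup.mul_mem_sup (Φ.mul_mem (hΦn.conj_mem w hw g) h1) (Subgroup.zpow_mem _ (Subgroup.mem_zpowers l) i)⟩
  let θ := QuotientGroup.mk' D₁
  have hθ : ∀ {q : G}, θ q = 1 ↔ q ∈ D₁ := fun {q} => QuotientGroup.eq_one_iff q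
  have hθΦ : ∀ {q : G}, q ∈ Φ → θ q = 1 := fun {q} hq => hθ.mpr (Subgroup.mem_sup_left hq)
  have hθl : θ l = 1 := hθ.mpr (Subgroup.mem_sup_right (Subgroup.mem_zpowers l))
  have hθed : Commute (θ e) (θ d) := by
    rw [← commutatorElement_eq_one_iff_commute, ← map_commutatorElement]
    exact hθΦ (mem_frattini_map hG he hdE).2
  have hθxe : θ x * θ e = θ e * θ d * θ x := by
    rw [← map_mul, ← map_mul, ← map_mul, hd]; congr 1; group
  have hθxd : Commute (θ x) (θ d) := by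
    show θ x * θ d = θ d * θ x
    calc θ x * θ d = θ d * θ l * θ x := by rw [← map_mul, ← map_mul, ← map_mul, hl]; congr 1; group
      _ = _ := by rw [hθl, mul_one]
  -- every element is `d^a e^b x^c` modulo `D₁`
  have htop : E₀ ⊔ Subgroup.zpowers x = ⊤ :=
    (PGroup.isCoatom_iff_index_eq_prime hG |>.mpr hidx).2 _ (lt_of_le_of_ne le_sup_left fun h =>
      hx (h.ge (Subgroup.mem_sup_right (Subgroup.mem_zpowers x))))
  have hgen : ∀ g : G, ∃ a b c : ℕ, θ g = θ d ^ a * θ e ^ b * θ x ^ c := by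
    intro g
    obtain ⟨q, hq, y, hy, rfl⟩ := Subgroup.mem_sup_of_normal_left.mp (htop.ge (Subgroup.mem_top g))
    obtain ⟨c, rfl⟩ := (isOfFinOrder_of_finite x).mem_powers_iff_mem_zpowers.mpr hy
    obtain ⟨i, j, k, w, hw, rfl⟩ := hdec q hq
    refine ⟨j, i, c, ?_⟩
    simp only [map_mul, map_pow, hθl, hθΦ hw, one_pow, mul_one]
    rw [(hθed.pow_pow i j).eq]
  have hθxp : θ x ^ p = 1 := by
    rw [← map_pow, hxp]; simp [hθl, hθΦ hw₁]
  have hθep : θ e ^ p = 1 := by rw [← map_pow]; exact hθΦ (mem_frattini_map hG he he).1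
  have hθdp : θ d ^ p = 1 := by rw [← map_pow]; exact hθΦ (mem_frattini_map hG hdE hdE).1
  -- the group `D`
  set D₀ := D₁ ⊔ Subgroup.zpowers d with hD₀
  have hθd : ∀ g : G, Commute (θ d) (θ g) := by
    intro g
    obtain ⟨a, b, c, hg⟩ := hgen g
    rw [hg]
    exact (((Commute.refl _).pow_right a).mul_right (hθed.symm.pow_right b)).mul_right (hθxd.symm.pow_right c)
  have hD₀mem : ∀ {g : G}, (∃ a : ℕ, θ g = θ d ^ a) → g ∈ D₀ := fun {g} ⟨a, ha⟩ => by
    have : g * (d ^ a)⁻¹ ∈ D₁ := hθ.mp (by rw [map_mul, map_inv, map_pow, ha, mul_inv_cancel])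
    have h2 := Subgroup.mul_mem_sup this (Subgroup.pow_mem _ (Subgroup.mem_zpowers d) a)
    rwa [inv_mul_cancel_right] at h2
  have hD₀elim : ∀ {g : G}, g ∈ D₀ → ∃ a : ℕ, θ g = θ d ^ a := fun {g} hg => by
    obtain ⟨w, hw, z, hz, rfl⟩ := Subgroup.mem_sup_of_normal_left.mp hg
    obtain ⟨a, rfl⟩ := (isOfFinOrder_of_finite d).mem_powers_iff_mem_zpowers.mpr hz
    exact ⟨a, by rw [map_mul, hθ.mpr hw, one_mul, map_pow]⟩
  haveI hD₀n : D₀.Normal := ⟨fun y hy g => by
    obtain ⟨a, ha⟩ := hD₀elim hy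
    refine hD₀mem ⟨a, ?_⟩
    rw [map_mul, map_mul, map_inv, ha, ((hθd g).symm.pow_right a).eq, mul_inv_cancel_right]⟩
  have hcommD₀ : ∀ g g' : G, ⁅g, g'⁆ ∈ D₀ := by
    intro g g'
    let π₀ := QuotientGroup.mk' D₀
    rw [← QuotientGroup.eq_one_iff]
    show π₀ ⁅g, g'⁆ = 1
    rw [map_commutatorElement, commutatorElement_eq_one_iff_commute]
    have hd0 : π₀ d = 1 := (QuotientGroup.eq_one_iff d).mpr (Subgroup.mem_sup_right (Subgroup.mem_zpowers d))
    have hker : D₁ ≤ π₀.ker := fun q hq => (QuotientGroup.eq_one_iff q).mpr (Subgroup.mem_sup_left hq)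
    let ψ : G ⧸ D₁ →* G ⧸ D₀ := QuotientGroup.lift D₁ π₀ hker
    have hψ : ∀ q : G, ψ (θ q) = π₀ q := fun q => rfl
    have hex : Commute (π₀ x) (π₀ e) := by
      have := congrArg ψ hθxe
      simp only [map_mul, hψ, hd0, mul_one] at this
      exact this
    have hg : ∀ u : G, ∃ b c : ℕ, π₀ u = π₀ e ^ b * π₀ x ^ c := fun u => by
      obtain ⟨a, b, c, hu⟩ := hgen u
      refine ⟨b, c, ?_⟩
      rw [← hψ, hu]
      simp only [map_mul, map_pow, hψ, hd0, one_pow, one_mul]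
    obtain ⟨b, c, h1⟩ := hg g
    obtain ⟨b', c', h2⟩ := hg g'
    rw [h1, h2]
    exact (((Commute.refl _).pow_pow b b').mul_right (hex.symm.pow_pow b c')).mul_left
      ((hex.pow_pow c b').mul_right ((Commute.refl _).pow_pow c c'))
  have hθpow : ∀ (j : ℕ), (θ e ^ j * θ x) ^ p = 1 := by
    intro j
    have hh : ⁅θ x, θ e ^ j⁆ = θ d ^ j := by
      have h1 : θ x * θ e * (θ x)⁻¹ = θ e * θ d := by rw [hθxe, mul_inv_cancel_right]
      have h2 : θ x * θ e ^ j * (θ x)⁻¹ = θ d ^ j * θ e ^ j := by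
        rw [← conj_pow, h1, hθed.mul_pow, (hθed.pow_pow j j).eq]
      rw [commutatorElement_def, h2, mul_inv_cancel_right]
    rw [PGroup.mul_pow_of_commute_commutator (by rw [hh]; exact (hθed.symm.pow_pow j j))
      (by rw [hh]; exact hθxd.symm.pow_left j), hh, ← pow_mul, mul_comm j p, pow_mul, hθep, one_pow,
      hθxp, one_mul, one_mul]
    obtain ⟨t, ht⟩ := hpp.dvd_choose_self (k := 2) (by norm_num) (by omega)
    rw [ht, ← pow_mul, mul_comm j, mul_assoc, pow_mul, hθdp, one_pow]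
  have hDD₀ : D = D₀ := by
    refine le_antisymm ?_ (sup_le (sup_le hΦD (Subgroup.zpowers_le.mpr hlD)) (Subgroup.zpowers_le.mpr hdD))
    refine PGroup.frattini_le_of_quotient (p := p) ?_ fun g => ?_
    · rw [commutator_eq_closure, Subgroup.closure_le]
      rintro _ ⟨u, v, rfl⟩
      exact hcommD₀ u v
    · obtain ⟨a, b, c, hg⟩ := hgen g
      refine hD₀mem ?_
      have hkey : ∃ r : ℕ, θ (g ^ p) = θ d ^ r := by
        rw [map_pow, hg, mul_assoc, ((Commute.mul_right ((hθed.symm.pow_pow a b))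
          (hθxd.symm.pow_pow a c))).mul_pow, ← pow_mul (θ d), mul_comm a p, pow_mul, hθdp, one_pow, one_mul]
        have hh : ⁅θ x ^ c, θ e ^ b⁆ = θ d ^ (b * c) := by
          have h1 : θ x * θ e ^ b * (θ x)⁻¹ = θ d ^ b * θ e ^ b := by
            rw [← conj_pow, hθxe, mul_inv_cancel_right, hθed.mul_pow, (hθed.pow_pow b b).eq]
          have h2 : ⁅θ x, θ e ^ b⁆ = θ d ^ b := by rw [commutatorElement_def, h1, mul_inv_cancel_right]
          rw [PGroup.commutatorElement_pow_left (by rw [h2]; exact hθxd.symm.pow_left b), h2, ← pow_mul]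
        rw [PGroup.mul_pow_of_commute_commutator (by rw [hh]; exact hθed.symm.pow_pow _ b)
          (by rw [hh]; exact hθxd.symm.pow_pow _ c), hh, ← pow_mul (θ e), ← pow_mul (θ x),
          mul_comm b p, mul_comm c p, pow_mul, pow_mul, hθep, hθxp, one_pow, one_pow, one_mul, one_mul,
          ← pow_mul]
        exact ⟨_, rfl⟩
      exact hkey
  have hDE : D ≤ E₀ := hDD₀ ▸ sup_le hD₁E (Subgroup.zpowers_le.mpr hdE)
  have hD₁D : D₁ < D := lt_of_le_of_ne (hDD₀ ▸ le_sup_left) fun h => by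
    obtain ⟨w, hw, z, ⟨i, rfl⟩, hdi⟩ := Subgroup.mem_sup_of_normal_left.mp (h.ge hdD)
    apply hlnot
    have h1 : Commute (π x) (π d) := by
      rw [← hdi, map_mul, hπ.mpr hw, one_mul, map_zpow]; exact hxl.zpow_right i
    rw [← hπ]
    have := h1.eq.symm.trans hxd
    rw [mul_left_inj] at this
    simpa using this
  -- maximal subgroups other than `E₀`
  let E : ℕ → Subgroup G := fun i => E₀.map ((σ ^ i : MulAut G)).toMonoidHom
  let Φs : ℕ → Subgroup G := fun i => Φ.map ((σ ^ i : MulAut G)).toMonoidHom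
  have hEidx : ∀ i, (E i).index = p := fun i => by
    rw [Subgroup.index_map_of_bijective (σ ^ i).bijective, hidx]
  have hmax : ∀ i, IsCoatom (E i) := fun i => (PGroup.isCoatom_iff_index_eq_prime hG).mpr (hEidx i)
  have hDle : ∀ i, D ≤ E i := fun i => frattini_le_coatom (hmax i)
  obtain ⟨m₀, hm₀⟩ := hσ
  haveI : Finite (MulAut G) := Finite.of_injective (fun f : MulAut G => (f : G → G)) DFunLike.coe_injective
  have hstab : ∀ i : ℕ, ¬ p ∣ i → E i ≠ E₀ := by
    intro i hi heq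
    apply hσE
    have hit : ∀ k : ℕ, E₀.map ((σ ^ (i * k) : MulAut G)).toMonoidHom = E₀ := by
      intro k
      induction k with
      | zero => simp only [mul_zero, pow_zero]; exact Subgroup.map_id E₀
      | succ k ih =>
        rw [Nat.mul_succ, pow_add]
        calc E₀.map ((σ ^ (i * k) * σ ^ i : MulAut G)).toMonoidHom
            = (E₀.map ((σ ^ i : MulAut G)).toMonoidHom).map ((σ ^ (i * k) : MulAut G)).toMonoidHom := by
              rw [Subgroup.map_map]; rfl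
          _ = E₀ := by rw [show E₀.map ((σ ^ i : MulAut G)).toMonoidHom = E₀ from heq, ih]
    obtain ⟨k, hk⟩ := Nat.exists_mul_mod_eq_one_of_coprime (n := i) (k := p ^ (m₀ + 1))
      (((hpp.coprime_iff_not_dvd.mpr hi).symm).pow_right _)
      (lt_of_lt_of_le hpp.one_lt (Nat.le_self_pow (by omega) p))
    have hs : σ ^ (i * k) = σ := by
      have hp1 : σ ^ p ^ (m₀ + 1) = 1 := by rw [pow_succ, pow_mul, hm₀, one_pow]
      rw [pow_eq_pow_mod (i * k) hp1, hk.2, pow_one]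
    have := hit k
    rwa [hs] at this
  -- facts about one conjugate
  have hconj : ∀ i : ℕ, E i ≠ E₀ → ∃ j : ℕ, e ^ j * x ∈ E i ∧ Φs i ≤ D₁ ∧
      ⁅d, e ^ j * x⁆ ∈ Φs i ∧ ⁅d, e ^ j * x⁆ ∉ Φ ∧
      ∀ u ∈ E i, ∃ a c : ℕ, θ u = θ d ^ a * (θ e ^ j * θ x) ^ c := by
    intro i hi
    have hmem : ∀ {u : G}, u ∈ E i → ∀ {v : G}, v ∈ E i → u ^ p ∈ Φs i ∧ ⁅u, v⁆ ∈ Φs i := by
      rintro u ⟨u', hu', rfl⟩ v ⟨v', hv', rfl⟩
      exact ⟨⟨u' ^ p, (mem_frattini_map hG hu' hu').1, map_pow _ _ _⟩,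
        ⟨⁅u', v'⁆, (mem_frattini_map hG hu' hv').2, map_commutatorElement _ _ _⟩⟩
    obtain ⟨u₀, hu₀, hu₀E⟩ : ∃ u ∈ E i, u ∉ E₀ := by
      by_contra hc
      push Not at hc
      exact hi (((hmax i).le_iff.mp (hc : E i ≤ E₀)).resolve_left
        (PGroup.isCoatom_iff_index_eq_prime hG |>.mpr hidx).1).symm
    obtain ⟨a, b, c, hu⟩ := hgen u₀
    have hD₁i : D₁ ≤ E i := hD₁D.le.trans (hDle i)
    have hcp : ¬ p ∣ c := by
      rintro ⟨t, rfl⟩
      apply hu₀E
      have h1 : θ u₀ = θ (d ^ a * e ^ b) := by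
        rw [hu, map_mul, map_pow, map_pow, pow_mul (θ x), hθxp, one_pow, mul_one]
      have h2 : u₀ * (d ^ a * e ^ b)⁻¹ ∈ D₁ := hθ.mp (by rw [map_mul, map_inv, h1, mul_inv_cancel])
      have h3 := E₀.mul_mem (hD₁E h2) (E₀.mul_mem (E₀.pow_mem hdE a) (E₀.pow_mem he b))
      rwa [inv_mul_cancel_right] at h3
    have hc0 : (c : ZMod p) ≠ 0 := fun h => hcp ((ZMod.natCast_eq_zero_iff c p).mp h)
    set j := ((b : ZMod p) / c).val
    have hhj : ∀ n : ℕ, (θ e ^ j * θ x) ^ n = θ e ^ (j * n) * θ x ^ n * θ d ^ (j * n.choose 2) := by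
      intro n
      have h1 : θ x * θ e ^ j * (θ x)⁻¹ = θ d ^ j * θ e ^ j := by
        rw [← conj_pow, hθxe, mul_inv_cancel_right, hθed.mul_pow, (hθed.pow_pow j j).eq]
      have hh : ⁅θ x, θ e ^ j⁆ = θ d ^ j := by rw [commutatorElement_def, h1, mul_inv_cancel_right]
      rw [PGroup.mul_pow_of_commute_commutator (by rw [hh]; exact hθed.symm.pow_pow j j)
        (by rw [hh]; exact hθxd.symm.pow_left j), hh, ← pow_mul, ← pow_mul]
    have hjx : e ^ j * x ∈ E i := by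
      let ω := QuotientGroup.mk' D
      have hω : ∀ {q : G}, ω q = 1 ↔ q ∈ D := fun {q} => QuotientGroup.eq_one_iff q
      have hωc : ∀ u v : G, Commute (ω u) (ω v) := fun u v => by
        rw [← commutatorElement_eq_one_iff_commute, ← map_commutatorElement, hω]
        exact PGroup.comm_mem_frattini hG u v
      have hωp : ∀ u : G, ω u ^ p = 1 := fun u => by
        rw [← map_pow, hω]; exact PGroup.pow_mem_frattini hG u
      have hu₀' : ω u₀ = ω e ^ b * ω x ^ c := by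
        have h2 : u₀ * (d ^ a * e ^ b * x ^ c)⁻¹ ∈ D := hD₁D.le (hθ.mp (by
          rw [map_mul, map_inv, hu]; simp only [map_mul, map_pow, mul_inv_cancel]))
        have h3 := hω.mpr h2
        rw [map_mul, map_inv, mul_inv_eq_one] at h3
        rw [h3]
        simp only [map_mul, map_pow, hω.mpr hdD, one_pow, one_mul]
      set n := ((c : ZMod p)⁻¹).val
      have h4 : ω (u₀ ^ n) = ω (e ^ j * x) := by
        have hb' : ω e ^ (b * n) = ω e ^ j := by
          rw [pow_eq_pow_mod (b * n) (hωp e), pow_eq_pow_mod j (hωp e),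
            (ZMod.natCast_eq_natCast_iff' (b * n) j p).mp (by
              push_cast; rw [ZMod.natCast_zmod_val, ZMod.natCast_zmod_val, div_eq_mul_inv])]
        have hc' : ω x ^ (c * n) = ω x := by
          conv_rhs => rw [← pow_one (ω x)]
          rw [pow_eq_pow_mod (c * n) (hωp x), pow_eq_pow_mod 1 (hωp x),
            (ZMod.natCast_eq_natCast_iff' (c * n) 1 p).mp (by
              push_cast; rw [ZMod.natCast_zmod_val, mul_inv_cancel₀ hc0])]
        rw [map_pow, hu₀', ((hωc e x).pow_pow b c).mul_pow, ← pow_mul, ← pow_mul, hb', hc', map_mul, map_pow]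
      have h5 : (u₀ ^ n)⁻¹ * (e ^ j * x) ∈ E i := hDle i (hω.mp (by rw [map_mul, map_inv, h4, inv_mul_cancel]))
      have h6 := (E i).mul_mem ((E i).pow_mem hu₀ n) h5
      rwa [mul_inv_cancel_left] at h6
    have hform : ∀ u ∈ E i, ∃ a c : ℕ, θ u = θ d ^ a * (θ e ^ j * θ x) ^ c := by
      intro u hu'
      obtain ⟨a', b', c', hu''⟩ := hgen u
      refine ⟨a' + (p - 1) * (j * c'.choose 2), c', ?_⟩
      by_cases hb : (b' : ZMod p) = ((j * c' : ℕ) : ZMod p)
      · have hde : ∀ m : ℕ, Commute (θ d ^ m) (θ e ^ (j * c') * θ x ^ c') := fun m =>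
          (hθed.symm.pow_pow m _).mul_right (hθxd.symm.pow_pow m _)
        rw [hu'', pow_eq_pow_mod b' hθep, (ZMod.natCast_eq_natCast_iff' _ _ _).mp hb, ← pow_eq_pow_mod _ hθep,
          hhj, pow_add]
        simp only [mul_assoc]
        congr 1
        rw [← mul_assoc, ← mul_assoc, mul_assoc (θ d ^ ((p - 1) * (j * c'.choose 2))),
          (hde _).eq, mul_assoc (θ e ^ (j * c') * θ x ^ c'), ← pow_add,
          show (p - 1) * (j * c'.choose 2) + j * c'.choose 2 = p * (j * c'.choose 2) by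
            conv_rhs => rw [show p = (p - 1) + 1 by omega]
            ring, pow_mul (θ d), hθdp, one_pow, mul_one]
      · exfalso
        -- then `e` and `x` lie in `E i`
        have h1 : θ u = θ (d ^ a' * e ^ b' * x ^ c') := by simp only [hu'', map_mul, map_pow]
        have h2 : d ^ a' * e ^ b' * x ^ c' ∈ E i := by
          have h3 : (d ^ a' * e ^ b' * x ^ c') * u⁻¹ ∈ D₁ := hθ.mp (by rw [map_mul, map_inv, h1, mul_inv_cancel])
          have h4 := (E i).mul_mem (hD₁i h3) hu'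
          rwa [inv_mul_cancel_right] at h4
        haveI hEin : (E i).Normal := PGroup.normal_of_index_eq_prime hG (hEidx i)
        let π₁ := QuotientGroup.mk' (E i)
        have hcomm₁ : ∀ u v : G, Commute (π₁ u) (π₁ v) := fun u v => by
          rw [← commutatorElement_eq_one_iff_commute, ← map_commutatorElement]
          exact (QuotientGroup.eq_one_iff _).mpr (hDle i (PGroup.comm_mem_frattini hG u v))
        have hd1 : π₁ d = 1 := (QuotientGroup.eq_one_iff _).mpr (hDle i hdD)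
        have he1 : π₁ e ^ p = 1 := by
          rw [← map_pow]; exact (QuotientGroup.eq_one_iff _).mpr (hDle i (PGroup.pow_mem_frattini hG e))
        have hx1 : π₁ x = (π₁ e ^ j)⁻¹ := by
          refine (inv_eq_of_mul_eq_one_right ?_).symm
          rw [← map_pow, ← map_mul]
          exact (QuotientGroup.eq_one_iff _).mpr hjx
        have h5 : π₁ e ^ b' * ((π₁ e ^ j)⁻¹) ^ c' = 1 := by
          have := (QuotientGroup.eq_one_iff _).mpr h2
          change π₁ (d ^ a' * e ^ b' * x ^ c') = 1 at this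
          simpa [map_mul, map_pow, hd1, hx1] using this
        rw [inv_pow, mul_inv_eq_one, ← pow_mul] at h5
        have he0 : π₁ e ≠ 1 := fun h0 => (hmax i).1 (eq_top_iff.mpr fun g _ => by
          obtain ⟨a₂, b₂, c₂, hg⟩ := hgen g
          have h3 : g * (d ^ a₂ * e ^ b₂ * x ^ c₂)⁻¹ ∈ D₁ :=
            hθ.mp (by rw [map_mul, map_inv, hg]; simp only [map_mul, map_pow, mul_inv_cancel])
          refine (QuotientGroup.eq_one_iff g).mp ?_
          show π₁ g = 1
          have h6 := (QuotientGroup.eq_one_iff _).mpr (hD₁i h3)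
          change π₁ (g * (d ^ a₂ * e ^ b₂ * x ^ c₂)⁻¹) = 1 at h6
          simpa [map_mul, map_pow, hd1, hx1, h0] using h6)
        apply hb
        rw [ZMod.natCast_eq_natCast_iff']
        have := pow_eq_pow_iff_modEq.mp h5
        rwa [orderOf_eq_prime he1 he0] at this
    refine ⟨j, hjx, ?_, (hmem (hDle i hdD) hjx).2, ?_, hform⟩
    · show Φ.map _ ≤ D₁
      rw [hΦdef, Subgroup.map_map, Subgroup.map_le_iff_le_comap]
      haveI : (D₁.comap ((σ ^ i : MulAut G).toMonoidHom.comp E₀.subtype)).Normal := inferInstance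
      refine PGroup.frattini_le_of_quotient (p := p) ?_ fun u => ?_
      · rw [commutator_eq_closure, Subgroup.closure_le]
        rintro _ ⟨u, v, rfl⟩
        rw [SetLike.mem_coe, Subgroup.mem_comap, ← hθ, map_commutatorElement, map_commutatorElement,
          commutatorElement_eq_one_iff_commute]
        obtain ⟨a₁, c₁, h1⟩ := hform _ (show ((σ ^ i : MulAut G) (u : G)) ∈ E i from ⟨u, u.2, rfl⟩)
        obtain ⟨a₂, c₂, h2⟩ := hform _ (show ((σ ^ i : MulAut G) (v : G)) ∈ E i from ⟨v, v.2, rfl⟩)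
        show Commute (θ ((σ ^ i : MulAut G) (u : G))) (θ ((σ ^ i : MulAut G) (v : G)))
        rw [h1, h2]
        have hdc : Commute (θ d) (θ e ^ j * θ x) := (hθed.symm.pow_right j).mul_right hθxd.symm
        exact (((Commute.refl _).pow_pow a₁ a₂).mul_right (hdc.pow_pow a₁ c₂)).mul_left
          ((hdc.symm.pow_pow c₁ a₂).mul_right ((Commute.refl _).pow_pow c₁ c₂))
      · rw [Subgroup.mem_comap, map_pow, ← hθ, map_pow]
        obtain ⟨a₁, c₁, h1⟩ := hform _ (show ((σ ^ i : MulAut G) (u : G)) ∈ E i from ⟨u, u.2, rfl⟩)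
        show θ ((σ ^ i : MulAut G) (u : G)) ^ p = 1
        rw [h1, (((hθed.symm.pow_right j).mul_right hθxd.symm).pow_pow a₁ c₁).mul_pow, ← pow_mul,
          ← pow_mul, mul_comm a₁, mul_comm c₁, pow_mul, pow_mul, hθdp, hθpow j, one_pow, one_pow, one_mul]
    · rw [← hπ, map_commutatorElement, commutatorElement_eq_one_iff_commute, map_mul, map_pow]
      intro hc'
      apply hlnot
      rw [← hπ]
      have h1 : Commute (π d) (π x) := by
        have h2 := ((hEc hdE he).pow_right j).inv_right.mul_right hc'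
        rwa [inv_mul_cancel_left] at h2
      have h3 := h1.eq.trans hxd
      rw [mul_left_inj] at h3
      simpa using h3
  have hΦs_card : ∀ i, Nat.card (Φs i) = Nat.card Φ := fun i =>
    Subgroup.card_map_of_injective (σ ^ i).injective
  have hΦs_n : ∀ i, (Φs i).Normal := fun i => Subgroup.Normal.map hΦn _ (σ ^ i).surjective
  have hDpow : ∀ i, ∀ u ∈ D, ∀ v ∈ D, u ^ p ∈ Φs i ∧ ⁅u, v⁆ ∈ Φs i := by
    intro i u hu v hv
    obtain ⟨u', hu', rfl⟩ := hDle i hu
    obtain ⟨v', hv', rfl⟩ := hDle i hv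
    exact ⟨⟨u' ^ p, (mem_frattini_map hG hu' hu').1, map_pow _ _ _⟩,
      ⟨⁅u', v'⁆, (mem_frattini_map hG hu' hv').2, map_commutatorElement _ _ _⟩⟩
  have hne1 := hstab 1 (fun h => by have := Nat.le_of_dvd one_pos h; omega)
  have hne2 := hstab 2 (fun h => by have := Nat.le_of_dvd two_pos h; omega)
  obtain ⟨j₁, hj₁, hΦ1D, hc1, hc1Φ, -⟩ := hconj 1 hne1
  obtain ⟨j₂, hj₂, hΦ2D, hc2, hc2Φ, hform2⟩ := hconj 2 hne2
  set A := Φ ⊓ Φs 1 with hA
  haveI := hΦs_n 1
  haveI := hΦs_n 2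
  haveI hAn : A.Normal := Subgroup.normal_inf_normal Φ (Φs 1)
  have hAΦ : A < Φ := lt_of_le_of_ne inf_le_left fun h => hc1Φ (by
    have : Φ ≤ Φs 1 := h.symm.le.trans inf_le_right
    rw [Subgroup.eq_of_le_of_card_ge this (hΦs_card 1).le]
    exact hc1)
  have hDA : Nat.card D ≤ p ^ 3 * Nat.card A :=
    hrank D A (inf_le_left.trans hΦD) hAn
      (fun u hu v hv => ⟨(mem_frattini_map hG (hDE hu) (hDE hv)).2, (hDpow 1 u hu v hv).2⟩)
      (fun u hu => ⟨(mem_frattini_map hG (hDE hu) (hDE hu)).1, (hDpow 1 u hu u hu).1⟩)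
  have hA2 : A ≤ Φs 2 := by
    by_contra hcon
    haveI hn' : (A ⊓ Φs 2).Normal := Subgroup.normal_inf_normal _ _
    have h1 := hrank D (A ⊓ Φs 2) (inf_le_left.trans (inf_le_left.trans hΦD)) hn'
      (fun u hu v hv => ⟨⟨(mem_frattini_map hG (hDE hu) (hDE hv)).2, (hDpow 1 u hu v hv).2⟩,
        (hDpow 2 u hu v hv).2⟩)
      (fun u hu => ⟨⟨(mem_frattini_map hG (hDE hu) (hDE hu)).1, (hDpow 1 u hu u hu).1⟩,
        (hDpow 2 u hu u hu).1⟩)
    have h2 := card_mul_le' hG (lt_of_le_of_ne inf_le_left fun h : A ⊓ Φs 2 = A => hcon (h.symm.le.trans inf_le_right))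
    have h3 := card_mul_le' hG hAΦ
    have h4 := card_mul_le' hG hΦD₁
    have h5 := card_mul_le' hG hD₁D
    have hpos := Nat.card_pos (α := (A ⊓ Φs 2 : Subgroup G))
    have h6 : p ^ 4 * Nat.card (A ⊓ Φs 2 : Subgroup G) ≤ p ^ 3 * Nat.card (A ⊓ Φs 2 : Subgroup G) := by
      calc _ = p * (p * (p * (p * Nat.card (A ⊓ Φs 2 : Subgroup G)))) := by ring
        _ ≤ p * (p * (p * Nat.card A)) := by gcongr
        _ ≤ p * (p * Nat.card Φ) := by gcongr
        _ ≤ p * Nat.card D₁ := by gcongr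
        _ ≤ Nat.card D := h5
        _ ≤ _ := h1
    exact absurd (Nat.le_of_mul_le_mul_right h6 hpos) (not_le.mpr (Nat.pow_lt_pow_right hpp.one_lt (by norm_num)))
  have hΦA : Nat.card Φ ≤ p * Nat.card A := by
    have h4 := card_mul_le' hG hΦD₁
    have h5 := card_mul_le' hG hD₁D
    have : p * p * Nat.card Φ ≤ p * p * (p * Nat.card A) := by
      calc _ = p * (p * Nat.card Φ) := by ring
        _ ≤ p * Nat.card D₁ := by gcongr
        _ ≤ Nat.card D := h5
        _ ≤ p ^ 3 * Nat.card A := hDA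
        _ = _ := by ring
    exact Nat.le_of_mul_le_mul_left this (Nat.mul_pos hpp.pos hpp.pos)
  -- working modulo `A`
  let α := QuotientGroup.mk' A
  have hα : ∀ {q : G}, α q = 1 ↔ q ∈ A := fun {q} => QuotientGroup.eq_one_iff q
  have hgenA : ∀ (Y : Subgroup G) (y : G), A ≤ Y → Nat.card Y ≤ p * Nat.card A → y ∈ Y → y ∉ A →
      ∀ u ∈ Y, ∃ n : ℕ, α u = α y ^ n := by
    intro Y y hAY hY hy hyA u hu
    have heq : A ⊔ Subgroup.zpowers y = Y :=
      Subgroup.eq_of_le_of_card_ge (sup_le hAY (Subgroup.zpowers_le.mpr hy)) (hY.trans (card_mul_le' hG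
        (lt_of_le_of_ne le_sup_left fun h => hyA (h.ge (Subgroup.mem_sup_right (Subgroup.mem_zpowers y))))))
    obtain ⟨w, hw, z, hz, rfl⟩ := Subgroup.mem_sup_of_normal_left.mp (heq.ge hu)
    obtain ⟨n, rfl⟩ := (isOfFinOrder_of_finite y).mem_powers_iff_mem_zpowers.mpr hz
    exact ⟨n, by rw [map_mul, hα.mpr hw, one_mul, map_pow]⟩
  have hcent : ∀ u ∈ D₁, ∀ g : G, Commute (α u) (α g) := by
    intro u hu g
    rw [← commutatorElement_eq_one_iff_commute, ← map_commutatorElement, hα]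
    refine ⟨?_, ?_⟩
    · show ⁅u, g⁆ ∈ Φ
      rw [← hπ, map_commutatorElement, commutatorElement_eq_one_iff_commute]
      obtain ⟨w, hw, z, ⟨i, rfl⟩, rfl⟩ := Subgroup.mem_sup_of_normal_left.mp hu
      rw [map_mul, hπ.mpr hw, one_mul, map_zpow]
      exact (hlx g).zpow_left i
    · -- `D₁ / Φs 1` is a normal subgroup of order at most `p`
      let β := QuotientGroup.mk' (Φs 1)
      have hcp : Nat.card (D₁.map β) ≤ p := by
        have h1 := Subgroup.card_eq_card_quotient_mul_card_subgroup ((Φs 1).subgroupOf D₁)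
        rw [Nat.card_congr (Subgroup.subgroupOfEquivOfLe hΦ1D).toEquiv, hΦs_card] at h1
        have h3 : Nat.card (D₁.map β) = Nat.card (D₁ ⧸ (Φs 1).subgroupOf D₁) := by
          have e1 := Nat.card_congr (QuotientGroup.quotientKerEquivRange (β.comp D₁.subtype)).toEquiv
          rw [MonoidHom.range_comp, Subgroup.range_subtype] at e1
          rw [← e1]
          congr 2
          ext y
          simp [Subgroup.mem_subgroupOf, β]
        have h5 : Nat.card D₁ ≤ p * Nat.card Φ := by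
          refine le_trans (Nat.card_le_card_of_surjective
            (fun q : Φ × Fin p => (⟨(q.1 : G) * l ^ (q.2 : ℕ),
              Subgroup.mul_mem_sup q.1.2 (Subgroup.pow_mem _ (Subgroup.mem_zpowers l) _)⟩ : D₁))
            fun ⟨y, hy⟩ => ?_) (by rw [Nat.card_prod, Nat.card_fin, mul_comm])
          obtain ⟨w, hw, z, hz, rfl⟩ := Subgroup.mem_sup_of_normal_left.mp hy
          obtain ⟨n, rfl⟩ := (isOfFinOrder_of_finite l).mem_powers_iff_mem_zpowers.mpr hz
          refine ⟨(⟨w * (l ^ p) ^ (n / p), Φ.mul_mem hw (Φ.pow_mem (mem_frattini_map hG hlE hlE).1 _)⟩,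
            ⟨n % p, Nat.mod_lt _ hpp.pos⟩), Subtype.ext ?_⟩
          show w * (l ^ p) ^ (n / p) * l ^ (n % p) = w * l ^ n
          rw [mul_assoc, ← pow_mul, ← pow_add, Nat.div_add_mod]
        rw [h3]
        exact Nat.le_of_mul_le_mul_right (h1 ▸ h5) (Nat.card_pos (α := Φ))
      show ⁅u, g⁆ ∈ Φs 1
      rw [← QuotientGroup.eq_one_iff]
      show β ⁅u, g⁆ = 1
      rw [map_commutatorElement, commutatorElement_eq_one_iff_commute]
      rcases eq_or_ne (β u) 1 with h | h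
      · rw [h]; exact Commute.one_left _
      have hQ : IsPGroup p (G ⧸ Φs 1) := hG.to_quotient _
      haveI : (D₁.map β).Normal := hD₁n.map _ (QuotientGroup.mk'_surjective _)
      have hne : D₁.map β ≠ ⊥ := fun h0 => h ((Subgroup.eq_bot_iff_forall _).mp h0 _ ⟨u, hu, rfl⟩)
      obtain ⟨k, hk⟩ := IsPGroup.iff_card.mp (hQ.to_subgroup (D₁.map β))
      have hk1 : k = 1 := by
        have h2 : k ≠ 0 := fun h0 => hne (Subgroup.card_eq_one.mp (by rw [hk, h0, pow_zero]))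
        have : k ≤ 1 := (Nat.pow_le_pow_iff_right hpp.one_lt).mp (by rw [← hk, pow_one]; exact hcp)
        omega
      have := PGroup.le_center_of_card_eq_prime hQ (N := D₁.map β) (by rw [hk, hk1, pow_one])
        (Subgroup.mem_map_of_mem β hu)
      exact (Subgroup.mem_center_iff.mp this _).symm
  set F := ⁅d, e⁆ with hF
  set L := ⁅d, x⁆ with hL
  have hFΦ : F ∈ Φ := (mem_frattini_map hG hdE he).2
  have hFA : F ∉ A := by
    intro hFA
    -- then `[D, E₀] ≤ Φs 1`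
    let β := QuotientGroup.mk' (Φs 1)
    have hβe : Commute (β d) (β e) := by
      rw [← commutatorElement_eq_one_iff_commute, ← map_commutatorElement]
      exact (QuotientGroup.eq_one_iff _).mpr hFA.2
    have hβD : ∀ u ∈ D₁, ∀ g : G, Commute (β u) (β g) := by
      intro u hu g
      rw [← commutatorElement_eq_one_iff_commute, ← map_commutatorElement]
      have h := (hcent u hu g)
      rw [← commutatorElement_eq_one_iff_commute, ← map_commutatorElement, hα] at h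
      exact (QuotientGroup.eq_one_iff _).mpr h.2
    have hkey : ∀ u ∈ D, ∀ v ∈ E₀, ⁅u, v⁆ ∈ Φs 1 := by
      intro u hu v hv
      rw [← QuotientGroup.eq_one_iff]
      show β ⁅u, v⁆ = 1
      rw [map_commutatorElement, commutatorElement_eq_one_iff_commute]
      rw [hDD₀] at hu
      obtain ⟨w, hw, z, ⟨i, rfl⟩, rfl⟩ := Subgroup.mem_sup_of_normal_left.mp hu
      obtain ⟨a, b, c, w', hw', rfl⟩ := hdec v hv
      simp only [map_mul, map_zpow, map_pow]
      refine Commute.mul_left ?_ (Commute.zpow_left ?_ i)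
      · exact (((hβD w hw e).pow_right a).mul_right ((hβD w hw d).pow_right b)).mul_right
          ((hβD w hw l).pow_right c) |>.mul_right (hβD w hw w')
      · exact (((hβe.pow_right a).mul_right ((Commute.refl _).pow_right b)).mul_right
          ((hβD l (Subgroup.mem_sup_right (Subgroup.mem_zpowers l)) d).symm.pow_right c)).mul_right
          (hβD w' (Subgroup.mem_sup_left hw') d).symm
    obtain ⟨i, hi, hσi⟩ : ∃ i : ℕ, ¬ p ∣ i ∧ σ * σ ^ i = 1 := by
      refine ⟨p ^ (m₀ + 1) - 1, fun h => ?_, ?_⟩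
      · have h1 : p ∣ p ^ (m₀ + 1) := dvd_pow_self p (Nat.succ_ne_zero _)
        have h2 := Nat.dvd_sub h1 h
        rw [Nat.sub_sub_self (Nat.one_le_pow _ _ hpp.pos)] at h2
        exact hpp.ne_one (Nat.dvd_one.mp h2)
      · rw [← pow_succ', Nat.sub_add_cancel (Nat.one_le_pow _ _ hpp.pos), pow_succ, pow_mul, hm₀, one_pow]
    obtain ⟨j, hj, -, -, hnotΦ, -⟩ := hconj i (hstab i hi)
    obtain ⟨v, hv, hve⟩ := hj
    have h1 : σ d ∈ D := by
      have := Subgroup.characteristic_iff_map_le.mp (inferInstance : (frattini G).Characteristic) σ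
      exact this ⟨d, hdD, rfl⟩
    have h2 : σ (e ^ j * x) = v := by
      rw [← hve]
      show σ ((σ ^ i : MulAut G) v) = v
      rw [← MulAut.mul_apply, hσi, MulAut.one_apply]
    obtain ⟨y, hy, hye⟩ := hkey (σ d) h1 v hv
    apply hnotΦ
    have h3 : σ ⁅d, e ^ j * x⁆ = σ y := by
      rw [map_commutatorElement, h2, ← hye]
      show (σ ^ 1 : MulAut G) y = σ y
      rw [pow_one]
    exact σ.injective h3 ▸ hy
  have hLΦ : L ∉ Φ := by
    rw [← hπ, hL, map_commutatorElement, commutatorElement_eq_one_iff_commute]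
    intro h
    apply hlnot
    rw [← hπ]
    have h3 := h.eq.trans hxd
    rw [mul_left_inj] at h3
    simpa using h3
  have hLD₁ : L ∈ D₁ := by
    rw [← hθ, hL, map_commutatorElement, commutatorElement_eq_one_iff_commute]
    exact hθxd.symm
  have hFord : α F ^ p = 1 := by
    rw [← map_pow, hα]
    exact ⟨(mem_frattini_map hG (hΦE hFΦ) (hΦE hFΦ)).1, (hDpow 1 F (hΦD hFΦ) F (hΦD hFΦ)).1⟩
  have hcommdj : ∀ j : ℕ, α ⁅d, e ^ j * x⁆ = α F ^ j * α L := by
    intro j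
    have hc : ∀ g, Commute (α L) g := fun g => by
      obtain ⟨g, rfl⟩ := QuotientGroup.mk'_surjective A g
      exact hcent L hLD₁ g
    have hcF : ∀ g, Commute (α F) g := fun g => by
      obtain ⟨g, rfl⟩ := QuotientGroup.mk'_surjective A g
      exact hcent F (Subgroup.mem_sup_left hFΦ) g
    rw [map_commutatorElement, map_mul, map_pow, commutatorElement_mul_right_eq_mul_conj, ← map_commutatorElement α d x,
      ← hL, PGroup.commutatorElement_pow_right (by rw [← map_commutatorElement, ← hF]; exact hcF _),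
      ← map_commutatorElement, ← hF, mul_assoc (α F ^ j), ← (hc (α e ^ j)).eq,
      ← mul_assoc, mul_inv_cancel_right]
  have hLl : π L = (π l)⁻¹ := by
    rw [hL, map_commutatorElement, commutatorElement_def,
      show π d * π x * (π d)⁻¹ * (π x)⁻¹ = π d * (π x * π d * (π x)⁻¹)⁻¹ by group, hxd,
      mul_inv_cancel_right, (hEc hdE hlE).eq, mul_inv_rev, mul_inv_cancel_left]
  obtain ⟨a, ha⟩ := hgenA Φ F inf_le_left hΦA hFΦ hFA (e ^ p) (mem_frattini_map hG he he).1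
  obtain ⟨nL, hnL⟩ : ∃ n : ℕ, π (x ^ p) = π L ^ n := by
    refine ⟨(p - 1) * ν₁, ?_⟩
    rw [hxp, map_mul, hπ.mpr hw₁, mul_one, map_pow, hLl, inv_pow, eq_inv_iff_mul_eq_one, ← pow_add,
      show ν₁ + (p - 1) * ν₁ = p * ν₁ by
        conv_rhs => rw [show p = (p - 1) + 1 by omega]
        ring, pow_mul, hEp hlE, one_pow]
  obtain ⟨β₀, hβ₀⟩ : ∃ b : ℕ, α (x ^ p) = α L ^ nL * α F ^ b := by
    have h1 : (L ^ nL)⁻¹ * x ^ p ∈ Φ := hπ.mp (by rw [map_mul, map_inv, map_pow, hnL, inv_mul_cancel])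
    obtain ⟨b, hb⟩ := hgenA Φ F inf_le_left hΦA hFΦ hFA _ h1
    refine ⟨b, ?_⟩
    rw [← hb]
    simp only [map_mul, map_inv, map_pow, mul_inv_cancel_left]
  have hline : ∀ i j : ℕ, e ^ j * x ∈ E i → A ≤ Φs i → ⁅d, e ^ j * x⁆ ∈ Φs i → ⁅d, e ^ j * x⁆ ∉ Φ →
      ∃ lam : ℕ, α F ^ (a * j) * (α L ^ nL * α F ^ β₀) = (α F ^ j * α L) ^ lam := by
    intro i j hj hAi hc hcΦ
    obtain ⟨lam, hlam⟩ := hgenA (Φs i) _ hAi (hΦs_card i ▸ hΦA) hc (fun h => hcΦ h.1) ((e ^ j * x) ^ p) (by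
      obtain ⟨u, hu, hue⟩ := hj
      exact ⟨u ^ p, (mem_frattini_map hG hu hu).1, by rw [map_pow]; exact congrArg (· ^ p) hue⟩)
    refine ⟨lam, ?_⟩
    rw [← hcommdj, ← hlam, map_pow, map_mul, map_pow]
    -- compute the power modulo `A`
    have hexpD : ∀ u ∈ D, α u ^ p = 1 := fun u hu => by
      rw [← map_pow, hα]
      exact ⟨(mem_frattini_map hG (hDE hu) (hDE hu)).1, (hDpow 1 u hu u hu).1⟩
    have hc1D : ⁅x, e ^ j⁆ ∈ D := PGroup.comm_mem_frattini hG _ _
    have hdec1 : θ ⁅x, e ^ j⁆ = θ d ^ j := by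
      have h1 : θ x * θ e ^ j * (θ x)⁻¹ = θ d ^ j * θ e ^ j := by
        rw [← conj_pow, hθxe, mul_inv_cancel_right, hθed.mul_pow, (hθed.pow_pow j j).eq]
      rw [map_commutatorElement, map_pow, commutatorElement_def, h1, mul_inv_cancel_right]
    have hc2D : ⁅x, ⁅x, e ^ j⁆⁆ ∈ D₁ := by
      rw [← hθ, map_commutatorElement, hdec1, commutatorElement_eq_one_iff_commute]
      exact hθxd.pow_right j
    have hc3D : ⁅⁅x, e ^ j⁆, e ^ j⁆ ∈ D₁ :=
      Subgroup.mem_sup_left (mem_frattini_map hG (hDE hc1D) (E₀.pow_mem he j)).2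
    have hz : ∀ u ∈ D₁, ∀ y, Commute (α u) y := fun u hu y => by
      obtain ⟨y, rfl⟩ := QuotientGroup.mk'_surjective A y
      exact hcent u hu y
    rw [pow_three (c₁ := α ⁅x, e ^ j⁆) (c₂ := α ⁅x, ⁅x, e ^ j⁆⁆) (c₃ := α ⁅⁅x, e ^ j⁆, e ^ j⁆)
      (by simp only [← map_pow, ← map_mul, ← PGroup.mul_eq_comm_mul_swap, mul_assoc])
      (by simp only [← map_mul, ← PGroup.mul_eq_comm_mul_swap, mul_assoc])
      (by simp only [← map_pow, ← map_mul, ← PGroup.mul_eq_comm_mul_swap, mul_assoc])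
      (hz _ hc2D) (hz _ hc3D)]
    obtain ⟨t2, ht2⟩ := hpp.dvd_choose_self (k := 2) (by norm_num) (by omega)
    obtain ⟨t3, ht3⟩ := hpp.dvd_choose_self (k := 3) (by norm_num) (by omega)
    have ht4 : (p + 1).choose 3 = p * (t2 + t3) := by
      rw [Nat.choose_succ_succ', show p.choose (1 + 1) = p.choose 2 from rfl, ht2,
        show p.choose (2 + 1) = p.choose 3 from rfl, ht3]
      ring
    rw [ht2, ht3, ht4, pow_mul (α ⁅x, e ^ j⁆), hexpD _ hc1D, pow_mul (α ⁅x, ⁅x, e ^ j⁆⁆),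
      hexpD _ (hD₁D.le hc2D), pow_mul (α ⁅⁅x, e ^ j⁆, e ^ j⁆), hexpD _ (hD₁D.le hc3D), one_pow, one_pow,
      one_pow, mul_one, mul_one, mul_one, ← pow_mul, mul_comm j p, pow_mul (α e) p, ← map_pow α e p, ha,
      ← map_pow α x p, hβ₀, ← pow_mul]
  have hF1 : α F ≠ 1 := fun h => hFA (hα.mp h)
  have hFi : ∀ m n : ℕ, α F ^ m = α F ^ n → (m : ZMod p) = n := fun m n h => by
    rw [ZMod.natCast_eq_natCast_iff]
    rw [← orderOf_eq_prime hFord hF1]
    exact pow_eq_pow_iff_modEq.mp h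
  have hkey : ∀ i j : ℕ, e ^ j * x ∈ E i → A ≤ Φs i → ⁅d, e ^ j * x⁆ ∈ Φs i → ⁅d, e ^ j * x⁆ ∉ Φ →
      (a * j + β₀ : ZMod p) = (j * nL : ZMod p) := by
    intro i j h1 h2 h3 h4
    obtain ⟨lam, hlam⟩ := hline i j h1 h2 h3 h4
    let ψ : G ⧸ A →* G ⧸ Φ := QuotientGroup.lift A π (fun q hq => hπ.mpr hq.1)
    have hψ := congrArg ψ hlam
    have hψF : ψ (α F) = 1 := hπ.mpr hFΦ
    simp only [map_mul, map_pow, hψF, one_pow, one_mul, mul_one] at hψ
    change π L ^ nL = π L ^ lam at hψ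
    have hLord : orderOf (π L) = p :=
      orderOf_eq_prime (hEp (hD₁E hLD₁)) (fun h => hLΦ (hπ.mp h))
    have hlam' : α L ^ nL = α L ^ lam := by
      have hm := pow_eq_pow_iff_modEq.mp hψ
      rw [hLord] at hm
      have hexp : α L ^ p = 1 := by
        rw [← map_pow, hα]
        exact ⟨(mem_frattini_map hG (hD₁E hLD₁) (hD₁E hLD₁)).1, (hDpow 1 L (hD₁D.le hLD₁) L (hD₁D.le hLD₁)).1⟩
      rw [pow_eq_pow_mod nL hexp, pow_eq_pow_mod lam hexp, hm]
    have hlamz : (lam : ZMod p) = nL := by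
      rw [ZMod.natCast_eq_natCast_iff]
      have hm := pow_eq_pow_iff_modEq.mp hψ
      rw [hLord] at hm
      exact hm.symm
    have hc : Commute (α F ^ j) (α L) := (hcent F (Subgroup.mem_sup_left hFΦ) L).pow_left j
    rw [hc.mul_pow, ← pow_mul, ← hlam', ((hcent L hLD₁ F).pow_pow nL β₀).eq, ← mul_assoc, ← pow_add] at hlam
    have h5 := hFi _ _ (mul_right_cancel hlam)
    push_cast at h5
    rw [h5, hlamz]
  have hanu : (a : ZMod p) = nL := by
    have k1 := hkey 1 j₁ hj₁ inf_le_right hc1 hc1Φ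
    have k2 := hkey 2 j₂ hj₂ hA2 hc2 hc2Φ
    by_cases hj : (j₁ : ZMod p) = j₂
    · exfalso
      -- the two conjugates coincide
      have hE12 : E 2 ≤ E 1 := fun u hu => by
        obtain ⟨a', c', hu'⟩ := hform2 u hu
        have hje : θ e ^ j₂ = θ e ^ j₁ := by
          rw [pow_eq_pow_mod j₂ hθep, pow_eq_pow_mod j₁ hθep,
            (ZMod.natCast_eq_natCast_iff' _ _ _).mp hj.symm]
        have h1 : u * (d ^ a' * (e ^ j₁ * x) ^ c')⁻¹ ∈ D₁ := hθ.mp (by
          rw [map_mul, map_inv, hu']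
          simp only [map_mul, map_pow, hje, mul_inv_cancel])
        have h2 := (E 1).mul_mem (hDle 1 (hD₁D.le h1))
          ((E 1).mul_mem ((E 1).pow_mem (hDle 1 hdD) a') ((E 1).pow_mem hj₁ c'))
        rwa [inv_mul_cancel_right] at h2
      have hE12' : E 2 = E 1 := (((hmax 2).le_iff.mp hE12).resolve_left (hmax 1).1).symm
      apply hne1
      apply Subgroup.map_injective (f := σ.toMonoidHom) σ.injective
      show (E 1).map σ.toMonoidHom = E₀.map σ.toMonoidHom
      calc (E 1).map σ.toMonoidHom = E 2 := by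
            show (E₀.map _).map _ = E₀.map _
            rw [Subgroup.map_map]
            congr 1
        _ = E 1 := hE12'
        _ = _ := by show E₀.map _ = E₀.map _; rw [pow_one]
    · have h1 : ((a : ZMod p) - nL) * ((j₁ : ZMod p) - j₂) = 0 := by linear_combination k1 - k2
      exact sub_eq_zero.mp ((mul_eq_zero.mp h1).resolve_right (sub_ne_zero.mpr hj))
  -- the quotient `E₀ / [Φ, E₀] Φ^p`
  let X : Set E₀ := {q | ∃ u ∈ frattini E₀, (∃ v, q = ⁅u, v⁆) ∨ q = u ^ p}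
  let Φ₂ : Subgroup E₀ := Subgroup.normalClosure X
  haveI : Φ₂.Normal := Subgroup.normalClosure_normal
  haveI hΦ₂c : Φ₂.Characteristic := Subgroup.characteristic_iff_map_le.mpr fun φ => by
    rw [Subgroup.map_normalClosure _ _ φ.surjective]
    refine Subgroup.normalClosure_mono ?_
    rintro _ ⟨q, ⟨u, hu, hq⟩, rfl⟩
    refine ⟨φ u, Subgroup.characteristic_iff_map_le.mp inferInstance φ ⟨u, hu, rfl⟩, ?_⟩
    rcases hq with ⟨v, rfl⟩ | rfl
    · exact Or.inl ⟨φ v, map_commutatorElement φ u v⟩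
    · exact Or.inr (map_pow φ u p)
  let Aₑ : Subgroup E₀ := A.subgroupOf E₀
  haveI : Aₑ.Normal := hAn.subgroupOf E₀
  have hΦ₂A : Φ₂ ≤ Aₑ := Subgroup.normalClosure_le_normal fun q ⟨u, hu, hq⟩ => by
    have huΦ : (u : G) ∈ Φ := ⟨u, hu, rfl⟩
    rcases hq with ⟨v, rfl⟩ | rfl
    · show ((⁅u, v⁆ : E₀) : G) ∈ A
      rw [show ((⁅u, v⁆ : E₀) : G) = ⁅(u : G), (v : G)⁆ from rfl, ← hα, map_commutatorElement,
        commutatorElement_eq_one_iff_commute]
      exact hcent _ (Subgroup.mem_sup_left huΦ) _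
    · show ((u ^ p : E₀) : G) ∈ A
      exact ⟨(mem_frattini_map hG u.2 u.2).1, (hDpow 1 (u : G) (hΦD huΦ) (u : G) (hΦD huΦ)).1⟩
  have hAΦ' : Aₑ ≤ frattini E₀ := fun q hq => by
    obtain ⟨u, hu, hue⟩ := (Subgroup.mem_subgroupOf.mp hq).1
    rwa [← Subtype.ext (a1 := u) hue]
  let γ := QuotientGroup.mk' Φ₂
  let W : Subgroup (E₀ ⧸ Φ₂) := (frattini E₀).map γ
  let A' : Subgroup (E₀ ⧸ Φ₂) := Aₑ.map γ
  have hmemW : ∀ {q : E₀}, γ q ∈ W ↔ q ∈ frattini E₀ := fun {q} => by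
    refine ⟨fun ⟨u, hu, hue⟩ => ?_, fun h => ⟨q, h, rfl⟩⟩
    have h1 := (frattini E₀).mul_mem hu ((hΦ₂A.trans hAΦ') (QuotientGroup.eq.mp hue))
    rwa [mul_inv_cancel_left] at h1
  have hmemA : ∀ {q : E₀}, γ q ∈ A' ↔ (q : G) ∈ A := fun {q} => by
    refine ⟨fun ⟨u, hu, hue⟩ => ?_, fun h => ⟨q, h, rfl⟩⟩
    have h1 := Aₑ.mul_mem hu (hΦ₂A (QuotientGroup.eq.mp hue))
    rw [mul_inv_cancel_left] at h1
    exact h1
  let ξ₀ : MulAut E₀ := MulAut.conjNormal x
  let ξ : MulAut (E₀ ⧸ Φ₂) :=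
    QuotientGroup.congr Φ₂ Φ₂ ξ₀ (Subgroup.characteristic_iff_map_eq.mp hΦ₂c ξ₀)
  have hξ : ∀ q : E₀, ξ (γ q) = γ (ξ₀ q) := fun q => rfl
  have hξ₀ : ∀ q : E₀, ((ξ₀ q : E₀) : G) = x * q * x⁻¹ := fun q => MulAut.conjNormal_apply x q
  have hξn : ∀ (n : ℕ) (q : E₀), (ξ ^ n) (γ q) = γ ((ξ₀ ^ n) q) := by
    intro n
    induction n with
    | zero => simp
    | succ n ih => intro q; rw [pow_succ, MulAut.mul_apply, hξ, ih, pow_succ, MulAut.mul_apply]
  have hξord : ∃ m : ℕ, ξ ^ p ^ m = 1 := by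
    obtain ⟨m, hm⟩ := hG x
    refine ⟨m, MulEquiv.ext fun q => ?_⟩
    obtain ⟨q, rfl⟩ := QuotientGroup.mk'_surjective Φ₂ q
    rw [hξn, ← map_pow, hm, map_one]
    rfl
  let eE : E₀ := ⟨e, he⟩
  let dE : E₀ := ⟨d, hdE⟩
  let lE : E₀ := ⟨l, hlE⟩
  have hΦe : ∀ {q : E₀}, (q : G) ∈ Φ → q ∈ frattini E₀ := fun {q} ⟨u, hu, hue⟩ => by
    rwa [← Subtype.ext (a1 := u) hue]
  have hW2 : W.Characteristic := Subgroup.characteristic_iff_map_le.mpr fun φ => by
    rintro _ ⟨_, ⟨u, hu, rfl⟩, rfl⟩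
    obtain ⟨v, hv⟩ := QuotientGroup.mk'_surjective Φ₂ (φ (γ u))
    show φ (γ u) ∈ W
    haveI hfr : (frattini (E₀ ⧸ Φ₂)).Characteristic := inferInstance
    have hWf : W = frattini (E₀ ⧸ Φ₂) := by
      have hPq := (hG.to_subgroup E₀).to_quotient Φ₂
      refine le_antisymm ?_ ?_
      · rw [Subgroup.map_le_iff_le_comap]
        refine PGroup.frattini_le_of_quotient (p := p) ?_ fun u => ?_
        · rw [commutator_eq_closure, Subgroup.closure_le]
          rintro _ ⟨a, b, rfl⟩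
          show γ ⁅a, b⁆ ∈ frattini (E₀ ⧸ Φ₂)
          rw [map_commutatorElement]
          exact PGroup.comm_mem_frattini hPq _ _
        · show γ (u ^ p) ∈ frattini (E₀ ⧸ Φ₂)
          rw [map_pow]
          exact PGroup.pow_mem_frattini hPq _
      · haveI : W.Normal := (inferInstance : (frattini E₀).Normal).map γ (QuotientGroup.mk'_surjective _)
        refine PGroup.frattini_le_of_quotient (p := p) ?_ fun u => ?_
        · rw [commutator_eq_closure, Subgroup.closure_le]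
          rintro _ ⟨a, b, rfl⟩
          obtain ⟨a, rfl⟩ := QuotientGroup.mk'_surjective Φ₂ a
          obtain ⟨b, rfl⟩ := QuotientGroup.mk'_surjective Φ₂ b
          rw [← map_commutatorElement]
          exact hmemW.mpr (PGroup.comm_mem_frattini (hG.to_subgroup E₀) _ _)
        · obtain ⟨u, rfl⟩ := QuotientGroup.mk'_surjective Φ₂ u
          rw [← map_pow]
          exact hmemW.mpr (PGroup.pow_mem_frattini (hG.to_subgroup E₀) _)
    rw [hWf]
    exact Subgroup.characteristic_iff_map_le.mp hfr φ ⟨γ u, hWf ▸ hmemW.mpr hu, rfl⟩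
  have hWcard : Nat.card W ≤ p ^ 3 := by
    have hn : (Φ₂.map E₀.subtype).Normal := ConjAct.normal_of_characteristic_of_normal
    have h := hrank Φ (Φ₂.map E₀.subtype)
      (Subgroup.map_mono (hΦ₂A.trans hAΦ')) hn
      (fun u hu v hv => ⟨⁅(⟨u, hΦE hu⟩ : E₀), (⟨v, hΦE hv⟩ : E₀)⁆,
        Subgroup.subset_normalClosure ⟨⟨u, hΦE hu⟩, hΦe hu, Or.inl ⟨_, rfl⟩⟩, rfl⟩)
      (fun u hu => ⟨(⟨u, hΦE hu⟩ : E₀) ^ p,
        Subgroup.subset_normalClosure ⟨⟨u, hΦE hu⟩, hΦe hu, Or.inr rfl⟩, rfl⟩)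
    rw [hΦdef, Subgroup.card_map_of_injective E₀.subtype_injective,
      Subgroup.card_map_of_injective E₀.subtype_injective] at h
    have h1 := Subgroup.card_eq_card_quotient_mul_card_subgroup (Φ₂.subgroupOf (frattini E₀))
    rw [Nat.card_congr (Subgroup.subgroupOfEquivOfLe (hΦ₂A.trans hAΦ')).toEquiv] at h1
    have h3 : Nat.card W = Nat.card (frattini E₀ ⧸ Φ₂.subgroupOf (frattini E₀)) := by
      have e1 := Nat.card_congr (QuotientGroup.quotientKerEquivRange (γ.comp (frattini E₀).subtype)).toEquiv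
      rw [MonoidHom.range_comp, Subgroup.range_subtype] at e1
      show Nat.card ((frattini E₀).map γ) = _
      rw [← e1]
      congr 2
      ext y
      simp [Subgroup.mem_subgroupOf, γ]
    rw [h1] at h
    rw [h3]
    exact Nat.le_of_mul_le_mul_right h Nat.card_pos
  have hQrank : RankThree p (E₀ ⧸ Φ₂) := by
    intro H B hBH hB hc hpw
    haveI := hB
    have h := hrankE (H.comap γ) (B.comap γ) (Subgroup.comap_mono hBH) inferInstance
      (fun u hu v hv => by show γ ⁅u, v⁆ ∈ B; rw [map_commutatorElement]; exact hc _ hu _ hv)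
      (fun u hu => by show γ (u ^ p) ∈ B; rw [map_pow]; exact hpw _ hu)
    have key : ∀ K : Subgroup (E₀ ⧸ Φ₂), Nat.card (K.comap γ) = Nat.card K * Nat.card Φ₂ := by
      intro K
      have h1 := Subgroup.card_eq_card_quotient_mul_card_subgroup (Φ₂.subgroupOf (K.comap γ))
      have hle : Φ₂ ≤ K.comap γ := fun q hq => by
        show γ q ∈ K
        rw [show γ q = 1 from (QuotientGroup.eq_one_iff q).mpr hq]; exact K.one_mem
      rw [Nat.card_congr (Subgroup.subgroupOfEquivOfLe hle).toEquiv] at h1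
      rw [h1]
      congr 1
      have e1 := Nat.card_congr (QuotientGroup.quotientKerEquivRange (γ.comp (K.comap γ).subtype)).toEquiv
      rw [MonoidHom.range_comp, Subgroup.range_subtype,
        Subgroup.map_comap_eq_self_of_surjective (QuotientGroup.mk'_surjective _)] at e1
      rw [← e1]
      congr 2
      ext y
      simp [Subgroup.mem_subgroupOf, γ]
    rw [key, key, ← mul_assoc] at h
    exact Nat.le_of_mul_le_mul_right h Nat.card_pos
  have mkRCore : ∀ (d' l' w₀' w₁' : E₀), (d' = dE) → (lE⁻¹ * l' ∈ frattini E₀) →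
      w₀' ∈ frattini E₀ → w₁' ∈ frattini E₀ → ξ₀ dE = dE * l' * w₀' → ξ₀ l' = l' * w₁' →
      RCore p W A' ξ (γ eE) (γ d') (γ l') (γ w₀') (γ w₁') := by
    intro d' l' w₀' w₁' hd'eq hll h0 h1 hξd hξl
    subst d'
    have hl'E : ∀ k : ℕ, (lE ^ k)⁻¹ * l' ^ k ∈ frattini E₀ := fun k => by
      refine QuotientGroup.eq.mp ?_
      rw [QuotientGroup.mk_pow, QuotientGroup.mk_pow, QuotientGroup.eq.mpr hll]
    refine
      { five := hp, le := Subgroup.map_mono hAΦ', central := ?_, exp := ?_, comm := ?_, pows := ?_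
        card := hWcard, hW := ?_, order := hξord, hw₀ := hmemW.mpr h0, hw₁ := hmemW.mpr h1, he := ?_
        hd := ?_, hl := ?_, dec := ?_, hfix := ?_, irr := ?_, char := hW2, hdA := ?_, hlA := ?_ }
    · rintro _ ⟨u, hu, rfl⟩ q
      obtain ⟨q, rfl⟩ := QuotientGroup.mk'_surjective Φ₂ q
      show γ q * γ u = γ u * γ q
      refine (commutatorElement_eq_one_iff_mul_comm.mp ?_).symm
      rw [← map_commutatorElement]
      exact (QuotientGroup.eq_one_iff _).mpr (Subgroup.subset_normalClosure ⟨u, hu, Or.inl ⟨q, rfl⟩⟩)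
    · rintro _ ⟨u, hu, rfl⟩
      rw [← map_pow]
      exact (QuotientGroup.eq_one_iff _).mpr (Subgroup.subset_normalClosure ⟨u, hu, Or.inr rfl⟩)
    · intro u v
      obtain ⟨u, rfl⟩ := QuotientGroup.mk'_surjective Φ₂ u
      obtain ⟨v, rfl⟩ := QuotientGroup.mk'_surjective Φ₂ v
      rw [← map_commutatorElement]
      exact hmemW.mpr (PGroup.comm_mem_frattini (hG.to_subgroup E₀) _ _)
    · intro u
      obtain ⟨u, rfl⟩ := QuotientGroup.mk'_surjective Φ₂ u
      rw [← map_pow]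
      exact hmemW.mpr (PGroup.pow_mem_frattini (hG.to_subgroup E₀) _)
    · intro w hw
      exact Subgroup.characteristic_iff_map_le.mp hW2 ξ ⟨w, hw, rfl⟩
    · rw [hξ, ← map_mul]
      congr 1
      apply Subtype.ext
      rw [hξ₀]
      show x * e * x⁻¹ = e * d
      rw [hd, mul_inv_cancel_left]
    · rw [hξ, hξd, map_mul, map_mul]
    · rw [hξ, hξl, map_mul]
    · intro q
      obtain ⟨q, rfl⟩ := QuotientGroup.mk'_surjective Φ₂ q
      obtain ⟨i, j, k, w, hw, hq⟩ := hdec q q.2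
      refine ⟨i, j, k, γ ((l' ^ k)⁻¹ * lE ^ k * ⟨w, hΦE hw⟩), hmemW.mpr ?_, ?_⟩
      · refine (frattini E₀).mul_mem ?_ (hΦe hw)
        have := (frattini E₀).inv_mem (hl'E k)
        rwa [mul_inv_rev, inv_inv] at this
      · show γ q = _
        rw [← map_pow, ← map_pow, ← map_pow, ← map_mul, ← map_mul, ← map_mul]
        congr 1
        apply Subtype.ext
        simp [hq, eE, dE, lE, mul_assoc]
    · intro q hq
      obtain ⟨q, rfl⟩ := QuotientGroup.mk'_surjective Φ₂ q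
      rw [show QuotientGroup.mk' Φ₂ q = γ q from rfl, hξ, ← map_inv, ← map_mul, hmemW] at hq
      obtain ⟨k, w, hw, hqk⟩ := hfix q q.2 ⟨_, hq, by simp [hξ₀]⟩
      refine ⟨k, γ ((l' ^ k)⁻¹ * lE ^ k * ⟨w, hΦE hw⟩), hmemW.mpr ?_, ?_⟩
      · refine (frattini E₀).mul_mem ?_ (hΦe hw)
        have := (frattini E₀).inv_mem (hl'E k)
        rwa [mul_inv_rev, inv_inv] at this
      · show γ q = _
        rw [← map_pow, ← map_mul]
        congr 1
        apply Subtype.ext
        simp [hqk, lE, mul_assoc]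
    · intro U hU hWU
      have hUc : (U.comap γ).Characteristic := Subgroup.characteristic_iff_map_le.mpr fun φ => by
        rintro _ ⟨u, hu, rfl⟩
        let φ' : MulAut (E₀ ⧸ Φ₂) := QuotientGroup.congr Φ₂ Φ₂ φ (Subgroup.characteristic_iff_map_eq.mp hΦ₂c φ)
        exact Subgroup.characteristic_iff_map_le.mp hU φ' ⟨γ u, hu, rfl⟩
      rcases hirr _ hUc (fun u hu => hWU (hmemW.mpr hu)) with h | h
      · left
        rw [← Subgroup.map_comap_eq_self_of_surjective (QuotientGroup.mk'_surjective Φ₂) U]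
        show (U.comap γ).map γ = W
        rw [h]
      · right
        rw [← Subgroup.map_comap_eq_self_of_surjective (QuotientGroup.mk'_surjective Φ₂) U]
        show (U.comap γ).map γ = ⊤
        rw [h, Subgroup.map_top_of_surjective _ (QuotientGroup.mk'_surjective Φ₂)]
    · rw [← map_pow, hmemA]
      exact ⟨(mem_frattini_map hG hdE hdE).1, (hDpow 1 d hdD d hdD).1⟩
    · rw [← map_pow, hmemA]
      have hl'D : ((l' : E₀) : G) ∈ D := by
        have h2 : ((lE⁻¹ * l' : E₀) : G) ∈ D := hΦD ⟨_, hll, rfl⟩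
        have h3 := D.mul_mem hlD h2
        simpa [lE] using h3
      exact ⟨(mem_frattini_map hG l'.2 l'.2).1, (hDpow 1 (l' : G) hl'D (l' : G) hl'D).1⟩
  have hξp : ∀ q : E₀, (((ξ₀ ^ p) q : E₀) : G) = x ^ p * q * (x ^ p)⁻¹ := fun q => by
    rw [← map_pow, MulAut.conjNormal_apply]
  have hξl0 : lE⁻¹ * ξ₀ lE ∈ frattini E₀ := hΦe (by
    show ((lE⁻¹ * ξ₀ lE : E₀) : G) ∈ Φ
    push_cast
    rw [hξ₀]; exact hl')
  by_cases hnu : (nL : ZMod p) = 0
  · -- `x^p ∈ Φ`
    have hξd : ξ₀ dE = dE * lE * 1 := Subtype.ext (by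
      rw [hξ₀]
      show x * d * x⁻¹ = ((dE * lE * 1 : E₀) : G)
      simp [dE, lE, hl])
    have R := mkRCore dE lE 1 (lE⁻¹ * ξ₀ lE) rfl (by simp) (one_mem _) hξl0 hξd (by simp)
    refine R.false_of_trivial hQrank (map_one γ) (MulEquiv.ext fun q => ?_) ?_
    · obtain ⟨q, rfl⟩ := QuotientGroup.mk'_surjective Φ₂ q
      rw [hξn, MulAut.one_apply]
      have hxΦ : x ^ p ∈ Φ := by
        rw [← hπ, hnL]
        obtain ⟨t, rfl⟩ := (ZMod.natCast_eq_zero_iff _ _).mp hnu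
        rw [pow_mul, hEp (hD₁E hLD₁), one_pow]
      let xp : E₀ := ⟨x ^ p, hxpE⟩
      have h1 : (ξ₀ ^ p) q = xp * q * xp⁻¹ := Subtype.ext (hξp q)
      rw [h1, map_mul, map_mul, map_inv]
      have hc : Commute (γ xp) (γ q) := (R.central _ (hmemW.mpr (hΦe hxΦ)) (γ q)).symm
      rw [hc.eq, mul_inv_cancel_right]
    · rw [← map_commutatorElement, hmemA]
      show ⁅e, d⁆ ∉ A
      intro h
      exact hFA (by rw [hF, ← commutatorElement_inv]; exact A.inv_mem h)
  · -- `x^p ∉ Φ`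
    let xp : E₀ := ⟨x ^ p, hxpE⟩
    set mu : ZMod p := -(nL : ZMod p) with hmu
    have hmu0 : mu ≠ 0 := neg_ne_zero.mpr hnu
    set m := mu⁻¹.val with hm
    let l₀ : E₀ := xp ^ m
    have hπl : π (x ^ p) = π l ^ mu.val := by
      rw [hnL, hLl, inv_pow, inv_eq_iff_mul_eq_one, ← pow_add, pow_eq_pow_mod _ (hEp hlE),
        show (nL + mu.val) % p = 0 by
          have : ((nL + mu.val : ℕ) : ZMod p) = 0 := by push_cast; rw [ZMod.natCast_zmod_val, hmu]; ring
          exact Nat.mod_eq_zero_of_dvd ((ZMod.natCast_eq_zero_iff _ _).mp this), pow_zero]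
    have hl₀ : lE⁻¹ * l₀ ∈ frattini E₀ := hΦe (by
      rw [← hπ]
      show π (((lE⁻¹ * l₀ : E₀) : G)) = 1
      have : ((lE⁻¹ * l₀ : E₀) : G) = l⁻¹ * (x ^ p) ^ m := by simp [lE, l₀, xp]
      rw [this, map_mul, map_inv, map_pow, hπl, inv_mul_eq_one, ← pow_mul]
      conv_lhs => rw [← pow_one (π l)]
      rw [pow_eq_pow_mod 1 (hEp hlE), pow_eq_pow_mod (mu.val * m) (hEp hlE),
        (ZMod.natCast_eq_natCast_iff' 1 (mu.val * m) p).mp (by
          push_cast; rw [ZMod.natCast_zmod_val, ZMod.natCast_zmod_val, mul_inv_cancel₀ hmu0])])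
    have hξl₀ : ξ₀ l₀ = l₀ * 1 := Subtype.ext (by
      rw [hξ₀, mul_one]
      show x * ((xp ^ m : E₀) : G) * x⁻¹ = ((xp ^ m : E₀) : G)
      rw [Subgroup.coe_pow]
      show x * (x ^ p) ^ m * x⁻¹ = (x ^ p) ^ m
      rw [(((Commute.refl x).pow_right p).pow_right m).eq, mul_inv_cancel_right])
    have hξd : ξ₀ dE = dE * l₀ * (l₀⁻¹ * lE) := Subtype.ext (by
      rw [hξ₀]
      show x * d * x⁻¹ = ((dE * l₀ * (l₀⁻¹ * lE) : E₀) : G)
      simp [dE, lE, hl, mul_assoc])
    have hw0 : l₀⁻¹ * lE ∈ frattini E₀ := by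
      have := (frattini E₀).inv_mem hl₀
      rwa [mul_inv_rev, inv_inv] at this
    have R := mkRCore dE l₀ (l₀⁻¹ * lE) 1 rfl hl₀ hw0 (one_mem _) hξd hξl₀
    refine R.false_of_inner (ν := mu.val) ?_ (map_one γ) (fun q => ?_) ?_ ?_
    · intro h
      exact hmu0 (by rw [← ZMod.natCast_zmod_val mu]; exact (ZMod.natCast_eq_zero_iff _ _).mpr h)
    · obtain ⟨q, rfl⟩ := QuotientGroup.mk'_surjective Φ₂ q
      rw [hξn]
      have h1 : (ξ₀ ^ p) q = xp * q * xp⁻¹ := Subtype.ext (hξp q)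
      rw [h1, map_mul, map_mul, map_inv, ← map_pow]
      have hw : (l₀ ^ mu.val)⁻¹ * xp ∈ frattini E₀ := hΦe (by
        rw [← hπ]
        show π ((((l₀ ^ mu.val)⁻¹ * xp : E₀)) : G) = 1
        have : ((((l₀ ^ mu.val)⁻¹ * xp : E₀)) : G) = ((x ^ p) ^ (m * mu.val))⁻¹ * x ^ p := by
          simp [l₀, xp, pow_mul]
        rw [this, map_mul, map_inv, map_pow, inv_mul_eq_one]
        conv_rhs => rw [← pow_one (π (x ^ p))]
        rw [pow_eq_pow_mod 1 (hEp hxpE), pow_eq_pow_mod (m * mu.val) (hEp hxpE),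
          (ZMod.natCast_eq_natCast_iff' 1 (m * mu.val) p).mp (by
            push_cast; rw [ZMod.natCast_zmod_val, ZMod.natCast_zmod_val, inv_mul_cancel₀ hmu0])])
      have h2 : γ xp = γ (l₀ ^ mu.val) * γ ((l₀ ^ mu.val)⁻¹ * xp) := by
        rw [← map_mul, mul_inv_cancel_left]
      have hc : Commute (γ q) (γ ((l₀ ^ mu.val)⁻¹ * xp)) := R.central _ (hmemW.mpr hw) (γ q)
      rw [h2]
      show γ (l₀ ^ mu.val) * γ ((l₀ ^ mu.val)⁻¹ * xp) * γ q * _ = _
      rw [mul_inv_rev, mul_assoc (γ (l₀ ^ mu.val)) _ (γ q), ← hc.eq, ← mul_assoc, ← mul_assoc,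
        mul_inv_cancel_right]
    · rw [← map_pow, hmemA]
      intro h
      have h0 : α (e ^ p) = 1 := hα.mpr h
      rw [ha] at h0
      refine hnu ?_
      rw [← hanu]
      simpa using hFi a 0 (by rw [h0, pow_zero])
    · rw [← map_commutatorElement, ← map_pow, ← map_pow, ← map_inv, ← map_mul, hmemA]
      show ⁅e, d⁆ ^ mu.val * (e ^ p)⁻¹ ∈ A
      rw [← hα, map_mul, map_pow, map_inv, ha, ← commutatorElement_inv d e, ← hF, map_inv, inv_pow,
        ← mul_inv_rev, inv_eq_one, ← pow_add, pow_eq_pow_mod _ hFord,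
        show (a + mu.val) % p = 0 from Nat.mod_eq_zero_of_dvd ((ZMod.natCast_eq_zero_iff _ _).mp (by
          push_cast; rw [ZMod.natCast_zmod_val, hanu, hmu]; ring)), pow_zero]

end Cfsg.Agent.LocalEvenD.RTE
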