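import Cfsg.Prelude.Def_CaseTheorems
import Cfsg.Agent.Lib.PGroup.Basic
import Cfsg.Agent.Lib.PGroup.Commutator
import Cfsg.Agent.LocalEvenD.RankThreeEss.Plane

/-!
# Sections, Frattini quotients and their automorphisms
-/

set_option autoImplicit false
set_option linter.style.haveILetI false

namespace Cfsg.Agent.LocalEvenD.RTE

open scoped commutatorElement

variable {G : Type*} [Group G] {p : ℕ}

/-- No section elementary abelian of order `p⁴`, in the form used below. -/
def RankThree (p : ℕ) (G : Type*) [Group G] : Prop :=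
  ∀ (H A : Subgroup G), A ≤ H → A.Normal → (∀ u ∈ H, ∀ v ∈ H, ⁅u, v⁆ ∈ A) → (∀ u ∈ H, u ^ p ∈ A) →
    Nat.card H ≤ p ^ 3 * Nat.card A

lemma rankThree_of_injective {S : Type*} [Group S] (hS : Cfsg.SectionalPRankLE p 3 S) (ι : G →* S)
    (hι : Function.Injective ι) : RankThree p G := by
  intro H A hAH hA hc hp
  set H' := H.map ι
  set A' := (A.map ι).subgroupOf H'
  haveI : A'.Normal := ⟨fun n hn g => by
    obtain ⟨h, hh, hhe⟩ := g.2
    obtain ⟨a, ha, hae⟩ := Subgroup.mem_subgroupOf.mp hn
    exact Subgroup.mem_subgroupOf.mpr ⟨h * a * h⁻¹, hA.conj_mem a ha h, by simp [hhe, hae]⟩⟩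
  have hcom : IsMulCommutative (⊤ : Subgroup (H' ⧸ A')) := ⟨⟨fun x y => Subtype.ext (by
    obtain ⟨u, hu⟩ := QuotientGroup.mk_surjective (x : H' ⧸ A')
    obtain ⟨v, hv⟩ := QuotientGroup.mk_surjective (y : H' ⧸ A')
    show (x : H' ⧸ A') * y = y * x
    rw [← hu, ← hv, ← QuotientGroup.mk_mul, ← QuotientGroup.mk_mul]
    refine QuotientGroup.eq.mpr (Subgroup.mem_subgroupOf.mpr ?_)
    obtain ⟨a, ha, hae⟩ := u.2
    obtain ⟨b, hb, hbe⟩ := v.2
    refine ⟨⁅b⁻¹, a⁻¹⁆, hc _ (H.inv_mem hb) _ (H.inv_mem ha), ?_⟩
    simp [commutatorElement_def, hae, hbe, mul_assoc])⟩⟩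
  have h := hS H' A' ⊤ hcom (fun x _ => by
    obtain ⟨u, rfl⟩ := QuotientGroup.mk_surjective x
    rw [← QuotientGroup.mk_pow, QuotientGroup.eq_one_iff]
    obtain ⟨a, ha, hae⟩ := u.2
    exact Subgroup.mem_subgroupOf.mpr ⟨a ^ p, hp a ha, by simp [hae]⟩)
  rw [Subgroup.card_top] at h
  have h1 := Subgroup.card_eq_card_quotient_mul_card_subgroup A'
  rw [Nat.card_congr (Subgroup.subgroupOfEquivOfLe (Subgroup.map_mono hAH)).toEquiv,
    Subgroup.card_map_of_injective hι, Subgroup.card_map_of_injective hι] at h1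
  rw [h1]
  exact Nat.mul_le_mul_right _ h

lemma card_mul_le' [Finite G] [Fact p.Prime] (hG : IsPGroup p G) {U W : Subgroup G} (h : U < W) :
    p * Nat.card U ≤ Nat.card W := by
  obtain ⟨i, hi⟩ := IsPGroup.iff_card.mp (hG.to_subgroup U)
  obtain ⟨j, hj⟩ := IsPGroup.iff_card.mp (hG.to_subgroup W)
  have hlt : Nat.card U < Nat.card W := lt_of_le_of_ne (Subgroup.card_le_of_le h.le) fun he =>
    h.ne (Subgroup.eq_of_le_of_card_ge h.le he.ge)
  rw [hi, hj] at hlt ⊢
  rw [← pow_succ']
  exact Nat.pow_le_pow_right (Fact.out : p.Prime).pos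
    ((Nat.pow_lt_pow_iff_right (Fact.out : p.Prime).one_lt).mp hlt)

/-- The Frattini subgroup of a subgroup lies in that of the group. -/
lemma frattini_map_le [Finite G] [Fact p.Prime] (hG : IsPGroup p G) (E : Subgroup G) :
    (frattini E).map E.subtype ≤ frattini G := by
  rw [Subgroup.map_le_iff_le_comap]
  exact PGroup.frattini_le_of_quotient (p := p)
    ((Subgroup.commutator_le.mpr fun a _ b _ =>
      show ((⁅a, b⁆ : E) : G) ∈ frattini G from PGroup.comm_mem_frattini hG (a : G) b))
    (fun a => show ((a ^ p : E) : G) ∈ frattini G from PGroup.pow_mem_frattini hG (a : G))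

/-- The action of the automorphisms on the Frattini quotient. -/
def fAct (G : Type*) [Group G] : MulAut G →* MulAut (G ⧸ frattini G) where
  toFun φ := QuotientGroup.congr (frattini G) (frattini G) φ
    (Subgroup.characteristic_iff_map_eq.mp inferInstance φ)
  map_one' := MulEquiv.ext fun q => by
    induction q using QuotientGroup.induction_on with
    | H v => rfl
  map_mul' a b := MulEquiv.ext fun q => by
    induction q using QuotientGroup.induction_on with
    | H v => rfl

@[simp] lemma fAct_mk (φ : MulAut G) (v : G) :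
    fAct G φ (v : G ⧸ frattini G) = ((φ v : G) : G ⧸ frattini G) := rfl

/-- Automorphisms trivial on the Frattini quotient form a `p`-group. -/
lemma fAct_ker_isPGroup [Finite G] [Fact p.Prime] (hG : IsPGroup p G) :
    IsPGroup p (fAct G).ker := by
  have hp := (Fact.out : p.Prime)
  haveI : Finite (MulAut G) := Finite.of_injective (fun f : MulAut G => (f : G → G)) DFunLike.coe_injective
  let X := ∀ x : G, {y : G // (y : G ⧸ frattini G) = x}
  letI : MulAction (fAct G).ker X :=
    { smul := fun k f x => ⟨(k : MulAut G) (f x), by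
        have h := DFunLike.congr_fun (MonoidHom.mem_ker.mp k.2) ((f x : G) : G ⧸ frattini G)
        rw [fAct_mk, MulAut.one_apply] at h
        exact h.trans (f x).2⟩
      one_smul := fun f => funext fun x => Subtype.ext rfl
      mul_smul := fun a b f => funext fun x => Subtype.ext rfl }
  have hfree : ∀ (k : (fAct G).ker) (f : X), k • f = f → k = 1 := by
    intro k f hk
    let K : Subgroup G :=
      { carrier := {y | (k : MulAut G) y = y}
        one_mem' := map_one _
        mul_mem' := fun {a b} ha hb => by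
          show (k : MulAut G) (a * b) = a * b
          rw [map_mul, ha, hb]
        inv_mem' := fun {a} ha => by
          show (k : MulAut G) a⁻¹ = a⁻¹
          rw [map_inv, ha] }
    have htop : K = ⊤ := by
      refine frattini_nongenerating (eq_top_iff.mpr fun x _ => ?_)
      have h1 : (f x : G) ∈ K := congrArg Subtype.val (congrFun hk x)
      have h2 : (f x : G)⁻¹ * x ∈ frattini G := QuotientGroup.eq.mp (f x).2
      have := Subgroup.mul_mem_sup h1 h2
      rwa [mul_inv_cancel_left] at this
    exact Subtype.ext (MulEquiv.ext fun y => (htop ▸ Subgroup.mem_top y : y ∈ K))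
  intro k
  obtain ⟨n, m, hm, hkm⟩ := Nat.exists_eq_pow_mul_and_not_dvd (orderOf_pos k).ne' p hp.ne_one
  rcases eq_or_ne m 1 with rfl | hm1
  · exact ⟨n, orderOf_dvd_iff_pow_eq_one.mp (by rw [hkm, mul_one])⟩
  exfalso
  obtain ⟨q, hq, hqm⟩ := Nat.exists_prime_and_dvd hm1
  haveI : Fact q.Prime := ⟨hq⟩
  obtain ⟨u, hu⟩ := exists_prime_orderOf_dvd_card' (G := (fAct G).ker) q
    ((hqm.trans (Dvd.intro_left _ hkm.symm)).trans (orderOf_dvd_natCard k))
  have hqp : IsPGroup q (Subgroup.zpowers u) := IsPGroup.of_card (n := 1) (by rw [Nat.card_zpowers, hu, pow_one])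
  have hmod := hqp.card_modEq_card_fixedPoints X
  have hfix : IsEmpty (MulAction.fixedPoints (Subgroup.zpowers u) X) := ⟨fun ⟨f, hf⟩ => by
    have := hfree u f (hf ⟨u, Subgroup.mem_zpowers u⟩)
    rw [this, orderOf_one] at hu
    exact hq.ne_one hu.symm⟩
  rw [Nat.card_of_isEmpty (α := MulAction.fixedPoints (Subgroup.zpowers u) X), Nat.modEq_zero_iff_dvd] at hmod
  obtain ⟨i, hi⟩ := IsPGroup.iff_card.mp (hG.to_subgroup (frattini G))
  have hX : Nat.card X = (p ^ i) ^ Nat.card G := by
    have e : ∀ x : G, Nat.card {y : G // (y : G ⧸ frattini G) = x} = p ^ i := fun x => by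
      rw [← hi]
      exact Nat.card_congr
        { toFun := fun y => ⟨x⁻¹ * y.1, QuotientGroup.eq.mp y.2.symm⟩
          invFun := fun z => ⟨x * z.1, (QuotientGroup.eq.mpr (by simp)).symm⟩
          left_inv := fun y => by simp
          right_inv := fun z => by simp }
    haveI : Fintype G := Fintype.ofFinite G
    rw [Nat.card_pi, Finset.prod_congr rfl (fun x _ => e x), Finset.prod_const, Finset.card_univ,
      Nat.card_eq_fintype_card]
  rw [hX, ← pow_mul] at hmod
  have := (Nat.prime_dvd_prime_iff_eq hq hp).mp (hq.dvd_of_dvd_pow hmod)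
  exact hm (this ▸ hqm)

/-- The Frattini quotient is commutative. -/
@[reducible] def fratComm [Finite G] [Fact p.Prime] (hG : IsPGroup p G) : CommGroup (G ⧸ frattini G) :=
  { (inferInstance : Group (G ⧸ frattini G)) with
    mul_comm := fun x y => by
      induction x using QuotientGroup.induction_on with
      | H a =>
        induction y using QuotientGroup.induction_on with
        | H b =>
          exact QuotientGroup.eq.mpr (by
            have := PGroup.comm_mem_frattini hG b⁻¹ a⁻¹
            rw [commutatorElement_def, inv_inv, inv_inv] at this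
            simpa [mul_assoc] using this) }

end Cfsg.Agent.LocalEvenD.RTE
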