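import Cfsg.Agent.LocalEvenD.RankThreeEss.Binom
import Cfsg.Agent.LocalEvenD.RankThreeEss.Tools

/-!
# The regular case: the group `E / [Φ(E), E] Φ(E)^p`
-/

set_option autoImplicit false
set_option linter.style.haveILetI false

namespace Cfsg.Agent.LocalEvenD.RTE

open scoped commutatorElement

variable {Q : Type*} [Group Q] [Finite Q] {p : ℕ} [Fact p.Prime]

/-- The standing hypotheses on `E / [Φ, E] Φ^p` with the automorphism induced by `x`. -/
structure RCore (p : ℕ) (W A : Subgroup Q) (ξ : MulAut Q) (e d l w₀ w₁ : Q) : Prop where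
  five : 5 ≤ p
  le : A ≤ W
  central : ∀ w ∈ W, ∀ q : Q, Commute q w
  exp : ∀ w ∈ W, w ^ p = 1
  comm : ∀ u v : Q, ⁅u, v⁆ ∈ W
  pows : ∀ u : Q, u ^ p ∈ W
  card : Nat.card W ≤ p ^ 3
  hW : ∀ w ∈ W, ξ w ∈ W
  order : ∃ m : ℕ, ξ ^ p ^ m = 1
  hw₀ : w₀ ∈ W
  hw₁ : w₁ ∈ W
  he : ξ e = e * d
  hd : ξ d = d * l * w₀
  hl : ξ l = l * w₁
  dec : ∀ q : Q, ∃ i j k : ℕ, ∃ w ∈ W, q = e ^ i * d ^ j * l ^ k * w
  hfix : ∀ q : Q, q⁻¹ * ξ q ∈ W → ∃ k : ℕ, ∃ w ∈ W, q = l ^ k * w
  irr : ∀ U : Subgroup Q, U.Characteristic → W ≤ U → U = W ∨ U = ⊤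
  char : W.Characteristic
  hdA : d ^ p ∈ A
  hlA : l ^ p ∈ A

namespace RCore

variable {W A : Subgroup Q} {ξ : MulAut Q} {e d l w₀ w₁ : Q} (R : RCore p W A ξ e d l w₀ w₁)
include R

lemma c2 : commutator Q ≤ Subgroup.center Q := by
  rw [commutator_eq_closure, Subgroup.closure_le]
  rintro _ ⟨u, v, rfl⟩
  exact Subgroup.mem_center_iff.mpr fun q => (R.central _ (R.comm u v) q).eq

lemma pow_mul_hom (u v : Q) : (u * v) ^ p = u ^ p * v ^ p :=
  PGroup.mul_pow_prime_classTwo R.c2 (Fact.out : p.Prime) (by have := R.five; omega)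
    (R.exp _ (R.comm v u))

lemma pow_of_mem {w : Q} (hw : w ∈ W) (u : Q) : (u * w) ^ p = u ^ p := by
  rw [R.pow_mul_hom, R.exp w hw, mul_one]

lemma iter_d (i : ℕ) : ∃ w ∈ W, (ξ ^ i) d = d * l ^ i * w := by
  induction i with
  | zero => exact ⟨1, W.one_mem, by simp⟩
  | succ i ih =>
    obtain ⟨w, hw, h⟩ := ih
    refine ⟨w₀ * w₁ ^ i * ξ w, W.mul_mem (W.mul_mem R.hw₀ (W.pow_mem R.hw₁ i)) (R.hW w hw), ?_⟩
    rw [pow_succ', MulAut.mul_apply, h, map_mul, map_mul, map_pow, R.hd, R.hl,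
      (R.central w₁ R.hw₁ l).mul_pow, pow_succ' l]
    calc d * l * w₀ * (l ^ i * w₁ ^ i) * ξ w
        = d * l * (w₀ * l ^ i) * (w₁ ^ i * ξ w) := by simp only [mul_assoc]
      _ = d * l * (l ^ i * w₀) * (w₁ ^ i * ξ w) := by rw [(R.central w₀ R.hw₀ (l ^ i)).symm.eq]
      _ = _ := by simp only [mul_assoc]

/-- `ξ^p e = e d^p (l^p)^k m` with `m` fixed; `m = 1` when `w₁ = 1`. -/
lemma iter_e : ∃ k : ℕ, ∃ m ∈ W, ξ m = m ∧ (w₁ = 1 → m = 1) ∧
    (ξ ^ p) e = e * d ^ p * (l ^ p) ^ k * m := by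
  letI : CommGroup W := { (inferInstance : Group W) with
    mul_comm := fun a b => Subtype.ext (R.central b b.2 a).eq }
  have hmap : W.map ξ.toMonoidHom = W := Subgroup.characteristic_iff_map_eq.mp R.char ξ
  let η : MulAut W := (ξ.subgroupMap W).trans (MulEquiv.subgroupCongr hmap)
  have hη : ∀ w : W, ((η w : W) : Q) = ξ w := fun w => rfl
  have hexp : ∀ w : W, w ^ p = 1 := fun w => Subtype.ext (R.exp w w.2)
  have hord : ∃ m : ℕ, η ^ p ^ m = 1 := by
    obtain ⟨m, hm⟩ := R.order
    refine ⟨m, MulEquiv.ext fun w => Subtype.ext ?_⟩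
    have : ∀ (n : ℕ) (w : W), (((η ^ n) w : W) : Q) = (ξ ^ n) w := by
      intro n
      induction n with
      | zero => simp
      | succ n ih => intro w; rw [pow_succ, MulAut.mul_apply, ih, hη, pow_succ, MulAut.mul_apply]
    rw [this, hm]
    rfl
  have h3 := nHom_cube hexp R.card hord
  let a₀ : W := ⟨w₀, R.hw₀⟩
  let a₁ : W := ⟨w₁, R.hw₁⟩
  have hdi : ∀ i : ℕ, (ξ ^ i) d = d * l ^ i * (omg η a₀ a₁ i : W) := by
    intro i
    induction i with
    | zero => simp [(omg_zero η a₀ a₁).1]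
    | succ i ih =>
      rw [pow_succ', MulAut.mul_apply, ih, map_mul, map_mul, map_pow, R.hd, R.hl,
        (R.central w₁ R.hw₁ l).mul_pow, ← omg_step h3, pow_succ' l]
      push_cast
      rw [hη]
      calc d * l * w₀ * (l ^ i * w₁ ^ i) * ξ (omg η a₀ a₁ i : W)
          = d * l * (w₀ * l ^ i) * (w₁ ^ i * ξ (omg η a₀ a₁ i : W)) := by simp only [mul_assoc]
        _ = d * l * (l ^ i * w₀) * (w₁ ^ i * ξ (omg η a₀ a₁ i : W)) := by
          rw [(R.central w₀ R.hw₀ (l ^ i)).symm.eq]
        _ = _ := by simp only [mul_assoc, a₀, a₁]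
  let c : W := ⟨⁅l, d⁆, R.comm l d⟩
  have hei : ∀ i : ℕ, (ξ ^ i) e =
      e * d ^ i * l ^ i.choose 2 * (c ^ i.choose 3 * omgSum η a₀ a₁ i : W) := by
    intro i
    induction i with
    | zero => simp [(omg_zero η a₀ a₁).2]
    | succ i ih =>
      rw [pow_succ, MulAut.mul_apply, R.he, map_mul, ih, hdi, ← omgSum_step η a₀ a₁ i,
        Nat.choose_succ_succ' i 1, Nat.choose_succ_succ' i 2, Nat.choose_one_right, pow_add, pow_add,
        pow_one d]
      set u : W := c ^ i.choose 3 * omgSum η a₀ a₁ i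
      have hld : l ^ i.choose 2 * d = d * l ^ i.choose 2 * (c ^ i.choose 2 : W) := by
        have h1 : ⁅l ^ i.choose 2, d⁆ = ((c ^ i.choose 2 : W) : Q) := by
          rw [PGroup.comm_pow_left R.c2]; rfl
        rw [PGroup.mul_eq_comm_mul_swap (l ^ i.choose 2) d, h1, (R.central _ (c ^ i.choose 2).2 _).eq]
      calc e * d ^ i * l ^ i.choose 2 * u * (d * l ^ i * (omg η a₀ a₁ i : W))
          = e * d ^ i * l ^ i.choose 2 * ((u : Q) * d) * (l ^ i * (omg η a₀ a₁ i : W)) := by
            simp only [mul_assoc]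
        _ = e * d ^ i * (l ^ i.choose 2 * d) * u * (l ^ i * (omg η a₀ a₁ i : W)) := by
            rw [(R.central _ u.2 d).symm.eq]; simp only [mul_assoc]
        _ = e * d ^ i * d * l ^ i.choose 2 * (((c ^ i.choose 2 : W) : Q) * u * l ^ i) *
              (omg η a₀ a₁ i : W) := by rw [hld]; simp only [mul_assoc]
        _ = e * (d ^ i * d) * (l ^ i.choose 2 * l ^ i) *
              (((c ^ i.choose 2 : W) : Q) * u * (omg η a₀ a₁ i : W)) := by
            rw [((R.central _ (W.mul_mem (c ^ i.choose 2).2 u.2) (l ^ i))).symm.eq]; simp only [mul_assoc]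
        _ = _ := by
            have hcom : l ^ i.choose 2 * l ^ i = l ^ i * l ^ i.choose 2 :=
              ((Commute.refl l).pow_pow _ _).eq
            rw [hcom, ← Subgroup.coe_mul, ← Subgroup.coe_mul]
            congr 2
            show c ^ i.choose 2 * (c ^ i.choose 3 * omgSum η a₀ a₁ i) * omg η a₀ a₁ i = _
            simp [pow_add, mul_assoc]
  have hp := R.five
  have hdvd : ∀ k, 0 < k → k < p → p ∣ p.choose k := fun k h1 h2 =>
    (Fact.out : p.Prime).dvd_choose_self h1.ne' h2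
  obtain ⟨k, hk⟩ := hdvd 2 (by norm_num) (by omega)
  obtain ⟨k', hk'⟩ := hdvd 3 (by norm_num) (by omega)
  have h := hei p
  rw [omgSum_prime hp hexp, hk', pow_mul c p k', hexp, one_pow, one_mul, hk, pow_mul l p k] at h
  refine ⟨k, _, Subtype.mem _, ?_, fun h1 => ?_, h⟩
  · rw [← hη]
    congr 1
    rw [map_pow, eta_eq η, h3, mul_one]
  · have : a₁ = 1 := Subtype.ext h1
    simp [this]

/-- The `p`-th powers generate a subgroup of shape forced by irreducibility. -/
lemma pow_dichotomy : (∀ q : Q, q ^ p = 1) ∨ ∀ q : Q, q ^ p = 1 → q ∈ W := by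
  let U : Subgroup Q :=
    { carrier := {q | q ^ p = 1}
      one_mem' := one_pow p
      mul_mem' := fun {a b} ha hb => by
        show (a * b) ^ p = 1
        rw [R.pow_mul_hom, ha, hb, one_mul]
      inv_mem' := fun {a} ha => by
        show a⁻¹ ^ p = 1
        rw [inv_pow, ha, inv_one] }
  have hU : U.Characteristic := Subgroup.characteristic_iff_le_comap.mpr fun φ q hq => by
    show φ q ^ p = 1
    rw [← map_pow, (hq : q ^ p = 1), map_one]
  rcases R.irr U hU (fun w hw => R.exp w hw) with h | h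
  · exact Or.inr fun q hq => h.le hq
  · exact Or.inl fun q => (h.ge (Subgroup.mem_top q) : q ∈ U)

lemma dsp_pow (q : Q) : (q ^ p)⁻¹ * ξ (q ^ p) = (q⁻¹ * ξ q) ^ p := by
  rw [R.pow_mul_hom, map_pow, inv_pow]

/-- `x^p ∉ Φ(E)`: impossible. -/
theorem false_of_inner {ν : ℕ} (hν : ¬ p ∣ ν) (hw₁ : w₁ = 1)
    (hinner : ∀ q : Q, (ξ ^ p) q = l ^ ν * q * (l ^ ν)⁻¹)
    (heA : e ^ p ∉ A) (hrel : ⁅e, d⁆ ^ ν * (e ^ p)⁻¹ ∈ A) : False := by
  obtain ⟨k, m, -, -, hm1, hxe⟩ := R.iter_e
  rw [hm1 hw₁, mul_one, hinner, PGroup.conj_eq_comm_mul, PGroup.comm_pow_left R.c2,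
    (R.central _ (W.pow_mem (R.comm l e) ν) e).eq.symm, mul_assoc] at hxe
  have h1 : ⁅l, e⁆ ^ ν = d ^ p * (l ^ p) ^ k := mul_left_cancel hxe
  letI : CommGroup W := { (inferInstance : Group W) with
    mul_comm := fun a b => Subtype.ext (R.central b b.2 a).eq }
  have hnd : (e ^ p)⁻¹ * ξ (e ^ p) = d ^ p := by rw [R.dsp_pow, R.he, inv_mul_cancel_left]
  have hnl : (d ^ p)⁻¹ * ξ (d ^ p) = l ^ p := by
    rw [R.dsp_pow, R.hd, mul_assoc, inv_mul_cancel_left, R.pow_of_mem R.hw₀]
  have hnl' : ξ (l ^ p) = l ^ p := by rw [map_pow, R.hl, hw₁, mul_one]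
  have hed : ξ ⁅e, d⁆ = ⁅e, d⁆ * ⁅e, l⁆ * ⁅d, l⁆ := by
    rw [map_commutatorElement, R.he, R.hd,
      PGroup.comm_mul_right R.c2, PGroup.comm_mul_right R.c2,
      PGroup.comm_mul_left R.c2, PGroup.comm_mul_left R.c2, PGroup.comm_mul_left R.c2,
      commutatorElement_eq_one_iff_commute.mpr (R.central w₀ R.hw₀ e),
      commutatorElement_eq_one_iff_commute.mpr (R.central w₀ R.hw₀ d),
      commutatorElement_self]
    simp [mul_assoc]
  have hel : ξ ⁅e, l⁆ = ⁅e, l⁆ * ⁅d, l⁆ := by
    rw [map_commutatorElement, R.he, R.hl, hw₁, mul_one, PGroup.comm_mul_left R.c2]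
  let η : W → W := fun w => ⟨ξ w, R.hW w w.2⟩
  let E1 : W := ⟨e ^ p, R.pows e⟩
  let D1 : W := ⟨d ^ p, R.pows d⟩
  let L1 : W := ⟨l ^ p, R.pows l⟩
  let C1 : W := ⟨⁅e, d⁆, R.comm e d⟩
  let C2 : W := ⟨⁅e, l⁆, R.comm e l⟩
  let C3 : W := ⟨⁅d, l⁆, R.comm d l⟩
  have hηm : ∀ a b : W, η (a * b) = η a * η b := fun a b => Subtype.ext (map_mul ξ (a : Q) b)
  have hηp : ∀ (a : W) (n : ℕ), η (a ^ n) = η a ^ n := fun a n => Subtype.ext (map_pow ξ (a : Q) n)
  have eE : η E1 = E1 * D1 := Subtype.ext (show ξ (e ^ p) = e ^ p * d ^ p by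
    rw [← hnd, mul_inv_cancel_left])
  have eD : η D1 = D1 * L1 := Subtype.ext (show ξ (d ^ p) = d ^ p * l ^ p by
    rw [← hnl, mul_inv_cancel_left])
  have eL : η L1 = L1 := Subtype.ext hnl'
  have eC1 : η C1 = C1 * C2 * C3 := Subtype.ext hed
  have eC2 : η C2 = C2 * C3 := Subtype.ext hel
  have hb1 : C2 ^ ν * (D1 * L1 ^ k) = 1 := Subtype.ext (by
    show ⁅e, l⁆ ^ ν * (d ^ p * (l ^ p) ^ k) = 1
    rw [← h1, ← commutatorElement_inv e l, inv_pow, mul_inv_cancel])
  have hb2 : C3 ^ ν * L1 = 1 := by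
    have h2 := congrArg η hb1
    rw [hηm, hηp, hηm, hηp, eC2, eD, eL, show η 1 = 1 from Subtype.ext (map_one ξ)] at h2
    calc C3 ^ ν * L1 = (C3 ^ ν * L1) * (C2 ^ ν * (D1 * L1 ^ k)) := by rw [hb1, mul_one]
      _ = (C2 * C3) ^ ν * (D1 * L1 * L1 ^ k) := by simp [mul_pow, mul_assoc, mul_left_comm, mul_comm]
      _ = 1 := h2
  let y : W := C1 ^ ν * (E1 * D1 ^ (k + 1))
  have hy : η y = y := by
    calc η y = (C1 * C2 * C3) ^ ν * (E1 * D1 * (D1 * L1) ^ (k + 1)) := by
          simp only [y, hηm, hηp, eC1, eE, eD]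
      _ = y * ((C2 ^ ν * (D1 * L1 ^ k)) * (C3 ^ ν * L1)) := by
          simp [y, mul_pow, pow_succ, mul_assoc, mul_left_comm, mul_comm]
      _ = y := by rw [hb1, hb2, one_mul, mul_one]
  -- the power map is injective on `Q / W`, hence onto `W`
  have hpe : e ^ p ≠ 1 := fun h0 => heA (by rw [h0]; exact A.one_mem)
  have hker : ∀ q : Q, q ^ p = 1 → q ∈ W := by
    rcases R.pow_dichotomy with h | h
    · exact absurd (h e) hpe
    · exact h
  let π : Q →* W :=
    { toFun := fun q => ⟨q ^ p, R.pows q⟩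
      map_one' := Subtype.ext (one_pow p)
      map_mul' := fun a b => Subtype.ext (R.pow_mul_hom a b) }
  have hsurj : Function.Surjective π := by
    have hcard : Nat.card W ≤ Nat.card π.range := by
      have h3 : W.index = p ^ 3 → True := fun _ => trivial
      refine R.card.trans ?_
      -- three independent powers
      let T : Fin p × Fin p × Fin p → π.range := fun v =>
        ⟨π (e ^ v.1.val * d ^ v.2.1.val * l ^ v.2.2.val), ⟨_, rfl⟩⟩
      have hT : Function.Injective T := by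
        rintro ⟨i, j, m⟩ ⟨i', j', m'⟩ h
        have h' : E1 ^ (i : ℕ) * D1 ^ (j : ℕ) * L1 ^ (m : ℕ) =
            E1 ^ (i' : ℕ) * D1 ^ (j' : ℕ) * L1 ^ (m' : ℕ) := by
          have hE : ∀ (q : Q) (n : ℕ), π (q ^ n) = π q ^ n := fun q n => map_pow π q n
          have := congrArg Subtype.val h
          simp only [T, map_mul, hE] at this
          exact this
        have hL1 : L1 ≠ 1 := fun h0 => by
          have := hker l (congrArg Subtype.val h0)
          have hW' : ∀ q : Q, q⁻¹ * ξ q ∈ W → q ∈ W := fun q hq => by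
            obtain ⟨n, w, hw, rfl⟩ := R.hfix q hq
            exact W.mul_mem (W.pow_mem this n) hw
          have hdW : d ∈ W := hW' d (by
            rw [R.hd, mul_assoc, inv_mul_cancel_left]; exact W.mul_mem this R.hw₀)
          have heW : e ∈ W := hW' e (by rw [R.he, inv_mul_cancel_left]; exact hdW)
          exact hpe (R.exp e heW)
        have hord : orderOf L1 = p := orderOf_eq_prime (Subtype.ext (R.exp _ (R.pows l))) hL1
        have hcast : ∀ {a b : ℕ}, L1 ^ a = L1 ^ b → (a : ZMod p) = b := fun {a b} hab =>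
          (ZMod.natCast_eq_natCast_iff _ _ _).mpr (by rw [← hord]; exact pow_eq_pow_iff_modEq.mp hab)
        -- apply `η` twice and once
        have h1' := congrArg η h'
        simp only [hηm, hηp, eE, eD, eL, mul_pow] at h1'
        have hd1 : D1 ^ (i : ℕ) * L1 ^ (j : ℕ) = D1 ^ (i' : ℕ) * L1 ^ (j' : ℕ) := by
          apply mul_left_cancel (a := E1 ^ (i : ℕ) * D1 ^ (j : ℕ) * L1 ^ (m : ℕ))
          calc _ = E1 ^ (i : ℕ) * D1 ^ (i : ℕ) * (D1 ^ (j : ℕ) * L1 ^ (j : ℕ)) * L1 ^ (m : ℕ) := by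
                simp [mul_assoc, mul_left_comm, mul_comm]
            _ = _ := h1'
            _ = _ := by rw [h']; simp [mul_assoc, mul_left_comm, mul_comm]
        have hd2 : L1 ^ (i : ℕ) = L1 ^ (i' : ℕ) := by
          have h2 := congrArg η hd1
          simp only [hηm, hηp, eD, eL, mul_pow] at h2
          apply mul_left_cancel (a := D1 ^ (i : ℕ) * L1 ^ (j : ℕ))
          calc _ = D1 ^ (i : ℕ) * L1 ^ (i : ℕ) * L1 ^ (j : ℕ) := mul_right_comm _ _ _
            _ = _ := h2
            _ = _ := by rw [hd1, mul_right_comm]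
        have hF : ∀ {a b : Fin p}, ((a : ℕ) : ZMod p) = ((b : ℕ) : ZMod p) → a = b := fun {a b} hab =>
          Fin.ext (by
            have := (ZMod.natCast_eq_natCast_iff' _ _ _).mp hab
            rwa [Nat.mod_eq_of_lt a.2, Nat.mod_eq_of_lt b.2] at this)
        obtain rfl := hF (hcast hd2)
        obtain rfl := hF (hcast (mul_left_cancel hd1))
        obtain rfl := hF (hcast (mul_left_cancel h'))
        rfl
      have := Nat.card_le_card_of_injective T hT
      simp only [Nat.card_prod, Nat.card_fin] at this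
      calc p ^ 3 = p * (p * p) := by ring
        _ ≤ _ := this
    intro w
    have : π.range = ⊤ := Subgroup.eq_of_le_of_card_ge le_top (by rwa [Subgroup.card_top])
    exact this.ge (Subgroup.mem_top w)
  obtain ⟨q, hq⟩ := hsurj y
  have hqfix : q⁻¹ * ξ q ∈ W := hker _ (by
    have h2 : ξ (q ^ p) = q ^ p := by
      have := congrArg Subtype.val hy
      rw [← hq] at this
      exact this
    rw [R.pow_mul_hom, inv_pow, ← map_pow, h2, inv_mul_cancel])
  obtain ⟨n, w, hw, rfl⟩ := R.hfix q hqfix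
  have hyA : (y : Q) ∈ A := by
    rw [← hq]
    show (l ^ n * w) ^ p ∈ A
    rw [R.pow_of_mem hw, ← pow_mul, mul_comm, pow_mul]
    exact A.pow_mem R.hlA n
  let A' : Subgroup W := A.subgroupOf W
  have hD : D1 ∈ A' := R.hdA
  have hy' : y ∈ A' := hyA
  have hr' : C1 ^ ν * E1⁻¹ ∈ A' := hrel
  have h2 : E1 ^ 2 ∈ A' := by
    have := A'.mul_mem (A'.mul_mem hy' (A'.inv_mem (A'.pow_mem hD (k + 1)))) (A'.inv_mem hr')
    have e2 : y * (D1 ^ (k + 1))⁻¹ * (C1 ^ ν * E1⁻¹)⁻¹ = E1 ^ 2 := by
      simp [y, sq, mul_assoc, mul_left_comm, mul_comm]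
    rwa [e2] at this
  apply heA
  show (E1 : Q) ∈ A
  have hc : ((2 * ((p + 1) / 2) : ℕ)) = p + 1 := by
    have : Odd p := (Fact.out : p.Prime).odd_of_ne_two (by have := R.five; omega)
    obtain ⟨t, ht⟩ := this
    omega
  have h3 := A'.pow_mem h2 ((p + 1) / 2)
  rw [← pow_mul, hc, pow_succ, show E1 ^ p = 1 from Subtype.ext (R.exp _ (R.pows e)), one_mul] at h3
  exact h3

omit R in
lemma commute_of_central {u v : Q} (h : ⁅u, v⁆ = 1) : ⁅v, u⁆ = 1 := by
  rw [← commutatorElement_inv u v, h, inv_one]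

/-- `x^p ∈ Φ(E)`: impossible. -/
theorem false_of_trivial (hrank : RankThree p Q) (hw₀ : w₀ = 1) (hinner : ξ ^ p = 1)
    (hedA : ⁅e, d⁆ ∉ A) : False := by
  obtain ⟨k, m, hmW, hm, -, hxe⟩ := R.iter_e
  rw [hinner, MulAut.one_apply, mul_assoc, mul_assoc, left_eq_mul] at hxe
  have hlp : l ^ p = 1 := by
    have h2 : ξ (d ^ p) = d ^ p * l ^ p := by
      rw [map_pow, R.hd, hw₀, mul_one, R.pow_mul_hom]
    have h3 : ξ (l ^ p) = l ^ p := by rw [map_pow, R.hl, R.pow_of_mem R.hw₁]
    have h1 := congrArg ξ hxe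
    rw [map_mul, map_mul, h2, map_pow, h3, hm, map_one, mul_assoc,
      ← mul_assoc (l ^ p), ((Commute.refl (l ^ p)).pow_right k).eq, mul_assoc ((l ^ p) ^ k),
      ← mul_assoc (d ^ p)] at h1
    have hc : Commute (l ^ p) m := R.central m hmW _
    rw [hc.eq, ← mul_assoc, mul_assoc (d ^ p) _ m, hxe, one_mul] at h1
    exact h1
  have hpow : ∀ q : Q, q ^ p = 1 := by
    rcases R.pow_dichotomy with h | h
    · exact h
    exfalso
    have hlW : l ∈ W := h l hlp
    have hW' : ∀ q : Q, q⁻¹ * ξ q ∈ W → q ∈ W := fun q hq => by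
      obtain ⟨n, w, hw, rfl⟩ := R.hfix q hq
      exact W.mul_mem (W.pow_mem hlW n) hw
    have hdW : d ∈ W := hW' d (by rw [R.hd, mul_assoc, inv_mul_cancel_left]; exact W.mul_mem hlW R.hw₀)
    exact hedA (by rw [commutatorElement_eq_one_iff_commute.mpr (R.central d hdW e)]; exact A.one_mem)
  have hz : ∀ w ∈ W, ∀ q : Q, ⁅q, w⁆ = 1 := fun w hw q =>
    commutatorElement_eq_one_iff_commute.mpr (R.central w hw q)
  have hed1 : ⁅e, d⁆ ≠ 1 := fun h => hedA (by rw [h]; exact A.one_mem)
  have hxd : ξ ⁅e, d⁆ = ⁅e, d⁆ * ⁅e, l⁆ * ⁅d, l⁆ := by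
    rw [map_commutatorElement, R.he, R.hd, hw₀, mul_one,
      PGroup.comm_mul_left R.c2, PGroup.comm_mul_right R.c2, PGroup.comm_mul_right R.c2,
      commutatorElement_self, one_mul]
  have hxl : ξ ⁅e, l⁆ = ⁅e, l⁆ * ⁅d, l⁆ := by
    rw [map_commutatorElement, R.he, R.hl, PGroup.comm_mul_right R.c2, hz w₁ R.hw₁, mul_one,
      PGroup.comm_mul_left R.c2]
  have hxc : ξ ⁅d, l⁆ = ⁅d, l⁆ := by
    rw [map_commutatorElement, R.hd, hw₀, mul_one, R.hl, PGroup.comm_mul_right R.c2, hz w₁ R.hw₁,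
      mul_one, PGroup.comm_mul_left R.c2, commutatorElement_self, mul_one]
  -- the form of a general element
  have hform : ∀ u v : Q, ∀ i j k i' j' k' : ℕ, ∀ w ∈ W, ∀ w' ∈ W,
      u = e ^ i * d ^ j * l ^ k * w → v = e ^ i' * d ^ j' * l ^ k' * w' →
      ⁅u, v⁆ = ⁅e, d⁆ ^ (i * j') * ⁅e, l⁆ ^ (i * k') * ⁅d, e⁆ ^ (j * i') * ⁅d, l⁆ ^ (j * k') *
        ⁅l, e⁆ ^ (k * i') * ⁅l, d⁆ ^ (k * j') := by
    intro u v i j k i' j' k' w hw w' hw' hu hv
    subst hu hv
    simp only [PGroup.comm_mul_left R.c2, PGroup.comm_mul_right R.c2, hz w' hw',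
      PGroup.comm_pow_left R.c2, PGroup.comm_pow_right R.c2,
      commute_of_central (hz w hw e), commute_of_central (hz w hw d), commute_of_central (hz w hw l),
      commute_of_central (hz w hw w'), commutatorElement_self, one_pow, mul_one, one_mul, ← pow_mul]
    simp only [mul_comm i', mul_comm j', mul_comm k', mul_assoc]
  by_cases hdl : ⁅d, l⁆ = 1
  · by_cases hel : ⁅e, l⁆ = 1
    · -- `l` spans the radical
      have hlc : ∀ q : Q, Commute q l := fun q => by
        obtain ⟨i, j, k, w, hw, rfl⟩ := R.dec q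
        exact (((commutatorElement_eq_one_iff_commute.mp hel).pow_left i).mul_left
          ((commutatorElement_eq_one_iff_commute.mp hdl).pow_left j)).mul_left
          ((Commute.refl l).pow_left k) |>.mul_left (R.central w hw l).symm
      rcases R.irr (Subgroup.center Q) inferInstance (fun w hw => Subgroup.mem_center_iff.mpr fun q =>
        (R.central w hw q).eq) with h | h
      · have hlW : l ∈ W := h.le (Subgroup.mem_center_iff.mpr fun q => (hlc q).eq)
        obtain ⟨n, w, hw, hdn⟩ := R.hfix d (by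
          rw [R.hd, mul_assoc, inv_mul_cancel_left]; exact W.mul_mem hlW R.hw₀)
        exact hed1 (by rw [hdn]; exact hz _ (W.mul_mem (W.pow_mem hlW n) hw) e)
      · exact hed1 (commutatorElement_eq_one_iff_commute.mpr
          (Subgroup.mem_center_iff.mp (h.ge (Subgroup.mem_top d)) e))
    · -- `⟨d, l⟩W` is the only abelian plane
      let U : Subgroup Q := Subgroup.zpowers d ⊔ (Subgroup.zpowers l ⊔ W)
      have hind : ∀ i j : ℕ, ⁅e, d⁆ ^ i * ⁅e, l⁆ ^ j = 1 → p ∣ i ∧ p ∣ j := by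
        intro i j h
        have hoe : orderOf ⁅e, l⁆ = p := orderOf_eq_prime (R.exp _ (R.comm e l)) hel
        have hoc : orderOf ⁅e, d⁆ = p := orderOf_eq_prime (R.exp _ (R.comm e d)) hed1
        have h2 := congrArg ξ h
        rw [map_mul, map_pow, map_pow, hxd, hxl, hdl, mul_one, mul_one,
          ((R.central _ (R.comm e l) ⁅e, d⁆)).mul_pow, map_one, mul_assoc] at h2
        have hc : ⁅e, l⁆ ^ i * ⁅e, l⁆ ^ j = ⁅e, l⁆ ^ j * ⁅e, l⁆ ^ i := ((Commute.refl _).pow_pow _ _).eq
        rw [hc, ← mul_assoc, h, one_mul] at h2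
        have hi : p ∣ i := hoe ▸ orderOf_dvd_of_pow_eq_one h2
        refine ⟨hi, hoe ▸ orderOf_dvd_of_pow_eq_one ?_⟩
        obtain ⟨t, rfl⟩ := hi
        rwa [pow_mul, R.exp _ (R.comm e d), one_pow, one_mul] at h
      have hkey : ∀ φ : MulAut Q, φ d ∈ U ∧ φ l ∈ U := by
        intro φ
        obtain ⟨i, j, k, w, hw, hu⟩ := R.dec (φ d)
        obtain ⟨i', j', k', w', hw', hv⟩ := R.dec (φ l)
        have h0 : ⁅φ d, φ l⁆ = 1 := by rw [← map_commutatorElement, hdl, map_one]
        rw [hform _ _ i j k i' j' k' w hw w' hw' hu hv, commute_of_central hdl, hdl, one_pow, one_pow,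
          mul_one, mul_one, ← commutatorElement_inv e d, ← commutatorElement_inv e l, inv_pow, inv_pow,
          ← zpow_natCast, ← zpow_natCast, ← zpow_natCast, ← zpow_natCast,
          mul_assoc (⁅e, d⁆ ^ ((i * j' : ℕ) : ℤ)),
          ((R.central _ (R.comm e d) ⁅e, l⁆).zpow_zpow _ _).inv_right.eq, ← mul_assoc, ← zpow_neg,
          ← zpow_neg, ← zpow_add, mul_assoc, ← zpow_add] at h0
        have hd0 : ∀ (c : Q) (z : ℤ), c ^ p = 1 → c ^ z = c ^ (z % (p : ℤ)).toNat := fun c z hc => by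
          conv_lhs => rw [← Int.mul_ediv_add_emod z p]
          rw [zpow_add, zpow_mul, zpow_natCast, hc, one_zpow, one_mul, ← zpow_natCast,
            Int.toNat_of_nonneg (Int.emod_nonneg _ (by exact_mod_cast (Fact.out : p.Prime).ne_zero))]
        rw [hd0 _ _ (R.exp _ (R.comm e d)), hd0 _ _ (R.exp _ (R.comm e l))] at h0
        obtain ⟨hA, hB⟩ := hind _ _ h0
        have hz0 : ∀ z : ℤ, p ∣ (z % (p : ℤ)).toNat → (z : ZMod p) = 0 := fun z hzd => by
          rw [ZMod.intCast_zmod_eq_zero_iff_dvd]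
          have hn := Int.natCast_dvd_natCast.mpr hzd
          rw [Int.toNat_of_nonneg (Int.emod_nonneg _ (by exact_mod_cast (Fact.out : p.Prime).ne_zero))] at hn
          exact Int.dvd_of_emod_eq_zero (Int.eq_zero_of_dvd_of_nonneg_of_lt (Int.emod_nonneg _
            (by exact_mod_cast (Fact.out : p.Prime).ne_zero))
            (Int.emod_lt_of_pos _ (by exact_mod_cast (Fact.out : p.Prime).pos)) hn)
        have e1 : (i : ZMod p) * j' = j * i' := by
          have := hz0 _ hA; push_cast at this; linear_combination this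
        have e2 : (i : ZMod p) * k' = k * i' := by
          have := hz0 _ hB; push_cast at this; linear_combination this
        have hmemU : ∀ (a b : ℕ) (c : Q), c ∈ W → d ^ a * l ^ b * c ∈ U := fun a b c hc =>
          U.mul_mem (U.mul_mem (Subgroup.mem_sup_left (Subgroup.pow_mem _ (Subgroup.mem_zpowers d) a))
            (Subgroup.mem_sup_right (Subgroup.mem_sup_left (Subgroup.pow_mem _ (Subgroup.mem_zpowers l) b))))
            (Subgroup.mem_sup_right (Subgroup.mem_sup_right hc))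
        have hpz : ∀ (a : ℕ), (a : ZMod p) = 0 → e ^ a = 1 := fun a ha => by
          obtain ⟨t, rfl⟩ := (ZMod.natCast_eq_zero_iff _ _).mp ha
          rw [pow_mul, hpow, one_pow]
        by_cases hi : (i : ZMod p) = 0
        · refine ⟨by rw [hu, hpz i hi, one_mul]; exact hmemU j k w hw, ?_⟩
          by_cases hi' : (i' : ZMod p) = 0
          · rw [hv, hpz i' hi', one_mul]; exact hmemU j' k' w' hw'
          exfalso
          rw [hi, zero_mul] at e1 e2
          have hj : (j : ZMod p) = 0 := (mul_eq_zero.mp e1.symm).resolve_right hi'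
          have hk : (k : ZMod p) = 0 := (mul_eq_zero.mp e2.symm).resolve_right hi'
          obtain ⟨tj, rfl⟩ := (ZMod.natCast_eq_zero_iff _ _).mp hj
          obtain ⟨tk, rfl⟩ := (ZMod.natCast_eq_zero_iff _ _).mp hk
          rw [pow_mul d, pow_mul l, hpow d, hpow l, one_pow, one_pow, hpz i hi, one_mul, one_mul,
            one_mul] at hu
          have : φ ⁅d, e⁆ = 1 := by
            rw [map_commutatorElement, hu]; exact commute_of_central (hz w hw (φ e))
          exact hed1 (commute_of_central (φ.injective (by rw [this, map_one])))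
        exfalso
        -- `φ l` is a power of `φ d` modulo `W`
        set t := ((i' : ZMod p) / i).val with ht
        have ht' : (t : ZMod p) = (i' : ZMod p) / i := by rw [ht, ZMod.natCast_zmod_val]
        have hcz : ∀ (c : Q) (a b : ℕ), (a : ZMod p) = b → c ^ a = c ^ b := fun c a b hab => by
          rw [pow_eq_pow_mod a (hpow c), pow_eq_pow_mod b (hpow c),
            (ZMod.natCast_eq_natCast_iff' _ _ _).mp hab]
        haveI hWn : W.Normal := ⟨fun w hw q => by
          rw [(R.central w hw q).eq, mul_inv_cancel_right]; exact hw⟩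
        letI : CommGroup (Q ⧸ W) := { (inferInstance : Group (Q ⧸ W)) with
          mul_comm := fun x y => by
            induction x using QuotientGroup.induction_on with
            | H a =>
              induction y using QuotientGroup.induction_on with
              | H b =>
                exact QuotientGroup.eq.mpr (by
                  have h1 := R.comm b⁻¹ a⁻¹
                  rw [commutatorElement_def, inv_inv, inv_inv] at h1
                  simpa [mul_assoc] using h1) }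
        have e3 : (t : ZMod p) * i = i' := by rw [ht']; field_simp
        have e4 : (t : ZMod p) * j = j' := by rw [ht']; field_simp; linear_combination -e1
        have e5 : (t : ZMod p) * k = k' := by rw [ht']; field_simp; linear_combination -e2
        have hmem : l * (d ^ t)⁻¹ ∈ W := by
          have h1 : φ (l * (d ^ t)⁻¹) ∈ W := by
            rw [← QuotientGroup.eq_one_iff, map_mul, map_inv, map_pow, QuotientGroup.mk_mul,
              QuotientGroup.mk_inv, QuotientGroup.mk_pow, mul_inv_eq_one, hu, hv]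
            simp only [QuotientGroup.mk_mul, QuotientGroup.mk_pow, (QuotientGroup.eq_one_iff w).mpr hw,
              (QuotientGroup.eq_one_iff w').mpr hw', mul_one, mul_pow, ← pow_mul]
            simp only [← QuotientGroup.mk_pow, hcz e (i * t) i' (by push_cast; linear_combination e3),
              hcz d (j * t) j' (by push_cast; linear_combination e4),
              hcz l (k * t) k' (by push_cast; linear_combination e5)]
          have h2 := Subgroup.characteristic_iff_comap_eq.mp R.char φ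
          rw [← h2]; exact h1
        have h' : ⁅e, l⁆ = ⁅e, d⁆ ^ t := by
          have h3 := hz _ hmem e
          rw [PGroup.comm_mul_right R.c2, PGroup.comm_inv_right R.c2, PGroup.comm_pow_right R.c2,
            mul_inv_eq_one] at h3
          exact h3
        have h'' : ⁅e, d⁆ ^ t * ⁅e, l⁆ ^ (p - 1) = 1 := by
          rw [← h', ← pow_succ', Nat.sub_add_cancel (Fact.out : p.Prime).pos, R.exp _ (R.comm e l)]
        obtain ⟨-, h3⟩ := hind _ _ h''
        have := Nat.le_of_dvd (by have := R.five; omega) h3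
        have := (Fact.out : p.Prime).pos
        omega
      have hUc : U.Characteristic := Subgroup.characteristic_iff_map_le.mpr fun φ => by
        rw [Subgroup.map_sup, Subgroup.map_sup, sup_le_iff, sup_le_iff]
        refine ⟨?_, ?_, ?_⟩
        · rw [MonoidHom.map_zpowers, Subgroup.zpowers_le]; exact (hkey φ).1
        · rw [MonoidHom.map_zpowers, Subgroup.zpowers_le]; exact (hkey φ).2
        · rw [Subgroup.characteristic_iff_map_eq.mp R.char φ]; exact le_sup_right.trans le_sup_right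
      rcases R.irr U hUc (le_sup_right.trans le_sup_right) with h | h
      · exact hel (hz l (h.le (Subgroup.mem_sup_right (Subgroup.mem_sup_left (Subgroup.mem_zpowers l)))) e)
      · have hU : U ≤ Subgroup.centralizer {d} := by
          have hc : ∀ q : Q, Commute d q → q ∈ Subgroup.centralizer {d} := fun q hq =>
            Subgroup.mem_centralizer_singleton_iff.mpr hq.eq.symm
          refine sup_le (Subgroup.zpowers_le.mpr (hc d (Commute.refl d))) (sup_le
            (Subgroup.zpowers_le.mpr (hc l (commutatorElement_eq_one_iff_commute.mp hdl))) fun w hw =>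
              hc w (R.central w hw d))
        have := Subgroup.mem_centralizer_singleton_iff.mp (hU (h.ge (Subgroup.mem_top e)))
        exact hed1 (commutatorElement_eq_one_iff_commute.mpr this)
  · -- three independent commutators: an elementary section of rank four
    letI : CommGroup W := { (inferInstance : Group W) with
      mul_comm := fun a b => Subtype.ext (R.central b b.2 a).eq }
    let C1 : W := ⟨⁅e, d⁆, R.comm e d⟩
    let C2 : W := ⟨⁅e, l⁆, R.comm e l⟩
    let C3 : W := ⟨⁅d, l⁆, R.comm d l⟩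
    let η : W →* W :=
      { toFun := fun w => ⟨ξ w, R.hW w w.2⟩
        map_one' := Subtype.ext (map_one ξ)
        map_mul' := fun a b => Subtype.ext (map_mul ξ (a : Q) b) }
    have eC1 : η C1 = C1 * C2 * C3 := Subtype.ext hxd
    have eC2 : η C2 = C2 * C3 := Subtype.ext hxl
    have eC3 : η C3 = C3 := Subtype.ext hxc
    have hord : orderOf C3 = p :=
      orderOf_eq_prime (Subtype.ext (R.exp _ (R.comm d l))) fun h => hdl (congrArg Subtype.val h)
    have hcast : ∀ {a b : ℕ}, C3 ^ a = C3 ^ b → (a : ZMod p) = b := fun {a b} hab =>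
      (ZMod.natCast_eq_natCast_iff _ _ _).mpr (by rw [← hord]; exact pow_eq_pow_iff_modEq.mp hab)
    let T : Fin p × Fin p × Fin p → W := fun v => C1 ^ v.1.val * C2 ^ v.2.1.val * C3 ^ v.2.2.val
    have hT : Function.Injective T := by
      rintro ⟨i, j, m⟩ ⟨i', j', m'⟩ (h : C1 ^ (i : ℕ) * C2 ^ (j : ℕ) * C3 ^ (m : ℕ) =
        C1 ^ (i' : ℕ) * C2 ^ (j' : ℕ) * C3 ^ (m' : ℕ))
      have h1 := congrArg η h
      simp only [map_mul, map_pow, eC1, eC2, eC3, mul_pow] at h1
      have hd1 : C2 ^ (i : ℕ) * C3 ^ (i : ℕ) * C3 ^ (j : ℕ) = C2 ^ (i' : ℕ) * C3 ^ (i' : ℕ) * C3 ^ (j' : ℕ) := by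
        apply mul_left_cancel (a := C1 ^ (i : ℕ) * C2 ^ (j : ℕ) * C3 ^ (m : ℕ))
        calc _ = C1 ^ (i : ℕ) * C2 ^ (i : ℕ) * C3 ^ (i : ℕ) * (C2 ^ (j : ℕ) * C3 ^ (j : ℕ)) * C3 ^ (m : ℕ) := by
              simp [mul_assoc, mul_left_comm, mul_comm]
          _ = _ := h1
          _ = _ := by rw [h]; simp [mul_assoc, mul_left_comm, mul_comm]
      have hd2 : C3 ^ (i : ℕ) = C3 ^ (i' : ℕ) := by
        have h2 := congrArg η hd1
        simp only [map_mul, map_pow, eC2, eC3, mul_pow] at h2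
        apply mul_left_cancel (a := C2 ^ (i : ℕ) * C3 ^ (i : ℕ) * C3 ^ (j : ℕ))
        calc _ = C2 ^ (i : ℕ) * C3 ^ (i : ℕ) * C3 ^ (i : ℕ) * C3 ^ (j : ℕ) := mul_right_comm _ _ _
          _ = _ := h2
          _ = _ := by rw [hd1, mul_right_comm]
      have hF : ∀ {a b : Fin p}, ((a : ℕ) : ZMod p) = ((b : ℕ) : ZMod p) → a = b := fun {a b} hab =>
        Fin.ext (by
          have := (ZMod.natCast_eq_natCast_iff' _ _ _).mp hab
          rwa [Nat.mod_eq_of_lt a.2, Nat.mod_eq_of_lt b.2] at this)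
      obtain rfl := hF (hcast hd2)
      obtain rfl := hF (hcast (mul_left_cancel hd1))
      obtain rfl := hF (hcast (mul_left_cancel h))
      rfl
    have hWc : p ^ 3 ≤ Nat.card W := by
      have := Nat.card_le_card_of_injective T hT
      simp only [Nat.card_prod, Nat.card_fin] at this
      calc p ^ 3 = p * (p * p) := by ring
        _ ≤ _ := this
    have heW : e ∉ W := fun h => hdl (by
      have h1 : ⁅e, l⁆ = 1 := commute_of_central (hz e h l)
      rw [h1, one_mul, map_one] at hxl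
      exact hxl.symm)
    have hQp : IsPGroup p Q := fun q => ⟨1, by rw [pow_one]; exact hpow q⟩
    let H : Subgroup Q := W ⊔ Subgroup.zpowers e
    have hlt : W < H := lt_of_le_of_ne le_sup_left fun h => heW (h.ge (Subgroup.mem_sup_right (Subgroup.mem_zpowers e)))
    have hHc : ∀ u ∈ H, ∀ v ∈ H, ⁅u, v⁆ = 1 := by
      intro u hu v hv
      rw [commutatorElement_eq_one_iff_commute]
      haveI hWn : W.Normal := ⟨fun w hw q => by
        rw [(R.central w hw q).eq, mul_inv_cancel_right]; exact hw⟩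
      obtain ⟨a, ha, x, hx, rfl⟩ := Subgroup.mem_sup_of_normal_left.mp hu
      obtain ⟨b, hb, y, hy, rfl⟩ := Subgroup.mem_sup_of_normal_left.mp hv
      obtain ⟨s, rfl⟩ := hx
      obtain ⟨t, rfl⟩ := hy
      exact (((R.central b hb a)).mul_right (R.central a ha _).symm).mul_left
        ((R.central b hb _).mul_right ((Commute.refl e).zpow_zpow s t))
    have := hrank H ⊥ bot_le inferInstance (fun u hu v hv => Subgroup.mem_bot.mpr (hHc u hu v hv))
      (fun u _ => Subgroup.mem_bot.mpr (hpow u))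
    rw [Subgroup.card_bot, mul_one] at this
    have h4 := le_trans (Nat.mul_le_mul_left p hWc) (le_trans (card_mul_le' hQp hlt) this)
    have := (Fact.out : p.Prime).two_le
    nlinarith [pow_pos (Fact.out : p.Prime).pos 3]

end RCore

end Cfsg.Agent.LocalEvenD.RTE
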