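import Cfsg.Agent.LocalEvenD.RankThreeEss.TransvecFrame

/-!
# The transvection case: the contradiction in `N_S(R)`

`R` is normal in `G`, the quotient `R / Φ` carries a frame with an automorphism `δ` of weights
`c², c⁻¹, c, 1`.  The group `G` fixes a line of the plane; when it is the line of `x`, the extension of
`δ` to `G` splits off an element fixing `x, a, f`, and an elementary section of rank four appears.
-/

set_option autoImplicit false
set_option linter.style.haveILetI false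

namespace Cfsg.Agent.LocalEvenD.RTE

open scoped commutatorElement

variable {p : ℕ} [Fact p.Prime]

/-- The action of the automorphisms on the quotient by a characteristic subgroup. -/
def qAut {R : Type*} [Group R] (Φ : Subgroup R) [Φ.Characteristic] : MulAut R →* MulAut (R ⧸ Φ) where
  toFun φ := QuotientGroup.congr Φ Φ φ (Subgroup.characteristic_iff_map_eq.mp inferInstance φ)
  map_one' := MulEquiv.ext fun q => by
    induction q using QuotientGroup.induction_on with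
    | H v => rfl
  map_mul' a b := MulEquiv.ext fun q => by
    induction q using QuotientGroup.induction_on with
    | H v => rfl

@[simp] lemma qAut_mk {R : Type*} [Group R] (Φ : Subgroup R) [Φ.Characteristic] (φ : MulAut R) (v : R) :
    qAut Φ φ (v : R ⧸ Φ) = ((φ v : R) : R ⧸ Φ) := rfl

/-- The kernel of `qAut` is a `p`-group below the Frattini subgroup. -/
lemma qAut_ker_isPGroup {R : Type*} [Group R] [Finite R] (hR : IsPGroup p R) (Φ : Subgroup R)
    [Φ.Characteristic] (hΦ : Φ ≤ frattini R) : IsPGroup p (qAut Φ).ker := by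
  refine (fAct_ker_isPGroup hR).of_injective (Subgroup.inclusion (fun φ hφ => ?_))
    (Subgroup.inclusion_injective _)
  rw [MonoidHom.mem_ker] at hφ ⊢
  refine MulEquiv.ext fun q => ?_
  induction q using QuotientGroup.induction_on with
  | H v =>
    rw [fAct_mk, MulAut.one_apply]
    exact QuotientGroup.eq.mpr (hΦ (QuotientGroup.eq.mp (DFunLike.congr_fun hφ (v : R ⧸ Φ))))

namespace Frame

variable {Q : Type*} [Group Q] (P : Frame p Q)

lemma plane (α : MulAut Q) (q : Q) :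
    P.c₁ (α q) = P.c₁ q * P.c₁ (α P.x) + P.c₂ q * P.c₁ (α P.b) ∧
      P.c₂ (α q) = P.c₁ q * P.c₂ (α P.x) + P.c₂ q * P.c₂ (α P.b) ∧
      P.c₄ (α q) = P.c₁ q * P.c₄ (α P.x) + P.c₂ q * P.c₄ (α P.b) + P.c₄ q * P.c₄ (α P.f) := by
  obtain ⟨h1, h2, h3⟩ := P.c_map α (P.c₁ q) (P.c₂ q) (P.c₃ q) (P.c₄ q)
  rw [P.T_co] at h1 h2 h3
  have ha : P.c₁ (α P.a) = 0 ∧ P.c₂ (α P.a) = 0 ∧ P.c₄ (α P.a) = 0 := by rw [P.map_a α]; simp
  have hf : P.c₁ (α P.f) = 0 ∧ P.c₂ (α P.f) = 0 := by rw [P.map_f α]; simp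
  rw [h1, h2, h3, ha.1, ha.2.1, ha.2.2, hf.1, hf.2]
  refine ⟨?_, ?_, ?_⟩ <;> ring

lemma plane_congr (α : MulAut Q) {q q' : Q} (h1 : P.c₁ q = P.c₁ q') (h2 : P.c₂ q = P.c₂ q') :
    P.c₁ (α q) = P.c₁ (α q') ∧ P.c₂ (α q) = P.c₂ (α q') := by
  rw [(P.plane α q).1, (P.plane α q).2.1, (P.plane α q').1, (P.plane α q').2.1, h1, h2]
  exact ⟨rfl, rfl⟩

lemma map_co (φ : MulAut Q) (q : Q) :
    (P.map φ).c₁ (φ q) = P.c₁ q ∧ (P.map φ).c₂ (φ q) = P.c₂ q := by
  refine ⟨P.map_c₁ φ q, ?_⟩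
  conv_lhs => rw [← P.T_co q, ← P.map_T, Frame.c₂_T]

lemma c₁_one : P.c₁ 1 = 0 := by rw [← P.T_zero, c₁_T]

lemma c₁_conj (u q : Q) : P.c₁ (u * q * u⁻¹) = P.c₁ q := by
  have h := P.c₁_mul u u⁻¹
  rw [mul_inv_cancel, c₁_one] at h
  rw [P.c₁_mul, P.c₁_mul, add_right_comm, ← h, zero_add]

/-- An element commuting with `x` has no `b`-coordinate. -/
lemma c₂_eq_zero_of_commute {q : Q} (h : Commute q P.x) : P.c₂ q = 0 := by
  rw [← P.T_co q, ← P.T_x] at h
  obtain ⟨-, -, e, -⟩ := P.inj ((P.T_mul _ _ _ _ 1 0 0 0).symm.trans (h.eq.trans (P.T_mul 1 0 0 0 _ _ _ _)))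
  have : P.s * P.c₂ q = 0 := by linear_combination -e
  exact (mul_eq_zero.mp this).resolve_left P.hs

end Frame

/-- The weights of `δ` on a frame. -/
structure IsDelta {Q : Type*} [Group Q] (P : Frame p Q) (c κ : ZMod p) (D : MulAut Q) : Prop where
  app : ∀ i j k l : ZMod p, D (P.T i j k l) = P.T (c * c * i) (c⁻¹ * j) (κ * i + c * k) l

namespace IsDelta

variable {Q : Type*} [Group Q] {P : Frame p Q} {c κ : ZMod p} {D : MulAut Q}

lemma coords (hD : IsDelta P c κ D) (q : Q) :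
    P.c₁ (D q) = c * c * P.c₁ q ∧ P.c₂ (D q) = c⁻¹ * P.c₂ q ∧ P.c₄ (D q) = P.c₄ q ∧
      P.c₃ (D q) = κ * P.c₁ q + c * P.c₃ q := by
  have h := hD.app (P.c₁ q) (P.c₂ q) (P.c₃ q) (P.c₄ q)
  rw [P.T_co] at h
  rw [h]; simp

lemma symm_app (hD : IsDelta P c κ D) (hc : c ≠ 0) (i j k l : ZMod p) :
    D⁻¹ (P.T i j k l) = P.T ((c * c)⁻¹ * i) (c * j) (c⁻¹ * (k - κ * ((c * c)⁻¹ * i))) l := by
  refine D.injective ?_
  rw [MulAut.apply_inv_self, hD.app]
  congr 1 <;> field_simp <;> ring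

/-- Conjugation by `δ` on unipotent automorphisms. -/
lemma conj_uni (hD : IsDelta P c κ D) (hc : c ≠ 0) {α : MulAut Q} (hα : P.Uni α) :
    P.Uni (D * α * D⁻¹) ∧ P.c₁ ((D * α * D⁻¹) P.b) = c * c * c * P.c₁ (α P.b) ∧
      P.c₄ ((D * α * D⁻¹) P.x) = (c * c)⁻¹ * P.c₄ (α P.x) ∧
      P.c₃ ((D * α * D⁻¹) P.f) = c * P.c₃ (α P.f) := by
  have hx : D⁻¹ P.x = P.T ((c * c)⁻¹) 0 (c⁻¹ * (0 - κ * (c * c)⁻¹)) 0 := by
    rw [← P.T_x, hD.symm_app hc]; simp
  have hb : D⁻¹ P.b = P.T 0 c 0 0 := by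
    rw [← P.T_b, hD.symm_app hc]; simp
  have hf : D⁻¹ P.f = P.f := by
    rw [← P.T_f, hD.symm_app hc]; simp
  have ha : D⁻¹ P.a = P.a ^ (c⁻¹).val := by
    rw [← P.T_a, hD.symm_app hc]; simp [Frame.T, ZMod.val_one]
  have happ : ∀ q, (D * α * D⁻¹) q = D (α (D⁻¹ q)) := fun q => rfl
  refine ⟨⟨?_, ?_, ?_, ?_, ?_⟩, ?_, ?_, ?_⟩
  · rw [happ, ha, map_pow, hα.a, ← ha, MulAut.apply_inv_self]
  · rw [happ, (hD.coords _).1, (hα.apply' _).1, hx]
    simp only [Frame.c₁_T, Frame.c₂_T]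
    field_simp
    ring
  · rw [happ, (hD.coords _).2.1, (hα.apply' _).2.1, hx]
    simp
  · rw [happ, (hD.coords _).2.1, (hα.apply' _).2.1, hb]
    simp [hc]
  · rw [happ, hf, (hD.coords _).2.2.1, hα.f₄]
  · rw [happ, (hD.coords _).1, (hα.apply' _).1, hb]
    simp only [Frame.c₁_T, Frame.c₂_T]
    ring
  · rw [happ, (hD.coords _).2.2.1, (hα.apply' _).2.2, hx]
    simp
  · rw [happ, hf, (hD.coords _).2.2.2, show P.c₁ (α P.f) = 0 by rw [P.map_f α]; simp]
    ring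

end IsDelta

variable {G : Type*} [Group G] [Finite G]

/-- The core, when all of `G` fixes the line of `x`. -/
theorem transvec_core (hp : 5 ≤ p) (hG : IsPGroup p G) (hrank : RankThree p G) (R : Subgroup G) [R.Normal]
    (Φ : Subgroup R) [Φ.Characteristic] (hΦ : Φ ≤ frattini R) (P : Frame p (R ⧸ Φ))
    (A : Subgroup (MulAut R)) (hconj : ∀ h : G, MulAut.conjNormal h ∈ A)
    (hmax : ∀ U : Subgroup (MulAut R), U ≤ A → (MulAut.conjNormal (H := R)).range ≤ U → IsPGroup p U →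
      U ≤ (MulAut.conjNormal (H := R)).range)
    (hext : ∀ α ∈ A, (∀ h : G, α * MulAut.conjNormal h * α⁻¹ ∈ (MulAut.conjNormal (H := R)).range) →
      ∃ ψ : G →* G, ∀ r : R, ψ r = ((α r : R) : G))
    (c κ : ZMod p) (hc0 : c ≠ 0) (hc1 : c ≠ 1) (hc2 : c ^ 2 ≠ 1) (hc3 : c ^ 3 ≠ 1)
    (hc5 : c ^ 5 ≠ 1)
    (δ : MulAut R) (hδA : δ ∈ A) (hδ : IsDelta P c κ (qAut Φ δ))
    (hline : ∀ h : G, P.c₁ (qAut Φ (MulAut.conjNormal h) P.x) = 1 ∧
      P.c₂ (qAut Φ (MulAut.conjNormal h) P.x) = 0)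
    (hfix : ∀ h : G, P.c₁ (qAut Φ (MulAut.conjNormal h) P.b) = 0 → h ∈ R)
    (g : G) (hg : g ∉ R) : False := by
  classical
  have hpp := (Fact.out : p.Prime)
  haveI : Finite (MulAut R) := Finite.of_injective (fun f : MulAut R => (f : R → R)) DFunLike.coe_injective
  let K : G →* MulAut (R ⧸ Φ) := (qAut Φ).comp MulAut.conjNormal
  have hK : ∀ h, qAut Φ (MulAut.conjNormal h) = K h := fun h => rfl
  simp only [hK] at hline hfix
  -- everything is unipotent
  have hUni : ∀ h : G, P.Uni (K h) := by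
    intro h
    obtain ⟨m, hm⟩ := hG h
    have hαm : K h ^ p ^ m = 1 := by rw [← map_pow, hm, map_one]
    have hb : ∀ n : ℕ, P.c₂ ((K h ^ n) P.b) = P.c₂ (K h P.b) ^ n := fun n => by
      induction n with
      | zero => rw [pow_zero, MulAut.one_apply, ← P.T_b]; simp
      | succ n ih => rw [pow_succ', MulAut.mul_apply, (P.plane _ _).2.1, (hline h).2, ih]; ring
    have hf : ∀ n : ℕ, P.c₄ ((K h ^ n) P.f) = P.c₄ (K h P.f) ^ n := fun n => by
      induction n with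
      | zero => rw [pow_zero, MulAut.one_apply, ← P.T_f]; simp
      | succ n ih =>
        rw [pow_succ', MulAut.mul_apply, (P.plane _ _).2.2, ih,
          show P.c₁ ((K h ^ n) P.f) = 0 by rw [P.map_f]; simp,
          show P.c₂ ((K h ^ n) P.f) = 0 by rw [P.map_f]; simp]
        ring
    have hb1 : P.c₂ (K h P.b) = 1 := by
      have := hb (p ^ m)
      rw [hαm, ZMod.pow_card_pow, MulAut.one_apply] at this
      rw [← this, ← P.T_b]; simp
    have hf1 : P.c₄ (K h P.f) = 1 := by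
      have := hf (p ^ m)
      rw [hαm, ZMod.pow_card_pow, MulAut.one_apply] at this
      rw [← this, ← P.T_f]; simp
    refine ⟨?_, (hline h).1, (hline h).2, hb1, hf1⟩
    rw [P.map_a (K h), (hline h).1, (hline h).2, hb1, mul_one, mul_zero, sub_zero, P.T_a]
  -- `δ` normalizes the inner automorphisms
  obtain ⟨ψ, hψ⟩ : ∃ ψ : G →* G, ∀ r : R, ψ r = ((δ r : R) : G) := by
    refine hext δ hδA fun h => ?_
    let U₀ : Submonoid (MulAut R) :=
      { carrier := {α | α ∈ A ∧ P.Uni (qAut Φ α)}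
        one_mem' := ⟨A.one_mem, by rw [map_one]; exact Frame.Uni.one⟩
        mul_mem' := fun {u v} hu hv => ⟨A.mul_mem hu.1 hv.1, by rw [map_mul]; exact hu.2.mul hv.2⟩ }
    let U : Subgroup (MulAut R) :=
      { U₀ with
        inv_mem' := fun {u} hu => by
          obtain ⟨n, hn⟩ := (isOfFinOrder_of_finite u).mem_powers_iff_mem_zpowers.mpr
            (Subgroup.inv_mem _ (Subgroup.mem_zpowers u))
          rw [← show u ^ n = u⁻¹ from hn]
          exact U₀.pow_mem hu n }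
    have hU : IsPGroup p U := fun u => by
      have h1 : qAut Φ ((u : MulAut R) ^ p ^ 3) = 1 := by rw [map_pow]; exact u.2.2.pow_cube
      obtain ⟨m, hm⟩ := qAut_ker_isPGroup (hG.to_subgroup R) Φ hΦ ⟨(u : MulAut R) ^ p ^ 3, MonoidHom.mem_ker.mpr h1⟩
      refine ⟨3 + m, Subtype.ext ?_⟩
      have := congrArg Subtype.val hm
      rw [SubmonoidClass.coe_pow, pow_add, pow_mul]
      simpa using this
    refine hmax U (fun u hu => hu.1) (by rintro _ ⟨u, rfl⟩; exact ⟨hconj u, hUni u⟩) hU ?_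
    refine ⟨A.mul_mem (A.mul_mem hδA (hconj h)) (A.inv_mem hδA), ?_⟩
    rw [map_mul, map_mul, map_inv]
    exact (hδ.conj_uni hc0 (hUni h)).1
  have hKψ : ∀ h, K (ψ h) = qAut Φ δ * K h * (qAut Φ δ)⁻¹ := by
    intro h
    have h1 : MulAut.conjNormal (ψ h) = δ * MulAut.conjNormal h * δ⁻¹ := by
      refine MulEquiv.ext fun r => Subtype.ext ?_
      rw [MulAut.mul_apply, MulAut.mul_apply, ← hψ]
      simp only [MulAut.conjNormal_apply, map_mul, map_inv]
      rw [hψ, MulAut.apply_inv_self]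
    show qAut Φ (MulAut.conjNormal (ψ h)) = _
    rw [h1, map_mul, map_mul, map_inv]
    rfl
  -- the parameters
  have hμmul : ∀ u v : G, P.c₁ (K (u * v) P.b) = P.c₁ (K u P.b) + P.c₁ (K v P.b) := fun u v => by
    rw [map_mul]; exact (hUni u).mu_mul (hUni v)
  have hrmul : ∀ u v : G, P.c₄ (K (u * v) P.x) = P.c₄ (K u P.x) + P.c₄ (K v P.x) := fun u v => by
    rw [map_mul]; exact (hUni u).r_mul (hUni v)
  have hkmul : ∀ u v : G, P.c₃ (K (u * v) P.f) = P.c₃ (K u P.f) + P.c₃ (K v P.f) := fun u v => by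
    rw [map_mul]; exact (hUni u).k_mul (hUni v)
  have hμpow : ∀ (u : G) (n : ℕ), P.c₁ (K (u ^ n) P.b) = n * P.c₁ (K u P.b) := fun u n => by
    rw [map_pow]; exact (hUni u).mu_pow n
  have hrpow : ∀ (u : G) (n : ℕ), P.c₄ (K (u ^ n) P.x) = n * P.c₄ (K u P.x) := fun u n => by
    rw [map_pow]; exact (hUni u).r_pow n
  have hkpow : ∀ (u : G) (n : ℕ), P.c₃ (K (u ^ n) P.f) = n * P.c₃ (K u P.f) := fun u n => by
    rw [map_pow]; exact (hUni u).k_pow n
  have hψμ : ∀ u, P.c₁ (K (ψ u) P.b) = c * c * c * P.c₁ (K u P.b) := fun u => by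
    rw [hKψ]; exact (hδ.conj_uni hc0 (hUni u)).2.1
  have hψr : ∀ u, P.c₄ (K (ψ u) P.x) = (c * c)⁻¹ * P.c₄ (K u P.x) := fun u => by
    rw [hKψ]; exact (hδ.conj_uni hc0 (hUni u)).2.2.1
  have hψk : ∀ u, P.c₃ (K (ψ u) P.f) = c * P.c₃ (K u P.f) := fun u => by
    rw [hKψ]; exact (hδ.conj_uni hc0 (hUni u)).2.2.2
  have hμg : P.c₁ (K g P.b) ≠ 0 := fun h0 => hg (hfix g h0)
  set g1 := ψ g * g ^ (-c).val with hg1
  have hk1 : P.c₃ (K g1 P.f) = 0 := by
    rw [hg1, hkmul, hψk, hkpow, ZMod.natCast_zmod_val]; ring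
  have hμ1 : P.c₁ (K g1 P.b) ≠ 0 := by
    rw [hg1, hμmul, hψμ, hμpow, ZMod.natCast_zmod_val, ← add_mul]
    refine mul_ne_zero ?_ hμg
    rw [show c * c * c + -c = c * (c ^ 2 - 1) by ring]
    exact mul_ne_zero hc0 (sub_ne_zero.mpr hc2)
  set g2 := ψ g1 * g1 ^ (-(c * c)⁻¹).val with hg2
  have hk2 : P.c₃ (K g2 P.f) = 0 := by
    rw [hg2, hkmul, hψk, hkpow, hk1]; ring
  have hr2 : P.c₄ (K g2 P.x) = 0 := by
    rw [hg2, hrmul, hψr, hrpow, ZMod.natCast_zmod_val]; ring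
  have hμ2 : P.c₁ (K g2 P.b) ≠ 0 := by
    rw [hg2, hμmul, hψμ, hμpow, ZMod.natCast_zmod_val, ← add_mul]
    refine mul_ne_zero (fun h0 => hc5 ?_) hμ1
    field_simp at h0
    linear_combination h0
  -- kill the inner part on `x`
  obtain ⟨bl, hbl⟩ := QuotientGroup.mk_surjective P.b
  have hKR : ∀ (r : R) (q : R ⧸ Φ), K (r : G) q = (r : R ⧸ Φ) * q * (r : R ⧸ Φ)⁻¹ := by
    intro r q
    induction q using QuotientGroup.induction_on with
    | H v =>
      show ((MulAut.conjNormal (r : G) v : R) : R ⧸ Φ) = _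
      rw [show MulAut.conjNormal (r : G) v = r * v * r⁻¹ from Subtype.ext (by simp)]
      rfl
  set n := (P.c₃ (K g2 P.x) / P.s).val
  set h := g2 * ((bl ^ n : R) : G) with hh
  have hbn : ((bl ^ n : R) : R ⧸ Φ) = P.T 0 (P.c₃ (K g2 P.x) / P.s) 0 0 := by
    rw [QuotientGroup.mk_pow, hbl]
    simp [Frame.T, n]
  have hbx : K ((bl ^ n : R) : G) P.x = P.T 1 0 (-P.c₃ (K g2 P.x)) 0 := by
    rw [hKR, hbn, mul_inv_eq_iff_eq_mul, ← P.T_x, P.T_mul, P.T_mul]
    congr 1 <;> field_simp [P.hs] <;> ring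
  have hbf : K ((bl ^ n : R) : G) P.f = P.f := by
    rw [hKR, hbn, mul_inv_eq_iff_eq_mul, ← P.T_f, P.T_mul, P.T_mul]
    congr 1 <;> ring
  have hhx : K h P.x = P.x := by
    have e : K g2 P.x = P.T 1 0 (P.c₃ (K g2 P.x)) 0 := by
      conv_lhs => rw [← P.T_co (K g2 P.x), (hline g2).1, (hline g2).2, hr2]
    rw [hh, map_mul, MulAut.mul_apply, hbx, Frame.T, map_mul, map_mul, map_mul, map_pow, map_pow, map_pow,
      map_pow, (hUni g2).a, e]
    simp only [ZMod.val_zero, pow_zero, mul_one, ZMod.val_one, pow_one, Frame.c₃_T]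
    rw [show P.a ^ (-P.c₃ (K g2 P.x)).val = P.T 0 0 (-P.c₃ (K g2 P.x)) 0 by simp [Frame.T], P.T_mul, ← P.T_x]
    congr 1 <;> ring
  have hhf : K h P.f = P.f := by
    rw [hh, map_mul, MulAut.mul_apply, hbf, (hUni g2).f_eq, hk2, P.T_f]
  have hμh : P.c₁ (K h P.b) ≠ 0 := by
    rw [hh, hμmul, show P.c₁ (K ((bl ^ n : R) : G) P.b) = 0 by
      rw [hKR, P.c₁_conj, ← P.T_b, P.c₁_T], add_zero]
    exact hμ2
  have hfixh : ∀ i k l : ZMod p, K h (P.T i 0 k l) = P.T i 0 k l := by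
    intro i k l
    simp only [Frame.T, map_mul, map_pow, hhx, hhf, (hUni h).a, ZMod.val_zero, pow_zero, map_one, mul_one]
  -- `ψ h ∈ h^m R`
  set m := (c * c * c).val
  set y := ψ h * (h ^ m)⁻¹ with hy
  have hyR : y ∈ R := by
    refine hfix y ?_
    have e := hμmul y (h ^ m)
    rw [hy, inv_mul_cancel_right, hψμ, hμpow, ZMod.natCast_zmod_val] at e
    linear_combination -e
  have hψx : K (ψ h) P.x = P.x := by
    rw [hKψ, MulAut.mul_apply, MulAut.mul_apply, show (qAut Φ δ)⁻¹ P.x =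
      P.T ((c * c)⁻¹) 0 (c⁻¹ * (0 - κ * (c * c)⁻¹)) 0 by rw [← P.T_x, hδ.symm_app hc0]; simp, hfixh,
      hδ.app, ← P.T_x]
    congr 1 <;> field_simp <;> ring
  have hpowx : ∀ n : ℕ, K (h ^ n) P.x = P.x := fun n => by
    induction n with
    | zero => rw [pow_zero, map_one, MulAut.one_apply]
    | succ n ih => rw [pow_succ, map_mul, MulAut.mul_apply, hhx, ih]
  have hxcomm : ∀ r : R, K (r : G) P.x = P.x → P.c₂ (r : R ⧸ Φ) = 0 := fun r hr =>
    P.c₂_eq_zero_of_commute (by rw [hKR, mul_inv_eq_iff_eq_mul] at hr; exact hr)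
  have hyclass : P.c₂ ((⟨y, hyR⟩ : R) : R ⧸ Φ) = 0 := by
    refine hxcomm _ ?_
    show K y P.x = P.x
    rw [hy, map_mul, map_inv, MulAut.mul_apply,
      show (K (h ^ m))⁻¹ P.x = P.x from (MulEquiv.symm_apply_eq _).mpr (hpowx m).symm, hψx]
  have hpR : h ^ p ∈ R := hfix _ (by rw [hμpow, ZMod.natCast_self, zero_mul])
  have hvclass : P.c₂ ((⟨h ^ p, hpR⟩ : R) : R ⧸ Φ) = 0 := hxcomm _ (hpowx p)
  -- pass to `G ⧸ Φ`
  haveI : (Φ.map R.subtype).Normal := ConjAct.normal_of_characteristic_of_normal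
  let π := QuotientGroup.mk' (Φ.map R.subtype)
  let ι : R ⧸ Φ →* G ⧸ Φ.map R.subtype := QuotientGroup.lift Φ (π.comp R.subtype) (fun r hr => by
    rw [MonoidHom.mem_ker]
    exact (QuotientGroup.eq_one_iff _).mpr ⟨r, hr, rfl⟩)
  have hι : ∀ r : R, ι (r : R ⧸ Φ) = π (r : G) := fun r => rfl
  have hιinj : Function.Injective ι := by
    rw [injective_iff_map_eq_one]
    intro q hq
    induction q using QuotientGroup.induction_on with
    | H v =>
      rw [hι] at hq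
      obtain ⟨w, hw, hwe⟩ := (QuotientGroup.eq_one_iff _).mp hq
      exact (QuotientGroup.eq_one_iff _).mpr (Subtype.ext (a1 := w) hwe ▸ hw)
  have hcomm : ∀ i k l : ZMod p, Commute (π h) (ι (P.T i 0 k l)) := by
    intro i k l
    have h1 := hfixh i k l
    obtain ⟨r, hr⟩ := QuotientGroup.mk_surjective (P.T i 0 k l)
    rw [← hr] at h1 ⊢
    have h2 : π ((MulAut.conjNormal h r : R) : G) = π (r : G) := by
      rw [← hι, ← hι]
      exact congrArg ι h1
    rw [MulAut.conjNormal_apply, map_mul, map_mul, map_inv, mul_inv_eq_iff_eq_mul] at h2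
    exact h2
  have hclassT : ∀ q : R ⧸ Φ, P.c₂ q = 0 → q = P.T (P.c₁ q) 0 (P.c₃ q) (P.c₄ q) := fun q hq => by
    conv_lhs => rw [← P.T_co q, hq]
  set v := ((⟨h ^ p, hpR⟩ : R) : R ⧸ Φ)
  set yb := ((⟨y, hyR⟩ : R) : R ⧸ Φ)
  have hv : v = P.T (P.c₁ v) 0 (P.c₃ v) (P.c₄ v) := hclassT v hvclass
  have hyb : Commute (π h) (ι yb) := by rw [hclassT yb hyclass]; exact hcomm _ _ _
  have hDv : qAut Φ δ v = v ^ m := by
    apply hιinj
    calc ι (qAut Φ δ v) = π (ψ (h ^ p)) := by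
          show π ((δ ⟨h ^ p, hpR⟩ : R) : G) = _
          rw [← hψ]
      _ = (ι yb * π h ^ m) ^ p := by
          rw [map_pow, map_pow π, show ι yb = π y from rfl, ← map_pow π h m, ← map_mul, hy, inv_mul_cancel_right]
      _ = ι (v ^ m) := by
          rw [((hyb.pow_left m).symm).mul_pow, ← map_pow ι, P.exp (by omega), map_one, one_mul, map_pow ι,
            show ι v = π (h ^ p) from rfl, map_pow, ← pow_mul, ← pow_mul, mul_comm]
  have hv1 : v = 1 := by
    rw [hv] at hDv ⊢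
    rw [hδ.app, P.T_pow] at hDv
    obtain ⟨e1, -, e3, e4⟩ := P.inj hDv
    simp only [m, ZMod.natCast_zmod_val] at e1 e3 e4
    have h1 : P.c₁ v = 0 := by
      have : c * c * (c - 1) * P.c₁ v = 0 := by linear_combination -e1
      exact (mul_eq_zero.mp this).resolve_left (mul_ne_zero (mul_ne_zero hc0 hc0) (sub_ne_zero.mpr hc1))
    have h4 : P.c₄ v = 0 := by
      have : (c * c * c - 1) * P.c₄ v = 0 := by linear_combination -e4
      exact (mul_eq_zero.mp this).resolve_left fun h0 => hc3 (by linear_combination h0)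
    have h3 : P.c₃ v = 0 := by
      rw [h1] at e3
      have : c * (c ^ 2 - 1) * P.c₃ v = 0 := by linear_combination -e3
      exact (mul_eq_zero.mp this).resolve_left (mul_ne_zero hc0 (sub_ne_zero.mpr hc2))
    rw [h1, h3, h4, P.T_zero]
  have hhp : π h ^ p = 1 := by
    rw [← map_pow, show π (h ^ p) = ι v from rfl, hv1, map_one]
  -- the elementary section
  set S : Set (G ⧸ Φ.map R.subtype) := insert (π h) (ι '' {P.x, P.a, P.f})
  have hScomm : ∀ u ∈ S, ∀ w ∈ S, Commute u w := by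
    have hq : ∀ q ∈ ({P.x, P.a, P.f} : Set (R ⧸ Φ)), ∃ i k l, q = P.T i 0 k l := by
      rintro q (rfl | rfl | rfl)
      · exact ⟨1, 0, 0, P.T_x.symm⟩
      · exact ⟨0, 1, 0, P.T_a.symm⟩
      · exact ⟨0, 0, 1, P.T_f.symm⟩
    have hTT : ∀ i k l i' k' l' : ZMod p, Commute (ι (P.T i 0 k l)) (ι (P.T i' 0 k' l')) := by
      intro i k l i' k' l'
      refine Commute.map ?_ ι
      show _ * _ = _ * _
      rw [P.T_mul, P.T_mul]
      congr 1 <;> ring
    rintro u (rfl | ⟨q, hq', rfl⟩) w (rfl | ⟨q', hq'', rfl⟩)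
    · exact Commute.refl _
    · obtain ⟨i, k, l, rfl⟩ := hq _ hq''; exact hcomm _ _ _
    · obtain ⟨i, k, l, rfl⟩ := hq _ hq'; exact (hcomm _ _ _).symm
    · obtain ⟨i, k, l, rfl⟩ := hq _ hq'
      obtain ⟨i', k', l', rfl⟩ := hq _ hq''
      exact hTT _ _ _ _ _ _
  set H := Subgroup.closure S with hH
  have hexp : ∀ u ∈ H, u ^ p = 1 := by
    intro u hu
    induction hu using Subgroup.closure_induction with
    | mem w hw =>
      rcases hw with rfl | ⟨q, -, rfl⟩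
      · exact hhp
      · rw [← map_pow, P.exp (by omega), map_one]
    | one => exact one_pow p
    | mul a b ha hb iha ihb => rw [(commute_of_closure hScomm ha hb).mul_pow, iha, ihb, one_mul]
    | inv a _ iha => rw [inv_pow, iha, inv_one]
  have hfin := rankThree_quotient (Φ.map R.subtype) hrank H ⊥ bot_le inferInstance
    (fun u hu w hw => Subgroup.mem_bot.mpr
      (commutatorElement_eq_one_iff_commute.mpr (commute_of_closure hScomm hu hw)))
    (fun u hu => Subgroup.mem_bot.mpr (hexp u hu))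
  rw [Subgroup.card_bot, mul_one] at hfin
  have hmem : ∀ (d : ℕ) (i k l : ZMod p), π h ^ d * ι (P.T i 0 k l) ∈ H := by
    intro d i k l
    simp only [Frame.T, ZMod.val_zero, pow_zero, mul_one, map_mul, map_pow]
    exact H.mul_mem (H.pow_mem (Subgroup.subset_closure (by simp [S])) _)
      (H.mul_mem (H.mul_mem (H.pow_mem (Subgroup.subset_closure (by simp [S])) _)
        (H.pow_mem (Subgroup.subset_closure (by simp [S])) _))
        (H.pow_mem (Subgroup.subset_closure (by simp [S])) _))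
  let ω : ZMod p × ZMod p × ZMod p × ZMod p → H := fun z => ⟨_, hmem z.1.val z.2.1 z.2.2.1 z.2.2.2⟩
  have hω : Function.Injective ω := by
    rintro ⟨d, i, k, l⟩ ⟨d', i', k', l'⟩ he
    have he' : π h ^ d.val * ι (P.T i 0 k l) = π h ^ d'.val * ι (P.T i' 0 k' l') := congrArg Subtype.val he
    obtain ⟨r, hr⟩ := QuotientGroup.mk_surjective (P.T i 0 k l)
    obtain ⟨r', hr'⟩ := QuotientGroup.mk_surjective (P.T i' 0 k' l')
    have hd : d = d' := by
      have h1 := he'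
      rw [← hr, ← hr', hι, hι, ← map_pow, ← map_pow, ← map_mul, ← map_mul] at h1
      obtain ⟨w, -, hwe⟩ := QuotientGroup.eq.mp h1
      have hR : ∀ r : R, P.c₁ (K (r : G) P.b) = 0 := fun r => by rw [hKR, P.c₁_conj, ← P.T_b, P.c₁_T]
      have h2 : h ^ d'.val * (r' : G) = h ^ d.val * (r : G) * (w : G) := by
        rw [show (w : G) = _ from hwe, mul_inv_cancel_left]
      have h3 := congrArg (fun z => P.c₁ (K z P.b)) h2
      simp only [hμmul, hμpow, hR, add_zero, ZMod.natCast_zmod_val] at h3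
      exact (mul_right_cancel₀ hμh h3).symm
    subst hd
    obtain ⟨e1, -, e3, e4⟩ := P.inj (hιinj (mul_left_cancel he'))
    subst e1 e3 e4
    rfl
  have hcard := Nat.card_le_card_of_injective ω hω
  simp only [Nat.card_prod, Nat.card_zmod] at hcard
  have : p * (p * (p * p)) = p ^ 4 := by ring
  have := Nat.pow_lt_pow_right hpp.one_lt (show 3 < 4 by norm_num)
  omega

/-- The transvection case: some element of `A` moves the fixed line of `G` to the line of `x`. -/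
theorem transvec_false (hp : 5 ≤ p) (hG : IsPGroup p G) (hrank : RankThree p G) (R : Subgroup G) [R.Normal]
    (Φ : Subgroup R) [Φ.Characteristic] (hΦ : Φ ≤ frattini R) (P : Frame p (R ⧸ Φ))
    (A : Subgroup (MulAut R)) (hconj : ∀ h : G, MulAut.conjNormal h ∈ A)
    (hmax : ∀ U : Subgroup (MulAut R), U ≤ A → (MulAut.conjNormal (H := R)).range ≤ U → IsPGroup p U →
      U ≤ (MulAut.conjNormal (H := R)).range)
    (hext : ∀ α ∈ A, (∀ h : G, α * MulAut.conjNormal h * α⁻¹ ∈ (MulAut.conjNormal (H := R)).range) →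
      ∃ ψ : G →* G, ∀ r : R, ψ r = ((α r : R) : G))
    (c κ : ZMod p) (hc0 : c ≠ 0) (hc1 : c ≠ 1) (hc2 : c ^ 2 ≠ 1) (hc3 : c ^ 3 ≠ 1) (hc5 : c ^ 5 ≠ 1)
    (δ : MulAut R) (hδA : δ ∈ A) (hδ : IsDelta P c κ (qAut Φ δ))
    (hfix : ∀ φ ∈ A, ∀ h : G, P.c₁ (qAut Φ (φ⁻¹ * MulAut.conjNormal h * φ) P.b) = 0 → h ∈ R)
    (g : G) (hg : g ∉ R) : False := by
  classical
  have hpp := (Fact.out : p.Prime)
  let K : G →* MulAut (R ⧸ Φ) := (qAut Φ).comp MulAut.conjNormal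
  have hfix1 : ∀ h, P.c₁ (K h P.b) = 0 → h ∈ R := fun h h0 => hfix 1 A.one_mem h (by simpa [K] using h0)
  -- a fixed vector of the plane
  letI : MulAction G (ZMod p × ZMod p) :=
    { smul := fun u v => (P.c₁ (K u (P.T v.1 v.2 0 0)), P.c₂ (K u (P.T v.1 v.2 0 0)))
      one_smul := fun v => by
        show (P.c₁ (K 1 (P.T v.1 v.2 0 0)), P.c₂ (K 1 (P.T v.1 v.2 0 0))) = v
        simp
      mul_smul := fun u w v => by
        show (P.c₁ (K (u * w) (P.T v.1 v.2 0 0)), P.c₂ (K (u * w) (P.T v.1 v.2 0 0))) =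
          (P.c₁ (K u (P.T (P.c₁ (K w (P.T v.1 v.2 0 0))) (P.c₂ (K w (P.T v.1 v.2 0 0))) 0 0)),
            P.c₂ (K u (P.T (P.c₁ (K w (P.T v.1 v.2 0 0))) (P.c₂ (K w (P.T v.1 v.2 0 0))) 0 0)))
        rw [map_mul, MulAut.mul_apply]
        have h := P.plane_congr (K u) (q := K w (P.T v.1 v.2 0 0))
          (q' := P.T (P.c₁ (K w (P.T v.1 v.2 0 0))) (P.c₂ (K w (P.T v.1 v.2 0 0))) 0 0)
          (P.c₁_T _ _ _ _).symm (P.c₂_T _ _ _ _).symm
        rw [h.1, h.2] }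
  obtain ⟨i₀, j₀, hne, hfixv⟩ : ∃ i j : ZMod p, ¬(i = 0 ∧ j = 0) ∧ ∀ u : G,
      P.c₁ (K u (P.T i j 0 0)) = i ∧ P.c₂ (K u (P.T i j 0 0)) = j := by
    have hmod := hG.card_modEq_card_fixedPoints (ZMod p × ZMod p)
    rw [Nat.card_prod, Nat.card_zmod] at hmod
    have hdvd : p ∣ Nat.card (MulAction.fixedPoints G (ZMod p × ZMod p)) :=
      Nat.modEq_zero_iff_dvd.mp (hmod.symm.trans (Nat.modEq_zero_iff_dvd.mpr (dvd_mul_right p p)))
    have h0 : ((0, 0) : ZMod p × ZMod p) ∈ MulAction.fixedPoints G (ZMod p × ZMod p) := fun u => by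
      show (P.c₁ (K u (P.T 0 0 0 0)), P.c₂ (K u (P.T 0 0 0 0))) = _
      rw [(P.plane _ _).1, (P.plane _ _).2.1]
      simp
    haveI : Nonempty (MulAction.fixedPoints G (ZMod p × ZMod p)) := ⟨⟨_, h0⟩⟩
    have hlt : 1 < Nat.card (MulAction.fixedPoints G (ZMod p × ZMod p)) :=
      lt_of_lt_of_le hpp.one_lt (Nat.le_of_dvd Nat.card_pos hdvd)
    haveI := Finite.one_lt_card_iff_nontrivial.mp hlt
    obtain ⟨⟨⟨i, j⟩, hv⟩, hv0⟩ := exists_ne (⟨_, h0⟩ : MulAction.fixedPoints G (ZMod p × ZMod p))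
    refine ⟨i, j, fun hij => hv0 (Subtype.ext (Prod.ext hij.1 hij.2)), fun u => ?_⟩
    exact ⟨congrArg Prod.fst (hv u), congrArg Prod.snd (hv u)⟩
  have hμ : P.c₁ (K g P.b) ≠ 0 := fun h0 => hg (hfix1 g h0)
  have hi₀ : i₀ ≠ 0 := fun h0 => by
    have h1 := (hfixv g).1
    rw [(P.plane _ _).1, Frame.c₁_T, Frame.c₂_T, h0, zero_mul, zero_add] at h1
    exact hne ⟨h0, (mul_eq_zero.mp h1).resolve_right hμ⟩
  set t₀ := j₀ / i₀
  have hline : ∀ u : G, P.c₁ (K u P.x) + t₀ * P.c₁ (K u P.b) = 1 ∧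
      P.c₂ (K u P.x) + t₀ * P.c₂ (K u P.b) = t₀ := by
    intro u
    obtain ⟨h1, h2⟩ := hfixv u
    rw [(P.plane _ _).1, Frame.c₁_T, Frame.c₂_T] at h1
    rw [(P.plane _ _).2.1, Frame.c₁_T, Frame.c₂_T] at h2
    constructor
    · simp only [t₀]; field_simp; linear_combination h1
    · simp only [t₀]; field_simp; linear_combination h2
  obtain ⟨φ, hφA, ht, ht'⟩ : ∃ φ ∈ A, P.c₁ (qAut Φ φ P.x) ≠ 0 ∧
      P.c₂ (qAut Φ φ P.x) = t₀ * P.c₁ (qAut Φ φ P.x) := by
    rcases eq_or_ne t₀ 0 with h0 | h0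
    · refine ⟨1, A.one_mem, ?_, ?_⟩ <;> rw [map_one, MulAut.one_apply, ← P.T_x] <;> simp [h0]
    set α := K g
    set μ := P.c₁ (α P.b)
    obtain ⟨e1, e2⟩ := hline g
    -- the determinant is one
    have hdet : P.c₁ (α P.x) * P.c₂ (α P.b) - μ * P.c₂ (α P.x) = 1 := by
      obtain ⟨m, hm⟩ := hG g
      set e := P.c₁ (α P.x) * P.c₂ (α P.b) - μ * P.c₂ (α P.x)
      have hpow : ∀ n : ℕ, (α ^ n) P.a = P.T 0 0 (e ^ n) 0 := fun n => by
        induction n with
        | zero => simp [P.T_a]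
        | succ n ih =>
          rw [pow_succ', MulAut.mul_apply, ih,
            show P.T 0 0 (e ^ n) 0 = P.a ^ (e ^ n).val by simp [Frame.T], map_pow, P.map_a α, P.T_pow,
            ZMod.natCast_zmod_val]
          congr 1 <;> ring
      have h1 := hpow (p ^ m)
      rw [← map_pow, hm, map_one, MulAut.one_apply, ZMod.pow_card_pow, ← P.T_a] at h1
      exact (P.inj h1).2.2.1.symm
    have eA11 : P.c₁ (α P.x) = 1 - t₀ * μ := by linear_combination e1
    have eA22 : P.c₂ (α P.b) = 1 + t₀ * μ := by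
      rw [eA11] at hdet
      linear_combination hdet + μ * e2
    have eA21 : P.c₂ (α P.x) = -(t₀ * t₀ * μ) := by
      rw [eA22] at e2
      linear_combination e2
    set D := qAut Φ δ
    set γ := δ * MulAut.conjNormal g * δ⁻¹
    have hγA : γ ∈ A := A.mul_mem (A.mul_mem hδA (hconj g)) (A.inv_mem hδA)
    have hγ : ∀ q, qAut Φ γ q = D (α (D⁻¹ q)) := fun q => by
      simp only [γ, map_mul, map_inv]
      rfl
    set t₁ := t₀ / (c * c * c) with ht₁
    have hγx : P.c₁ (qAut Φ γ P.x) = 1 - t₀ * μ ∧ P.c₂ (qAut Φ γ P.x) = -(t₀ * t₁ * μ) := by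
      rw [hγ, (hδ.coords _).1, (hδ.coords _).2.1, (P.plane α _).1, (P.plane α _).2.1, ← P.T_x, hδ.symm_app hc0,
        Frame.c₁_T, Frame.c₂_T, P.T_x, eA11, eA21]
      refine ⟨?_, ?_⟩ <;> (try simp only [t₁]) <;> field_simp <;> ring
    have hγb : P.c₁ (qAut Φ γ P.b) = c * c * c * μ ∧ P.c₂ (qAut Φ γ P.b) = 1 + t₀ * μ := by
      rw [hγ, (hδ.coords _).1, (hδ.coords _).2.1, (P.plane α _).1, (P.plane α _).2.1, ← P.T_b, hδ.symm_app hc0,
        Frame.c₁_T, Frame.c₂_T, P.T_b, eA22]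
      refine ⟨?_, ?_⟩ <;> field_simp <;> ring
    have hn : ∀ n : ℕ, P.c₁ ((qAut Φ γ ^ n) P.x) = 1 - n * (t₀ * μ) ∧
        P.c₂ ((qAut Φ γ ^ n) P.x) = -(n * (t₀ * t₁ * μ)) := fun n => by
      induction n with
      | zero => rw [pow_zero, MulAut.one_apply, ← P.T_x]; simp
      | succ n ih =>
        rw [pow_succ', MulAut.mul_apply, (P.plane (qAut Φ γ) ((qAut Φ γ ^ n) P.x)).1,
          (P.plane (qAut Φ γ) ((qAut Φ γ ^ n) P.x)).2.1, ih.1, ih.2, hγx.1, hγx.2, hγb.1, hγb.2]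
        simp only [t₁]
        refine ⟨?_, ?_⟩ <;> push_cast <;> field_simp <;> ring
    have hdiff : t₀ - t₁ ≠ 0 := fun h' => hc3 (by
      simp only [t₁] at h'
      rw [sub_eq_zero, eq_div_iff (mul_ne_zero (mul_ne_zero hc0 hc0) hc0)] at h'
      have h3 : t₀ * (c ^ 3 - 1) = 0 := by linear_combination h'
      exact sub_eq_zero.mp ((mul_eq_zero.mp h3).resolve_left h0))
    refine ⟨γ ^ (1 / (μ * (t₀ - t₁))).val, A.pow_mem hγA _, ?_, ?_⟩
    · rw [map_pow, (hn _).1, ZMod.natCast_zmod_val]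
      intro h'
      field_simp at h'
      have : t₁ = 0 := by linear_combination -h'
      simp [t₁, h0, hc0] at this
    · rw [map_pow, (hn _).1, (hn _).2, ZMod.natCast_zmod_val]
      field_simp
      ring
  set Φq := qAut Φ φ
  refine transvec_core hp hG hrank R Φ hΦ (P.map Φq) A hconj hmax hext c κ hc0 hc1 hc2 hc3 hc5
    (φ * δ * φ⁻¹) (A.mul_mem (A.mul_mem hφA hδA) (A.inv_mem hφA)) ⟨fun i j k l => ?_⟩ (fun u => ?_)
    (fun u h0 => hfix φ hφA u ?_) g hg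
  · rw [P.map_T, P.map_T, map_mul, map_mul, map_inv]
    show Φq (qAut Φ δ (Φq⁻¹ (Φq _))) = _
    rw [MulAut.inv_apply_self, hδ.app]
  · show (P.map Φq).c₁ (K u (Φq P.x)) = 1 ∧ (P.map Φq).c₂ (K u (Φq P.x)) = 0
    rw [← MulAut.apply_inv_self _ Φq (K u (Φq P.x)), (P.map_co _ _).1, (P.map_co _ _).2]
    obtain ⟨h1, h2⟩ := hline u
    have ea : P.c₁ (K u (Φq P.x)) = P.c₁ (Φq P.x) := by
      rw [(P.plane _ _).1, ht']; linear_combination P.c₁ (Φq P.x) * h1
    have eb : P.c₂ (K u (Φq P.x)) = P.c₂ (Φq P.x) := by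
      rw [(P.plane _ _).2.1, ht']; linear_combination P.c₁ (Φq P.x) * h2
    have e1 := (P.plane Φq⁻¹ (K u (Φq P.x))).1
    have e2 := (P.plane Φq⁻¹ (K u (Φq P.x))).2.1
    rw [ea, eb, ← (P.plane Φq⁻¹ (Φq P.x)).1, MulAut.inv_apply_self, ← P.T_x, Frame.c₁_T, P.T_x] at e1
    rw [ea, eb, ← (P.plane Φq⁻¹ (Φq P.x)).2.1, MulAut.inv_apply_self, ← P.T_x, Frame.c₂_T, P.T_x] at e2
    exact ⟨e1, e2⟩
  · change (P.map Φq).c₁ (K u (Φq P.b)) = 0 at h0
    rw [← MulAut.apply_inv_self _ Φq (K u (Φq P.b)), (P.map_co _ _).1] at h0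
    rw [map_mul, map_mul, map_inv]
    exact h0

end Cfsg.Agent.LocalEvenD.RTE
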