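import Cfsg.Agent.LocalEvenD.RankThreeEss.GL3Cases
import Cfsg.Agent.LocalEvenD.RankThreeEss.Regular
import Cfsg.Agent.LocalEvenD.RankThreeEss.Transvec
import Cfsg.Agent.Lib.Fusion.Alperin

/-!
# Essential subgroups with three generators in a system of sectional rank three
-/

set_option autoImplicit false
set_option linter.style.haveILetI false

namespace Cfsg.Agent.LocalEvenD.RTE

open scoped commutatorElement
open Cfsg.Agent
open Cfsg.FusionSystem (normalizerIn centralizerIn)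

section Generic

variable {p : ℕ} [Fact p.Prime]

lemma frattini_map_le_equiv {A B : Type*} [Group A] [Group B] [Finite A] (hA : IsPGroup p A) (e : A ≃* B) :
    (frattini A).map e.toMonoidHom ≤ frattini B := by
  haveI : Finite B := Finite.of_equiv A e.toEquiv
  have hB : IsPGroup p B := hA.of_equiv e
  rw [Subgroup.map_le_iff_le_comap]
  exact PGroup.frattini_le_of_quotient (p := p)
    ((Subgroup.commutator_le.mpr fun a _ b _ => by
      show e ⁅a, b⁆ ∈ frattini B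
      rw [map_commutatorElement]; exact PGroup.comm_mem_frattini hB _ _))
    (fun a => by
      show e (a ^ p) ∈ frattini B
      rw [map_pow]; exact PGroup.pow_mem_frattini hB _)

lemma apply_mem_frattini_iff {A B : Type*} [Group A] [Group B] [Finite A] (hA : IsPGroup p A) (e : A ≃* B)
    {a : A} : e a ∈ frattini B ↔ a ∈ frattini A := by
  haveI : Finite B := Finite.of_equiv A e.toEquiv
  refine ⟨fun h => ?_, fun h => frattini_map_le_equiv hA e ⟨a, h, rfl⟩⟩
  have := frattini_map_le_equiv (hA.of_equiv e) e.symm ⟨_, h, rfl⟩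
  simpa using this

lemma frattini_index_equiv {A B : Type*} [Group A] [Group B] [Finite A] (hA : IsPGroup p A) (e : A ≃* B) :
    (frattini A).index = (frattini B).index := by
  have h : (frattini B).comap e.toMonoidHom = frattini A := by
    ext a; exact apply_mem_frattini_iff hA e
  rw [← h, Subgroup.index_comap_of_surjective _ e.surjective]

/-- Transport of a frame along an isomorphism. -/
def Frame.mapEquiv {Q Q' : Type*} [Group Q] [Group Q'] (P : Frame p Q) (φ : Q ≃* Q') : Frame p Q' where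
  x := φ P.x
  b := φ P.b
  a := φ P.a
  f := φ P.f
  s := P.s
  hs := P.hs
  hxp := by rw [← map_pow, P.hxp, map_one]
  hbp := by rw [← map_pow, P.hbp, map_one]
  hap := by rw [← map_pow, P.hap, map_one]
  hfp := by rw [← map_pow, P.hfp, map_one]
  hxa := P.hxa.map φ
  hxf := P.hxf.map φ
  hba := P.hba.map φ
  hbf := P.hbf.map φ
  haf := P.haf.map φ
  hxb := by rw [← map_pow, ← map_mul, ← map_mul, ← map_mul, P.hxb]
  gen := fun q => by
    obtain ⟨i, j, k, l, h⟩ := P.gen (φ.symm q)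
    exact ⟨i, j, k, l, by rw [← map_pow, ← map_pow, ← map_pow, ← map_pow, ← map_mul, ← map_mul, ← map_mul,
      ← h, MulEquiv.apply_symm_apply]⟩
  card := by rw [← Nat.card_congr φ.toEquiv]; exact P.card

lemma Frame.mapEquiv_T {Q Q' : Type*} [Group Q] [Group Q'] (P : Frame p Q) (φ : Q ≃* Q')
    (i j k l : ZMod p) : (P.mapEquiv φ).T i j k l = φ (P.T i j k l) := by
  simp [Frame.T, Frame.mapEquiv]

lemma Frame.mapEquiv_c₁ {Q Q' : Type*} [Group Q] [Group Q'] (P : Frame p Q) (φ : Q ≃* Q') (q : Q) :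
    (P.mapEquiv φ).c₁ (φ q) = P.c₁ q := by
  conv_lhs => rw [← P.T_co q, ← P.mapEquiv_T, Frame.c₁_T]

/-- A primitive root has no small power equal to one. -/
lemma exists_weight (hp : 5 ≤ p) :
    ∃ c : ZMod p, c ≠ 0 ∧ c ≠ 1 ∧ c ^ 2 ≠ 1 ∧ c ^ 3 ≠ 1 ∧ c ^ 5 ≠ 1 := by
  obtain ⟨g, hg⟩ := IsCyclic.exists_ofOrder_eq_natCard (α := (ZMod p)ˣ)
  have hcard : Nat.card (ZMod p)ˣ = p - 1 := by
    rw [Nat.card_eq_fintype_card, ZMod.card_units p]
  rw [hcard] at hg
  have key : ∀ n : ℕ, (g : ZMod p) ^ n = 1 → p - 1 ∣ n := fun n hn => by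
    rw [← hg]
    exact orderOf_dvd_of_pow_eq_one (Units.ext (by simpa using hn))
  have hp6 : p ≠ 6 := fun h => absurd (h ▸ (Fact.out : p.Prime)) (by decide)
  refine ⟨g, g.ne_zero, fun h => ?_, fun h => ?_, fun h => ?_, fun h => ?_⟩
  · have := Nat.le_of_dvd one_pos (key 1 (by rw [pow_one]; exact h)); omega
  · have := Nat.le_of_dvd two_pos (key 2 h); omega
  · have := Nat.le_of_dvd three_pos (key 3 h); omega
  · rcases (Nat.dvd_prime (by norm_num : Nat.Prime 5)).mp (key 5 h) with h' | h' <;> omega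

end Generic

variable {Ω : Type*} [Group Ω] {S : Subgroup Ω} [Finite S] {p : ℕ} [Fact p.Prime] {F : Cfsg.FusionSystem S}

lemma rankThree_of_le (hsr : Cfsg.SectionalPRankLE p 3 S) {K : Subgroup Ω} (hK : K ≤ S) : RankThree p K :=
  rankThree_of_injective hsr (Subgroup.inclusion hK) (Subgroup.inclusion_injective hK)

lemma rankThree_subgroupOf (hsr : Cfsg.SectionalPRankLE p 3 S) {K M : Subgroup Ω} (hM : M ≤ S) :
    RankThree p (K.subgroupOf M) :=
  rankThree_of_injective hsr ((Subgroup.inclusion hM).comp (K.subgroupOf M).subtype)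
    ((Subgroup.inclusion_injective hM).comp Subtype.val_injective)

/-- An element of `N_S(E)` inducing an inner automorphism of a centric `E` lies in `E`. -/
lemma mem_of_conj_inn {E : Subgroup Ω} (hc : F.IsCentric E) (g : normalizerIn S E)
    (h : Fusion.conjAutHom S E g ∈ Cfsg.Inn E) : (g : Ω) ∈ E := by
  obtain ⟨a, ha, hax⟩ := Fusion.mem_inn.mp h
  have hcent : a⁻¹ * (g : Ω) ∈ centralizerIn S E := by
    refine ⟨S.mul_mem (S.inv_mem (hc.1 ha)) g.2.1, Subgroup.mem_centralizer_iff.mpr fun x hx => ?_⟩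
    have h : (g : Ω) * x * (g : Ω)⁻¹ = a * x * a⁻¹ := hax ⟨x, hx⟩
    calc x * (a⁻¹ * g) = a⁻¹ * (a * x * a⁻¹) * g := by group
      _ = a⁻¹ * ((g : Ω) * x * (g : Ω)⁻¹) * g := by rw [h]
      _ = a⁻¹ * g * x := by group
  have := E.mul_mem ha (hc.2 E (Fusion.isConj_refl hc.1) hcent)
  rwa [mul_inv_cancel_left] at this

/-- Membership in the Frattini subgroup of `E` seen inside a larger subgroup. -/
lemma mem_frattini_subgroupOf (hS : IsPGroup p S) {E N : Subgroup Ω} (hEN : E ≤ N) (hN : N ≤ S) (q : N) :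
    q ∈ (frattini (E.subgroupOf N)).map (E.subgroupOf N).subtype ↔
      ∃ h : (q : Ω) ∈ E, (⟨q, h⟩ : E) ∈ frattini E := by
  haveI := Fusion.finite_of_le hN
  have hp : IsPGroup p (E.subgroupOf N) := (hS.to_le hN).to_subgroup _
  constructor
  · rintro ⟨u, hu, rfl⟩
    exact ⟨u.2, (apply_mem_frattini_iff hp (Subgroup.subgroupOfEquivOfLe hEN)).mpr hu⟩
  · rintro ⟨h, hq⟩
    exact ⟨⟨q, h⟩, (apply_mem_frattini_iff hp (Subgroup.subgroupOfEquivOfLe hEN)).mp hq, rfl⟩

/-- The transvection case after finding the frame on `N = N_S(E)`. -/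
theorem transport_false (hp : 5 ≤ p) (hS : IsPGroup p S) (hsr : Cfsg.SectionalPRankLE p 3 S)
    (hF : F.IsSaturated p) {E : Subgroup Ω} (hEn : F.IsFullyNormalized E) (hlt : normalizerIn S E < S)
    (Φ : Subgroup (normalizerIn S E)) [Φ.Normal] (P : Frame p (normalizerIn S E ⧸ Φ)) (κ c : ZMod p)
    (hc0 : c ≠ 0) (hc1 : c ≠ 1) (hc2 : c ^ 2 ≠ 1) (hc3 : c ^ 3 ≠ 1) (hc5 : c ^ 5 ≠ 1)
    (hΦ : Φ ≤ frattini (normalizerIn S E)) (hchar : ∀ φ : MulAut (normalizerIn S E), ∀ q ∈ Φ, φ q ∈ Φ)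
    (hE : ∀ q : normalizerIn S E, (q : Ω) ∈ E ↔ P.c₁ (q : normalizerIn S E ⧸ Φ) = 0)
    (δ : MulAut (normalizerIn S E)) (hδF : δ ∈ F.autGroup (normalizerIn S E))
    (hδ : ∀ q : normalizerIn S E, ∀ i j k l : ZMod p, (q : normalizerIn S E ⧸ Φ) = P.T i j k l →
      ((δ q : normalizerIn S E) : normalizerIn S E ⧸ Φ) = P.T (c * c * i) (c⁻¹ * j) (κ * i + c * k) l) :
    False := by
  classical
  have hNS : (normalizerIn S E) ≤ S := Fusion.normalizerIn_le S E
  obtain ⟨R, hNR, hRa, hRr⟩ := hF (normalizerIn S E) hNS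
  obtain ⟨f, hfmap, hfiso, -⟩ := Fusion.exists_normalizer_map hS hRa hRr hNR
  have hfi := hfiso
  have hRS := hRa.1
  set M := normalizerIn S R with hMdef
  have hMS : M ≤ S := Fusion.normalizerIn_le S R
  haveI := Fusion.finite_of_le hMS
  haveI := Fusion.finite_of_le hRS
  haveI := Fusion.finite_of_le hNS
  have hRM : R ≤ M := Fusion.le_normalizerIn hRS
  have hRlt : R < S := lt_of_le_of_ne hRS fun h => hlt.ne (Subgroup.eq_of_le_of_card_ge hNS
    (by rw [Fusion.isConj_card hNR, h]))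
  set R' := R.subgroupOf M
  haveI hR'n : R'.Normal := ⟨fun u hu g => by
    rw [Subgroup.mem_subgroupOf]
    exact Fusion.conj_mem_of_mem_normalizer g.2.2 hu⟩
  let j : R' ≃* R := Subgroup.subgroupOfEquivOfLe hRM
  let e : (normalizerIn S E) ≃* R' := hfi.equiv.trans j.symm
  have he : ∀ q : (normalizerIn S E), ((e q : M) : Ω) = f q := fun q => by
    show ((j.symm (hfi.equiv q) : M) : Ω) = _
    rw [← hfi.equiv_apply]
    rfl
  set Φ' := Φ.map e.toMonoidHom with hΦ'
  haveI hch : Φ'.Characteristic := by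
    refine Subgroup.characteristic_iff_map_le.mpr fun φ => ?_
    rintro _ ⟨_, ⟨q, hq, rfl⟩, rfl⟩
    refine ⟨(e.trans φ).trans e.symm q, hchar _ q hq, ?_⟩
    simp
  have hR'p : IsPGroup p R' := (hS.to_le hMS).to_subgroup _
  have hΦ'f : Φ' ≤ frattini R' :=
    (Subgroup.map_mono hΦ).trans (frattini_map_le_equiv (hS.to_le hNS) e)
  let eq : (normalizerIn S E) ⧸ Φ ≃* R' ⧸ Φ' := QuotientGroup.congr Φ Φ' e rfl
  have heq : ∀ q : (normalizerIn S E), eq (q : (normalizerIn S E) ⧸ Φ) = ((e q : R') : R' ⧸ Φ') := fun q => rfl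
  set P' := P.mapEquiv eq
  have hE' : ∀ q : (normalizerIn S E), P'.c₁ ((e q : R') : R' ⧸ Φ') = 0 ↔ (q : Ω) ∈ E := fun q => by
    rw [hE, ← heq, P.mapEquiv_c₁]
  set δ' : MulAut R' := MulAut.congr e δ
  have hδ' : IsDelta P' c κ (qAut Φ' δ') := ⟨fun i jj k l => by
    obtain ⟨q, hq⟩ := QuotientGroup.mk_surjective (P.T i jj k l)
    rw [P.mapEquiv_T, P.mapEquiv_T, ← hq, heq, qAut_mk, show δ' (e q) = e (δ q) by simp [δ'], ← heq,
      hδ q i jj k l hq]⟩
  -- the automorphisms of `R` in the system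
  let A : Subgroup (MulAut R') := (F.autGroup R).comap (MulAut.congr j).toMonoidHom
  have hA : ∀ α : MulAut R', α ∈ A ↔ MulAut.congr j α ∈ F.autGroup R := fun α => Iff.rfl
  have hcj : ∀ h : M, MulAut.congr j (MulAut.conjNormal h : MulAut R') = Fusion.conjAutHom S R h := fun h =>
    MulEquiv.ext fun r => Subtype.ext rfl
  have hconj : ∀ h : M, (MulAut.conjNormal h : MulAut R') ∈ A := fun h => by
    rw [hA, hcj]
    refine Fusion.autInducedBy_le_autGroup hRS ?_
    rw [← Fusion.range_conjAutHom]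
    exact ⟨h, rfl⟩
  have hrange : ∀ α : MulAut R', α ∈ (MulAut.conjNormal (H := R')).range ↔
      MulAut.congr j α ∈ Cfsg.autInducedBy S R := fun α => by
    rw [← Fusion.range_conjAutHom]
    constructor
    · rintro ⟨h, rfl⟩; exact ⟨h, (hcj h).symm⟩
    · rintro ⟨h, hh⟩; exact ⟨h, (MulAut.congr j).injective ((hcj h).trans hh)⟩
  have hmax : ∀ U : Subgroup (MulAut R'), U ≤ A → (MulAut.conjNormal (H := R')).range ≤ U → IsPGroup p U →
      U ≤ (MulAut.conjNormal (H := R')).range := by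
    intro U hUA hrU hU
    obtain ⟨T, hT⟩ := hRa.2
    haveI := Fusion.finite_mulAut R
    let U' : Subgroup (F.autGroup R) := (U.map (MulAut.congr j).toMonoidHom).subgroupOf (F.autGroup R)
    have hU' : IsPGroup p U' := (hU.map _).comap_of_injective _ (Subgroup.subtype_injective _)
    have hTU : (T : Subgroup (F.autGroup R)) ≤ U' := by
      rw [hT]
      intro γ hγ
      refine ⟨(MulAut.congr j).symm γ, hrU ((hrange _).mpr ?_), MulEquiv.apply_symm_apply _ _⟩
      rw [MulEquiv.apply_symm_apply]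
      exact hγ
    have heq' := T.is_maximal' hU' hTU
    intro α hα
    have h1 : (⟨MulAut.congr j α, hUA hα⟩ : F.autGroup R) ∈ U' := ⟨α, hα, rfl⟩
    rw [heq', hT] at h1
    exact (hrange α).mpr h1
  have hext : ∀ α ∈ A, (∀ h : M, α * MulAut.conjNormal h * α⁻¹ ∈ (MulAut.conjNormal (H := R')).range) →
      ∃ ψ : M →* M, ∀ r : R', ψ r = ((α r : R') : M) := by
    intro α hα hnorm
    set β := MulAut.congr j α
    have hiso := (Fusion.mem_autGroup hRS).mp hα
    have hM : Fusion.IsExtendable S R (Fusion.autFun β) M := by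
      refine ⟨hMS, fun g hg => ⟨hg.2, ?_⟩⟩
      have h1 := (hrange _).mp (hnorm ⟨g, hg⟩)
      rw [map_mul, map_mul, map_inv, hcj] at h1
      obtain ⟨h, hh, hhx⟩ := Fusion.mem_autInducedBy.mp h1
      refine ⟨h, hh, fun r hr => ?_⟩
      have := hhx (β ⟨r, hr⟩)
      rw [MulAut.mul_apply, MulAut.mul_apply, MulAut.inv_apply_self] at this
      rw [Fusion.autFun_of_mem _ (Fusion.conj_mem_of_mem_normalizer hg.2 hr), Fusion.autFun_of_mem _ hr]
      exact this
    obtain ⟨f', hf', he'⟩ := Fusion.receptive_extend hRr hiso hM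
    have him : f' '' (R : Set Ω) = (R : Set Ω) := (Set.image_congr he').trans hiso.2
    have hmem : ∀ g ∈ M, f' g ∈ M := fun g hg =>
      Fusion.map_mem_normalizer hf' le_sup_left him (le_sup_right (a := R) hg) hg.2
    refine ⟨MonoidHom.mk' (fun g : M => (⟨f' g, hmem g g.2⟩ : M)) fun u v => Subtype.ext
      (hf'.map_mul (le_sup_right (a := R) u.2) (le_sup_right (a := R) v.2)), fun r => Subtype.ext ?_⟩
    show f' ((r : M) : Ω) = _
    have h1 : f' ((r : M) : Ω) = Fusion.autFun β ((r : M) : Ω) := he' r.2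
    exact h1.trans (Fusion.autFun_of_mem β (show ((r : M) : Ω) ∈ R from r.2))
  have hδA : δ' ∈ A := by
    rw [hA, ← Fusion.autGroup_map_congr hfi]
    refine ⟨δ, hδF, MulEquiv.ext fun r => Subtype.ext ?_⟩
    simp [δ', e]
  -- the fusion-theoretic input
  have hfix : ∀ φ ∈ A, ∀ h : M, P'.c₁ (qAut Φ' (φ⁻¹ * MulAut.conjNormal h * φ) P'.b) = 0 → h ∈ R' := by
    intro φ hφ h h0
    set β := φ⁻¹ * MulAut.conjNormal h * φ with hβ
    set E₀ := E.subgroupOf (normalizerIn S E) with hE₀def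
    haveI : E₀.Normal := ⟨fun u hu g => by
      rw [Subgroup.mem_subgroupOf]
      exact Fusion.conj_mem_of_mem_normalizer g.2.2 hu⟩
    haveI hE1n : (E₀.map e.toMonoidHom).Normal := ‹E₀.Normal›.map _ e.surjective
    set W := (E₀.map e.toMonoidHom).map φ.toMonoidHom
    haveI hWn : W.Normal := hE1n.map _ φ.surjective
    set E' := W.map (M.subtype.comp R'.subtype) with hE'def
    have hconjE : F.IsConj E E' := by
      have hEN : E ≤ (normalizerIn S E) := Fusion.le_normalizerIn hEn.1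
      have hiso := (Fusion.mem_autGroup hRS).mp hφ
      have hmap : Fusion.IsMap F (normalizerIn S E) (Fusion.autFun (MulAut.congr j φ) ∘ f) := hfi.comp_map hiso.1
      have happ : ∀ (q : Ω) (hq : q ∈ E), (Fusion.autFun (MulAut.congr j φ) ∘ f) q =
          ((φ (e ⟨q, hEN hq⟩) : M) : Ω) := by
        intro q hq
        rw [Function.comp_apply, Fusion.autFun_of_mem _ (hfi.mem (hEN hq))]
        have hee : j.symm ⟨f q, hfi.mem (hEN hq)⟩ = e ⟨q, hEN hq⟩ := Subtype.ext (Subtype.ext (by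
          rw [he]; rfl))
        rw [← hee]
        rfl
      refine Fusion.isConj_iff.mpr ⟨_, hmap.mono hEN, Set.ext fun y => ?_⟩
      constructor
      · rintro ⟨q, hq, rfl⟩
        exact ⟨φ (e ⟨q, hEN hq⟩), ⟨_, ⟨⟨q, hEN hq⟩, hq, rfl⟩, rfl⟩, (happ q hq).symm⟩
      · rintro ⟨_, ⟨_, ⟨q, hq, rfl⟩, rfl⟩, rfl⟩
        exact ⟨q, hq, happ q hq⟩
    have hE'R : E' ≤ R := by
      rintro _ ⟨w, -, rfl⟩
      exact w.2
    have hsub : R ≤ normalizerIn S E' := by
      intro r hr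
      refine ⟨hRS hr, Subgroup.mem_normalizer_iff.mpr fun y => ⟨?_, ?_⟩⟩
      · rintro ⟨w, hw, rfl⟩
        exact ⟨⟨⟨r, hRM hr⟩, hr⟩ * w * ⟨⟨r, hRM hr⟩, hr⟩⁻¹, hWn.conj_mem w hw _, rfl⟩
      · rintro ⟨w, hw, hwy⟩
        refine ⟨⟨⟨r, hRM hr⟩, hr⟩⁻¹ * w * ⟨⟨r, hRM hr⟩, hr⟩⁻¹⁻¹, hWn.conj_mem w hw _, ?_⟩
        have hwy' : ((w : M) : Ω) = r * y * r⁻¹ := hwy
        show r⁻¹ * ((w : M) : Ω) * r⁻¹⁻¹ = y
        rw [hwy']; group
    haveI := Fusion.finite_of_le (Fusion.normalizerIn_le S E')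
    have hNR' : normalizerIn S E' = R := (Subgroup.eq_of_le_of_card_ge hsub (by
      calc Nat.card (normalizerIn S E') ≤ Nat.card (normalizerIn S E) := hEn.2 E' hconjE
        _ = Nat.card R := Fusion.isConj_card hNR)).symm
    have hβW : ∀ w ∈ E₀.map e.toMonoidHom, β w ∈ E₀.map e.toMonoidHom := by
      rintro _ ⟨q, hq, rfl⟩
      obtain ⟨q', hq'⟩ := e.surjective (β (e q))
      refine ⟨q', ?_, hq'⟩
      rw [SetLike.mem_coe, Subgroup.mem_subgroupOf, ← hE' q', hq', ← qAut_mk, (P'.plane _ _).1,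
        (hE' q).mpr (Subgroup.mem_subgroupOf.mp hq), h0]
      ring
    have hle : ∀ y ∈ E', (h : Ω) * y * (h : Ω)⁻¹ ∈ E' := by
      rintro _ ⟨_, ⟨w, hw, rfl⟩, rfl⟩
      refine ⟨φ (β w), ⟨β w, hβW w hw, rfl⟩, ?_⟩
      rw [hβ]
      simp [MulAut.mul_apply]
    have hh : (h : Ω) ∈ normalizerIn S E' := by
      refine ⟨h.2.1, Subgroup.mem_normalizer_iff.mpr fun y => ⟨hle y, fun hy => ?_⟩⟩
      haveI := Fusion.finite_of_le (hE'R.trans hRS)
      have hinj : Function.Injective fun z : E' => (⟨_, hle z z.2⟩ : E') := fun u v huv =>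
        Subtype.ext (mul_left_cancel (mul_right_cancel (congrArg Subtype.val huv)))
      obtain ⟨⟨z, hz⟩, hzy⟩ := (Finite.injective_iff_surjective.mp hinj) ⟨_, hy⟩
      rwa [← mul_left_cancel (mul_right_cancel (congrArg Subtype.val hzy))]
    rw [hNR'] at hh
    exact hh
  obtain ⟨g, hg, hgR⟩ := SetLike.exists_of_lt (Fusion.lt_normalizerIn hS hRlt)
  exact transvec_false hp (hS.to_le hMS) (rankThree_of_le hsr hMS) R' Φ' hΦ'f P' A hconj hmax hext c κ
    hc0 hc1 hc2 hc3 hc5 δ' hδA hδ' hfix ⟨g, hg⟩ hgR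

/-- The transvection case. -/
theorem torus_false (hp : 5 ≤ p) (hS : IsPGroup p S) (hsr : Cfsg.SectionalPRankLE p 3 S)
    (hF : F.IsSaturated p) {E : Subgroup Ω} (hc : F.IsCentric E) (hEn : F.IsFullyNormalized E)
    (hrk : (frattini E).index = p ^ 3) (hlt : normalizerIn S E < S)
    (hidx : (E.subgroupOf (normalizerIn S E)).index = p) (x : normalizerIn S E) (hx : (x : Ω) ∉ E)
    (a b f : E) (s : ℕ) (hs : (s : ZMod p) ≠ 0)
    (hgen : ∀ q : E, ∃ i j k : ℕ, (a ^ i * b ^ j * f ^ k)⁻¹ * q ∈ frattini E)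
    (hxa : a⁻¹ * Fusion.conjAutHom S E x a ∈ frattini E)
    (hxf : f⁻¹ * Fusion.conjAutHom S E x f ∈ frattini E)
    (hxb : (b * a ^ s)⁻¹ * Fusion.conjAutHom S E x b ∈ frattini E)
    (c : ZMod p) (hc0 : c ≠ 0) (hc1 : c ≠ 1) (hc2 : c ^ 2 ≠ 1) (hc3 : c ^ 3 ≠ 1) (hc5 : c ^ 5 ≠ 1)
    (β : MulAut E) (hβ : β ∈ F.autGroup E)
    (hnorm : ∀ γ ∈ Cfsg.autInducedBy S E, β * γ * β⁻¹ ∈ Cfsg.autInducedBy S E)
    (hβx : (Fusion.conjAutHom S E (x ^ (c * c).val))⁻¹ * (β * Fusion.conjAutHom S E x * β⁻¹) ∈ Cfsg.Inn E)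
    (hβa : (a ^ c.val)⁻¹ * β a ∈ frattini E) (hβb : (b ^ c⁻¹.val)⁻¹ * β b ∈ frattini E)
    (hβf : f⁻¹ * β f ∈ frattini E) : False := by
  classical
  have hNS : (normalizerIn S E) ≤ S := Fusion.normalizerIn_le S E
  have hEN : E ≤ (normalizerIn S E) := Fusion.le_normalizerIn hc.1
  haveI := Fusion.finite_of_le hNS
  have hiso := (Fusion.mem_autGroup hc.1).mp hβ
  have hr := Fusion.receptive_of_fullyCentralized hS hF (Fusion.fullyCentralized_of_fullyNormalized hS hF hEn)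
  have hM : Fusion.IsExtendable S E (Fusion.autFun β) (normalizerIn S E) := by
    refine ⟨hNS, fun g hg => ⟨hg.2, ?_⟩⟩
    have h1 := hnorm (Fusion.conjAutHom S E ⟨g, hg⟩) (by rw [← Fusion.range_conjAutHom]; exact ⟨_, rfl⟩)
    obtain ⟨h, hh, hhx⟩ := Fusion.mem_autInducedBy.mp h1
    refine ⟨h, hh, fun r hr => ?_⟩
    have := hhx (β ⟨r, hr⟩)
    rw [MulAut.mul_apply, MulAut.mul_apply, MulAut.inv_apply_self] at this
    rw [Fusion.autFun_of_mem _ (Fusion.conj_mem_of_mem_normalizer hg.2 hr), Fusion.autFun_of_mem _ hr]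
    exact this
  obtain ⟨f', hf', he'⟩ := Fusion.receptive_extend hr hiso hM
  have hfN : Fusion.IsMap F (normalizerIn S E) f' := hf'.mono le_sup_right
  have him : f' '' (E : Set Ω) = (E : Set Ω) := (Set.image_congr he').trans hiso.2
  have hmemN : ∀ g ∈ (normalizerIn S E), f' g ∈ (normalizerIn S E) := fun g hg =>
    Fusion.map_mem_normalizer hf' le_sup_left him (le_sup_right (a := E) hg) hg.2
  have hisoN : Fusion.IsIso F (normalizerIn S E) (normalizerIn S E) f' := by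
    refine ⟨hfN, Set.ext fun y => ⟨?_, fun hy => ?_⟩⟩
    · rintro ⟨g, hg, rfl⟩; exact hmemN g hg
    · exact Fusion.surjOn_of_card_le hNS hfN.injOn hmemN le_rfl y hy
  set δ : MulAut (normalizerIn S E) := hisoN.equiv
  have hδv : ∀ q : (normalizerIn S E), ((δ q : (normalizerIn S E)) : Ω) = f' q := hisoN.equiv_apply
  have hδE : ∀ (q : (normalizerIn S E)) (hq : (q : Ω) ∈ E), ((δ q : (normalizerIn S E)) : Ω) = (β ⟨q, hq⟩ : E) := fun q hq => by
    rw [hδv, he' hq, Fusion.autFun_of_mem _ hq]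
  have hθ : Fusion.conjAutHom S E (δ x) = β * Fusion.conjAutHom S E x * β⁻¹ := by
    refine MulEquiv.ext fun r => Subtype.ext ?_
    rw [MulAut.mul_apply, MulAut.mul_apply, Fusion.conjAutHom_apply, hδv]
    obtain ⟨q, rfl⟩ := β.surjective r
    rw [MulAut.inv_apply_self]
    rw [← Fusion.autFun_coe β q, ← he' q.2, ← Fusion.autFun_coe β, ← he' (Subtype.mem _),
      Fusion.conjAutHom_apply]
    exact (hfN.map_conj x.2 (hEN q.2)).symm
  set E₀ := E.subgroupOf (normalizerIn S E)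
  have hδx : (x ^ (c * c).val)⁻¹ * δ x ∈ E₀ := by
    rw [Subgroup.mem_subgroupOf]
    refine mem_of_conj_inn hc _ ?_
    rw [map_mul, map_inv, hθ]
    exact hβx
  have hmem : ∀ (u : E) (v : (normalizerIn S E)), (v : Ω) ∈ E → ∀ w : E, (v : Ω) = w → u⁻¹ * w ∈ frattini E →
      (⟨u, hEN u.2⟩ : (normalizerIn S E))⁻¹ * v ∈ (frattini E₀).map E₀.subtype := fun u v hv w hvw h => by
    rw [mem_frattini_subgroupOf hS hEN hNS]
    refine ⟨E.mul_mem (E.inv_mem u.2) hv, ?_⟩
    convert h using 1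
    exact Subtype.ext (by simp [hvw])
  set a₀ : (normalizerIn S E) := ⟨a, hEN a.2⟩
  set b₀ : (normalizerIn S E) := ⟨b, hEN b.2⟩
  set f₀ : (normalizerIn S E) := ⟨f, hEN f.2⟩
  have hconjE : ∀ q : E, ((x * ⟨q, hEN q.2⟩ * x⁻¹ : (normalizerIn S E)) : Ω) = Fusion.conjAutHom S E x q := fun q => rfl
  have hconjM : ∀ q : E, ((x * ⟨q, hEN q.2⟩ * x⁻¹ : (normalizerIn S E)) : Ω) ∈ E := fun q => (Fusion.conjAutHom S E x q).2
  obtain ⟨Φ, hΦn, P, κ, -, hΦG, -, hchar, hE, hδ'⟩ := transvec_frame hp (hS.to_le hNS) (rankThree_of_le hsr hNS)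
    E₀ hidx
    (by rw [frattini_index_equiv ((hS.to_le hNS).to_subgroup E₀) (Subgroup.subgroupOfEquivOfLe hEN)]; exact hrk)
    x a₀ b₀ f₀ s hs (fun h => hx (Subgroup.mem_subgroupOf.mp h)) a.2 b.2 f.2
    (fun q hq => by
      obtain ⟨i, k, l, h⟩ := hgen ⟨q, Subgroup.mem_subgroupOf.mp hq⟩
      refine ⟨i, k, l, (a₀ ^ i * b₀ ^ k * f₀ ^ l)⁻¹ * q, ?_, by rw [mul_inv_cancel_left]⟩
      have := hmem (a ^ i * b ^ k * f ^ l) q (Subgroup.mem_subgroupOf.mp hq) ⟨q, Subgroup.mem_subgroupOf.mp hq⟩ rfl h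
      convert this using 2
      congr 1)
    (hmem a _ (hconjM a) _ (hconjE a) hxa) (hmem f _ (hconjM f) _ (hconjE f) hxf)
    (by
      have := hmem (b * a ^ s) _ (hconjM b) _ (hconjE b) hxb
      convert this using 2
      exact congrArg _ (Subtype.ext (by simp [a₀, b₀])))
    c hc0 hc1 hc2 hc3 δ
    (fun q hq => by
      rw [Subgroup.mem_subgroupOf, hδE q (Subgroup.mem_subgroupOf.mp hq)]
      exact Subtype.mem _)
    (by
      have h := hmem (a ^ c.val) (δ a₀) (by rw [hδE a₀ a.2]; exact Subtype.mem _) _ (hδE a₀ a.2) hβa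
      convert h using 2
      exact congrArg _ (Subtype.ext (by simp [a₀])))
    (by
      have h := hmem (b ^ c⁻¹.val) (δ b₀) (by rw [hδE b₀ b.2]; exact Subtype.mem _) _ (hδE b₀ b.2) hβb
      convert h using 2
      exact congrArg _ (Subtype.ext (by simp [b₀])))
    (hmem f (δ f₀) (by rw [hδE f₀ f.2]; exact Subtype.mem _) _ (hδE f₀ f.2) hβf) hδx
  exact transport_false hp hS hsr hF hEn hlt Φ P κ c hc0 hc1 hc2 hc3 hc5 hΦG hchar
    (fun q => Subgroup.mem_subgroupOf.symm.trans (hE q)) δ hisoN.equiv_mem_autGroup hδ'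

/-- The regular case. -/
theorem regular_case_false (hp : 5 ≤ p) (hS : IsPGroup p S) (hsr : Cfsg.SectionalPRankLE p 3 S)
    {E : Subgroup Ω} (hES : E ≤ S) (hlt : normalizerIn S E < S)
    (hidx : (E.subgroupOf (normalizerIn S E)).index = p) (x : normalizerIn S E) (hx : (x : Ω) ∉ E)
    (hirr : ∀ U : Subgroup E, U.Characteristic → frattini E ≤ U → U = frattini E ∨ U = ⊤)
    (e d l : E) (hd : d = e⁻¹ * Fusion.conjAutHom S E x e) (hl : l = d⁻¹ * Fusion.conjAutHom S E x d)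
    (hl' : l⁻¹ * Fusion.conjAutHom S E x l ∈ frattini E) (hl1 : l ∉ frattini E)
    (hgen : ∀ q : E, ∃ i j k : ℕ, (e ^ i * d ^ j * l ^ k)⁻¹ * q ∈ frattini E)
    (hfix : ∀ q : E, q⁻¹ * Fusion.conjAutHom S E x q ∈ frattini E → ∃ k : ℕ, (l ^ k)⁻¹ * q ∈ frattini E) :
    False := by
  classical
  have hNS : (normalizerIn S E) ≤ S := Fusion.normalizerIn_le S E
  have hEN : E ≤ (normalizerIn S E) := Fusion.le_normalizerIn hES
  haveI := Fusion.finite_of_le hNS
  haveI := Fusion.finite_of_le hES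
  set E₀ := E.subgroupOf (normalizerIn S E)
  set ι : E₀ ≃* E := Subgroup.subgroupOfEquivOfLe hEN
  have hE₀p : IsPGroup p E₀ := (hS.to_le hNS).to_subgroup _
  have hirr₀ : ∀ U : Subgroup E₀, U.Characteristic → frattini E₀ ≤ U → U = frattini E₀ ∨ U = ⊤ := by
    intro U hU hle
    have h1 : (U.map ι.toMonoidHom).Characteristic := by
      refine Subgroup.characteristic_iff_map_le.mpr fun φ => ?_
      rintro _ ⟨_, ⟨u, hu, rfl⟩, rfl⟩
      refine ⟨(ι.trans φ).trans ι.symm u, Subgroup.characteristic_iff_map_le.mp hU _ ⟨u, hu, rfl⟩, ?_⟩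
      simp
    have h2 : frattini E ≤ U.map ι.toMonoidHom := fun q hq => by
      refine ⟨ι.symm q, hle ((apply_mem_frattini_iff hE₀p ι).mp ?_), ι.apply_symm_apply q⟩
      rwa [ι.apply_symm_apply]
    rcases hirr _ h1 h2 with h | h
    · left
      refine le_antisymm (fun u hu => ?_) hle
      refine (apply_mem_frattini_iff hE₀p ι).mp ?_
      rw [← h]; exact ⟨u, hu, rfl⟩
    · right
      refine eq_top_iff.mpr fun u _ => ?_
      obtain ⟨v, hv, hvu⟩ := h.ge (Subgroup.mem_top (ι u))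
      rwa [← ι.injective hvu]
  obtain ⟨g, hg, hgN⟩ := SetLike.exists_of_lt (Fusion.lt_normalizerIn hS hlt)
  obtain ⟨m, hm⟩ := hS ⟨g, hg.1⟩
  have hm' : (⟨g, hg⟩ : normalizerIn S (normalizerIn S E)) ^ p ^ m = 1 := Subtype.ext (by
    have := congrArg Subtype.val hm
    simpa using this)
  refine regular_false hp (hS.to_le hNS) (rankThree_of_le hsr hNS) E₀ (rankThree_subgroupOf hsr hNS) hidx hirr₀
    x ⟨e, hEN e.2⟩ ⟨d, hEN d.2⟩ ⟨l, hEN l.2⟩ (fun h => hx (Subgroup.mem_subgroupOf.mp h)) e.2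
    (Subtype.ext (by rw [hd]; simp)) (Subtype.ext (by rw [hl]; simp)) ?_ ?_ ?_ ?_
    (Fusion.conjAutHom S (normalizerIn S E) ⟨g, hg⟩) ⟨m, by rw [← map_pow, hm', map_one]⟩ fun hfixg => hgN ?_
  · rw [mem_frattini_subgroupOf hS hEN hNS]
    exact ⟨E.mul_mem (E.inv_mem l.2) (Fusion.conjAutHom S E x l).2, hl'⟩
  · rw [mem_frattini_subgroupOf hS hEN hNS]
    rintro ⟨h, hh⟩
    exact hl1 hh
  · intro q hq
    obtain ⟨i, k, n, h⟩ := hgen ⟨q, Subgroup.mem_subgroupOf.mp hq⟩
    refine ⟨i, k, n, ((⟨e, hEN e.2⟩ : (normalizerIn S E)) ^ i * ⟨d, hEN d.2⟩ ^ k * ⟨l, hEN l.2⟩ ^ n)⁻¹ * q, ?_,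
      by rw [mul_inv_cancel_left]⟩
    rw [mem_frattini_subgroupOf hS hEN hNS]
    exact ⟨E.mul_mem (E.inv_mem (e ^ i * d ^ k * l ^ n).2) (Subgroup.mem_subgroupOf.mp hq), h⟩
  · intro q hq h
    rw [mem_frattini_subgroupOf hS hEN hNS] at h
    obtain ⟨hm1, hm2⟩ := h
    obtain ⟨k, hk⟩ := hfix ⟨q, Subgroup.mem_subgroupOf.mp hq⟩ hm2
    refine ⟨k, ((⟨l, hEN l.2⟩ : (normalizerIn S E)) ^ k)⁻¹ * q, ?_, by rw [mul_inv_cancel_left]⟩
    rw [mem_frattini_subgroupOf hS hEN hNS]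
    exact ⟨E.mul_mem (E.inv_mem (l ^ k).2) (Subgroup.mem_subgroupOf.mp hq), hk⟩
  · refine ⟨hg.1, Subgroup.mem_normalizer_iff.mpr fun y => ⟨fun hy => ?_, fun hy => ?_⟩⟩
    · have := hfixg.le ⟨⟨y, hEN hy⟩, hy, rfl⟩
      exact this
    · obtain ⟨z, hz, hzy⟩ := hfixg.ge (show (⟨g * y * g⁻¹, hEN hy⟩ : (normalizerIn S E)) ∈ E₀ from hy)
      have : g * (z : Ω) * g⁻¹ = g * y * g⁻¹ := congrArg Subtype.val hzy
      rw [← mul_left_cancel (mul_right_cancel this)]
      exact hz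

/-- Essential subgroups with three generators are normal in `S`. -/
theorem essential_rank_three_normal (hp : 5 ≤ p) (hS : IsPGroup p S) (hsr : Cfsg.SectionalPRankLE p 3 S)
    (hF : F.IsSaturated p) {E : Subgroup Ω} (hE : F.IsEssential p E) (hrk : (frattini E).index = p ^ 3) :
    S ≤ Subgroup.normalizer (E : Set Ω) := by
  classical
  by_contra hnot
  obtain ⟨hc, hEn, hnI, MX, hMX⟩ := hE
  haveI := hnI
  have hES := hc.1
  haveI := Fusion.finite_of_le hES
  haveI := Fusion.finite_mulAut E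
  have hEp : IsPGroup p E := hS.to_le hES
  have hltN : normalizerIn S E < S :=
    lt_of_le_of_ne (Fusion.normalizerIn_le S E) fun h => hnot (h.ge.trans inf_le_right)
  have hEltS : E < S := lt_of_le_of_ne hES fun h => hnot (h.ge.trans E.le_normalizer)
  haveI := Fusion.finite_of_le (hltN.le)
  have hEN : E ≤ (normalizerIn S E) := Fusion.le_normalizerIn hES
  letI : CommGroup (E ⧸ frattini E) := fratComm hEp
  set I := (Cfsg.Inn E).subgroupOf (F.autGroup E)
  let ρ₀ : F.autGroup E →* MulAut (E ⧸ frattini E) := (fAct E).comp (F.autGroup E).subtype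
  have hinn : I ≤ ρ₀.ker := by
    intro γ hγ
    obtain ⟨a, ha⟩ := Subgroup.mem_subgroupOf.mp hγ
    refine MulEquiv.ext fun v => ?_
    induction v using QuotientGroup.induction_on with
    | H q =>
      show fAct E (γ : MulAut E) _ = _
      rw [← ha, fAct_mk, MulAut.one_apply, MulAut.conj_apply, QuotientGroup.mk_mul, QuotientGroup.mk_mul,
        QuotientGroup.mk_inv, mul_inv_cancel_comm]
  let ρ : (F.autGroup E ⧸ I) →* MulAut (E ⧸ frattini E) := QuotientGroup.lift I ρ₀ hinn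
  have hρ : ∀ γ : F.autGroup E, ρ (QuotientGroup.mk' I γ) = fAct E (γ : MulAut E) := fun γ => rfl
  have hinj : Function.Injective ρ := by
    rw [← MonoidHom.ker_eq_bot_iff]
    refine Fusion.eq_bot_of_spe hMX inferInstance ?_
    have hk : IsPGroup p ρ₀.ker :=
      (fAct_ker_isPGroup hEp).comap_of_injective _ (Subgroup.subtype_injective _)
    refine (hk.map (QuotientGroup.mk' I)).to_le fun u hu => ?_
    obtain ⟨γ, rfl⟩ := QuotientGroup.mk'_surjective I u
    exact ⟨γ, hu, rfl⟩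
  obtain ⟨T, hT⟩ := Fusion.exists_outSylow hS hF hEn
  set M := Subgroup.closure (Fusion.linkSet T.toSubgroup)
  have hTne := Fusion.outSylow_ne_bot hS hEltS hc hT
  have hspe : Cfsg.IsStronglyPEmbedded p M :=
    Fusion.spe_closure_linkSet T hTne (Fusion.closure_linkSet_ne_top T hMX)
  have C : Ctx p ρ M T.toSubgroup :=
    { inj := hinj
      exp := fun v => by
        induction v using QuotientGroup.induction_on with
        | H q => exact (QuotientGroup.eq_one_iff _).mpr (PGroup.pow_mem_frattini hEp q)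
      card := hrk
      odd := by omega
      nle := LocalEven61.normalizersLE_of_spe hspe
      cic := LocalEven61.conjInterCoprime_of_normalizersLE (LocalEven61.normalizersLE_of_spe hspe)
      ne_top := hspe.2.1
      le := fun t ht => by
        rcases eq_or_ne t 1 with rfl | ht1
        · exact M.one_mem
        · exact Subgroup.subset_closure ⟨t, ht, ht1, by simpa using ht⟩
      isP := T.isPGroup'
      max := fun Q hQ hTQ => T.is_maximal' hQ hTQ
      ne_bot := hTne }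
  -- the outer action of `(normalizerIn S E)`
  let θ : (normalizerIn S E) →* F.autGroup E ⧸ I := (QuotientGroup.mk' I).comp
    ((Fusion.conjAutHom S E).codRestrict (F.autGroup E) fun g =>
      Fusion.autInducedBy_le_autGroup hES (by rw [← Fusion.range_conjAutHom]; exact ⟨g, rfl⟩))
  have hθT : θ.range = T.toSubgroup := by
    ext u
    obtain ⟨γ, rfl⟩ := QuotientGroup.mk'_surjective I u
    rw [hT]
    constructor
    · rintro ⟨g, hg⟩
      rw [← hT, ← hg]
      exact (hT _).mpr ((Fusion.range_conjAutHom S E).le ⟨g, rfl⟩)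
    · intro h
      rw [← Fusion.range_conjAutHom] at h
      obtain ⟨g, hg⟩ := h
      exact ⟨g, congrArg (QuotientGroup.mk' I) (Subtype.ext hg)⟩
  have hθker : θ.ker = E.subgroupOf (normalizerIn S E) := by
    ext g
    rw [MonoidHom.mem_ker, Subgroup.mem_subgroupOf]
    show ((⟨Fusion.conjAutHom S E g, _⟩ : F.autGroup E) : F.autGroup E ⧸ I) = 1 ↔ _
    rw [QuotientGroup.eq_one_iff, Subgroup.mem_subgroupOf]
    exact ⟨mem_of_conj_inn hc g, fun h => Fusion.mem_inn.mpr ⟨g, h, fun _ => rfl⟩⟩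
  have hidx : (E.subgroupOf (normalizerIn S E)).index = p := by
    rw [← hθker, Subgroup.index_ker, hθT]
    exact C.card_eq
  obtain ⟨z, hz, hz1⟩ := T.toSubgroup.bot_or_exists_ne_one.resolve_left hTne
  obtain ⟨x, hxz⟩ : z ∈ θ.range := by rw [hθT]; exact hz
  have hx : (x : Ω) ∉ E := fun h => hz1 (by
    rw [← hxz, ← MonoidHom.mem_ker, hθker]; exact h)
  have hρx : ∀ q : E, ρ z (q : E ⧸ frattini E) =
      ((Fusion.conjAutHom S E x q : E) : E ⧸ frattini E) := fun q => by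
    rw [← hxz]; rfl
  rcases C.dichotomy hz hz1 with ⟨a, b, f, s, hs, haz, hfz, hbz, hgen, htor⟩ |
    ⟨e, d, l, he, hd, hzl, hl1, hgen, hfix, hirr⟩
  · obtain ⟨c, hc0, hc1, hc2, hc3, hc5⟩ := exists_weight (p := p) hp
    obtain ⟨k, hka, hkb, hkf, hkz⟩ := htor c hc0
    obtain ⟨β, rfl⟩ := QuotientGroup.mk'_surjective I k
    obtain ⟨a, rfl⟩ := QuotientGroup.mk_surjective a
    obtain ⟨b, rfl⟩ := QuotientGroup.mk_surjective b
    obtain ⟨f, rfl⟩ := QuotientGroup.mk_surjective f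
    rw [hρx] at haz hfz hbz
    rw [hρ, fAct_mk] at hka hkb hkf
    have hTz := (C.eq_zpowers hz hz1).2
    refine torus_false hp hS hsr hF hc hEn hrk hltN hidx x hx a b f s hs (fun q => ?_)
      (QuotientGroup.eq.mp haz.symm) (QuotientGroup.eq.mp hfz.symm) (QuotientGroup.eq.mp hbz.symm)
      c hc0 hc1 hc2 hc3 hc5 β β.2 (fun γ hγ => ?_) ?_
      (QuotientGroup.eq.mp hka.symm) (QuotientGroup.eq.mp hkb.symm) (QuotientGroup.eq.mp hkf.symm)
    · obtain ⟨i, j, n, h⟩ := hgen (q : E ⧸ frattini E)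
      exact ⟨i, j, n, QuotientGroup.eq.mp h.symm⟩
    · have h1 := (hT ⟨γ, Fusion.autInducedBy_le_autGroup hES hγ⟩).mpr hγ
      have h2 : QuotientGroup.mk' I β * QuotientGroup.mk' I ⟨γ, Fusion.autInducedBy_le_autGroup hES hγ⟩ *
          (QuotientGroup.mk' I β)⁻¹ ∈ T.toSubgroup := by
        rw [hTz] at h1 ⊢
        obtain ⟨n, hn⟩ := h1
        rw [← hn, ← conj_zpow, hkz]
        exact ⟨(c * c).val * n, by show z ^ _ = _; rw [zpow_mul, zpow_natCast]⟩
      rw [← map_inv, ← map_mul, ← map_mul] at h2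
      exact (hT _).mp h2
    · have h1 : θ (x ^ (c * c).val) = QuotientGroup.mk' I β * θ x * (QuotientGroup.mk' I β)⁻¹ := by
        rw [map_pow, hxz, hkz]
      exact Subgroup.mem_subgroupOf.mp (QuotientGroup.eq.mp h1)
  · obtain ⟨e, rfl⟩ := QuotientGroup.mk_surjective e
    set dl := e⁻¹ * Fusion.conjAutHom S E x e with hdl
    have hdd : d = (dl : E ⧸ frattini E) := by rw [← he, dsp, hρx]; rfl
    set ll := dl⁻¹ * Fusion.conjAutHom S E x dl with hll
    have hll' : l = (ll : E ⧸ frattini E) := by rw [← hd, dsp, hdd, hρx]; rfl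
    subst hdd hll'
    rw [hρx] at hzl
    refine regular_case_false hp hS hsr hES hltN hidx x hx (fun U hU hle => ?_) e dl ll hdl hll
      (QuotientGroup.eq.mp hzl.symm) (fun h => hl1 ((QuotientGroup.eq_one_iff _).mpr h)) (fun q => ?_)
      (fun q hq => ?_)
    · have hπ : U = (U.map (QuotientGroup.mk' (frattini E))).comap (QuotientGroup.mk' (frattini E)) := by
        rw [Subgroup.comap_map_eq, QuotientGroup.ker_mk', sup_eq_left.mpr hle]
      rcases hirr (U.map (QuotientGroup.mk' (frattini E))) (fun u v hv => by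
        obtain ⟨w, hw, rfl⟩ := hv
        obtain ⟨γ, rfl⟩ := QuotientGroup.mk'_surjective I u
        exact ⟨(γ : MulAut E) w, Subgroup.characteristic_iff_map_le.mp hU _ ⟨w, hw, rfl⟩, rfl⟩) with h | h
      · left; rw [hπ, h, MonoidHom.comap_bot, QuotientGroup.ker_mk']
      · right; rw [hπ, h, Subgroup.comap_top]
    · obtain ⟨i, j, n, h⟩ := hgen (q : E ⧸ frattini E)
      exact ⟨i, j, n, QuotientGroup.eq.mp h.symm⟩
    · obtain ⟨n, hn⟩ := exists_pow_eq C.exp (hfix (q : E ⧸ frattini E) (by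
        rw [hρx]; exact (QuotientGroup.eq.mpr hq).symm))
      exact ⟨n, QuotientGroup.eq.mp hn.symm⟩

end Cfsg.Agent.LocalEvenD.RTE
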