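import Cfsg.Agent.LocalEvenD.RankThreeEss.Frame

/-!
# The transvection case: all conjugates of `E` have the same Frattini subgroup
-/

set_option autoImplicit false
set_option linter.style.haveILetI false

namespace Cfsg.Agent.LocalEvenD.RTE

open scoped commutatorElement

variable {G : Type*} [Group G] [Finite G] {p : ℕ} [Fact p.Prime]

lemma rankThree_quotient (N : Subgroup G) [N.Normal] (h : RankThree p G) : RankThree p (G ⧸ N) := by
  intro H B hBH hB hc hpw
  haveI := hB
  let γ := QuotientGroup.mk' N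
  have h1 := h (H.comap γ) (B.comap γ) (Subgroup.comap_mono hBH) inferInstance
    (fun u hu v hv => by show γ ⁅u, v⁆ ∈ B; rw [map_commutatorElement]; exact hc _ hu _ hv)
    (fun u hu => by show γ (u ^ p) ∈ B; rw [map_pow]; exact hpw _ hu)
  have key : ∀ K : Subgroup (G ⧸ N), Nat.card (K.comap γ) = Nat.card K * Nat.card N := by
    intro K
    have h1 := Subgroup.card_eq_card_quotient_mul_card_subgroup (N.subgroupOf (K.comap γ))
    have hle : N ≤ K.comap γ := fun q hq => by
      show γ q ∈ K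
      rw [show γ q = 1 from (QuotientGroup.eq_one_iff q).mpr hq]; exact K.one_mem
    rw [Nat.card_congr (Subgroup.subgroupOfEquivOfLe hle).toEquiv] at h1
    rw [h1]
    congr 1
    have e1 := Nat.card_congr (QuotientGroup.quotientKerEquivRange (γ.comp (K.comap γ).subtype)).toEquiv
    rw [MonoidHom.range_comp, Subgroup.range_subtype,
      Subgroup.map_comap_eq_self_of_surjective (QuotientGroup.mk'_surjective _)] at e1
    rw [← e1]
    congr 2
    ext y
    simp [Subgroup.mem_subgroupOf, γ]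
  rw [key, key, ← mul_assoc] at h1
  exact Nat.le_of_mul_le_mul_right h1 Nat.card_pos

omit [Finite G] in
lemma commute_of_closure {s : Set G} (h : ∀ u ∈ s, ∀ v ∈ s, Commute u v) {u v : G}
    (hu : u ∈ Subgroup.closure s) (hv : v ∈ Subgroup.closure s) : Commute u v := by
  have h1 : ∀ w ∈ Subgroup.closure s, ∀ t ∈ s, Commute w t := by
    intro w hw t ht
    induction hw using Subgroup.closure_induction with
    | mem x hx => exact h x hx t ht
    | one => exact Commute.one_left _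
    | mul x y _ _ hx hy => exact hx.mul_left hy
    | inv x _ hx => exact hx.inv_left
  induction hv using Subgroup.closure_induction with
  | mem x hx => exact h1 u hu x hx
  | one => exact Commute.one_right _
  | mul x y _ _ hx hy => exact hx.mul_right hy
  | inv x _ hx => exact hx.inv_right

/-- What the transvection case gives on `N_S(E)`. -/
theorem transvec_frame (hp : 5 ≤ p) (hG : IsPGroup p G) (hrank : RankThree p G)
    (E₀ : Subgroup G) (hidx : E₀.index = p) (hEcard : (frattini E₀).index = p ^ 3)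
    (x a b f : G) (s : ℕ) (hs : (s : ZMod p) ≠ 0) (hx : x ∉ E₀) (haE : a ∈ E₀) (hbE : b ∈ E₀)
    (hfE : f ∈ E₀)
    (hdec : ∀ q ∈ E₀, ∃ i j k : ℕ, ∃ w ∈ (frattini E₀).map E₀.subtype, q = a ^ i * b ^ j * f ^ k * w)
    (hxa : a⁻¹ * (x * a * x⁻¹) ∈ (frattini E₀).map E₀.subtype)
    (hxf : f⁻¹ * (x * f * x⁻¹) ∈ (frattini E₀).map E₀.subtype)
    (hxb : (b * a ^ s)⁻¹ * (x * b * x⁻¹) ∈ (frattini E₀).map E₀.subtype)
    (c : ZMod p) (hc0 : c ≠ 0) (hc1 : c ≠ 1) (hc2 : c ^ 2 ≠ 1) (hc3 : c ^ 3 ≠ 1)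
    (δ : MulAut G) (hδE : ∀ q ∈ E₀, δ q ∈ E₀)
    (hδa : (a ^ c.val)⁻¹ * δ a ∈ (frattini E₀).map E₀.subtype)
    (hδb : (b ^ c⁻¹.val)⁻¹ * δ b ∈ (frattini E₀).map E₀.subtype)
    (hδf : f⁻¹ * δ f ∈ (frattini E₀).map E₀.subtype)
    (hδx : (x ^ (c * c).val)⁻¹ * δ x ∈ E₀) :
    ∃ (Φ : Subgroup G) (_ : Φ.Normal) (P : Frame p (G ⧸ Φ)) (κ : ZMod p),
      Φ = (frattini E₀).map E₀.subtype ∧ Φ ≤ frattini G ∧ Φ ≤ E₀ ∧ (∀ φ : MulAut G, ∀ q ∈ Φ, φ q ∈ Φ) ∧
      (∀ q : G, q ∈ E₀ ↔ P.c₁ (q : G ⧸ Φ) = 0) ∧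
      ∀ q : G, ∀ i j k l : ZMod p, (q : G ⧸ Φ) = P.T i j k l →
        ((δ q : G) : G ⧸ Φ) = P.T (c * c * i) (c⁻¹ * j) (κ * i + c * k) l := by
  classical
  have hpp := (Fact.out : p.Prime)
  haveI hE₀n : E₀.Normal := PGroup.normal_of_index_eq_prime hG hidx
  set Φ := (frattini E₀).map E₀.subtype with hΦdef
  haveI hΦn : Φ.Normal := ConjAct.normal_of_characteristic_of_normal
  have hΦE : Φ ≤ E₀ := Subgroup.map_subtype_le _
  have hΦG : Φ ≤ frattini G := frattini_map_le hG E₀
  have hmem : ∀ {u v : G}, u ∈ E₀ → v ∈ E₀ → u ^ p ∈ Φ ∧ ⁅u, v⁆ ∈ Φ := fun {u v} hu hv =>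
    ⟨⟨(⟨u, hu⟩ : E₀) ^ p, PGroup.pow_mem_frattini (hG.to_subgroup E₀) _, rfl⟩,
      ⟨⁅(⟨u, hu⟩ : E₀), ⟨v, hv⟩⁆, PGroup.comm_mem_frattini (hG.to_subgroup E₀) _ _, rfl⟩⟩
  let π := QuotientGroup.mk' Φ
  have hπ : ∀ {q : G}, π q = 1 ↔ q ∈ Φ := fun {q} => QuotientGroup.eq_one_iff q
  have hπeq : ∀ {u v : G}, u⁻¹ * v ∈ Φ → π v = π u := fun {u v} h => (QuotientGroup.eq.mpr h).symm
  have hEc : ∀ {u v : G}, u ∈ E₀ → v ∈ E₀ → Commute (π u) (π v) := fun {u v} hu hv => by
    rw [← commutatorElement_eq_one_iff_commute, ← map_commutatorElement, hπ]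
    exact (hmem hu hv).2
  have hEp : ∀ {u : G}, u ∈ E₀ → π u ^ p = 1 := fun {u} hu => by
    rw [← map_pow, hπ]; exact (hmem hu hu).1
  set A := π a
  set B := π b
  set F := π f
  set X := π x
  have hcz : ∀ (y : G ⧸ Φ), y ^ p = 1 → ∀ m n : ℕ, (m : ZMod p) = n → y ^ m = y ^ n := fun y hy m n h => by
    rw [pow_eq_pow_mod m hy, pow_eq_pow_mod n hy, (ZMod.natCast_eq_natCast_iff' _ _ _).mp h]
  have hXA : Commute X A := by
    have h := hπeq hxa
    rw [map_mul, map_mul, map_inv, mul_inv_eq_iff_eq_mul] at h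
    exact h
  have hXF : Commute X F := by
    have h := hπeq hxf
    rw [map_mul, map_mul, map_inv, mul_inv_eq_iff_eq_mul] at h
    exact h
  have hXB : X * B = B * A ^ s * X := by
    have h := hπeq hxb
    rw [map_mul, map_mul, map_inv, map_mul π b, map_pow, mul_inv_eq_iff_eq_mul] at h
    exact h
  have hcardQ : Nat.card (G ⧸ Φ) = p ^ 4 := by
    show Φ.index = p ^ 4
    rw [← Subgroup.relIndex_mul_index hΦE, hidx, pow_succ, ← hEcard, Subgroup.relIndex, hΦdef,
      Subgroup.subgroupOf, Subgroup.comap_map_eq_self_of_injective E₀.subtype_injective]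
  have htop : E₀ ⊔ Subgroup.zpowers x = ⊤ :=
    (PGroup.isCoatom_iff_index_eq_prime hG |>.mpr hidx).2 _ (lt_of_le_of_ne le_sup_left fun h =>
      hx (h.ge (Subgroup.mem_sup_right (Subgroup.mem_zpowers x))))
  have hgen : ∀ q : G ⧸ Φ, ∃ i j k l : ℕ, q = X ^ i * B ^ j * A ^ k * F ^ l := by
    intro q
    obtain ⟨g, rfl⟩ := QuotientGroup.mk'_surjective Φ q
    have htop' : Subgroup.zpowers x ⊔ E₀ = ⊤ := by rw [sup_comm]; exact htop
    obtain ⟨y, hy, z, hz, rfl⟩ := Subgroup.mem_sup_of_normal_right.mp (htop'.ge (Subgroup.mem_top g))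
    obtain ⟨i, rfl⟩ := (isOfFinOrder_of_finite x).mem_powers_iff_mem_zpowers.mpr hy
    obtain ⟨k, j, l, w, hw, rfl⟩ := hdec z hz
    refine ⟨i, j, k, l, ?_⟩
    show π _ = _
    simp only [map_mul, map_pow, hπ.mpr hw, mul_one]
    rw [((hEc haE hbE).pow_pow k j).eq]
    simp only [mul_assoc]
    rfl
  have hpm : ∀ n : ℕ, n + (p - 1) * n = p * n := fun n => by
    rw [Nat.sub_mul, one_mul]
    have := Nat.le_mul_of_pos_left n hpp.pos
    omega
  -- `x^p ∈ Φ`
  have hXp : X ^ p = 1 := by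
    have hxpE : x ^ p ∈ E₀ := by have := Subgroup.pow_index_mem E₀ x; rwa [hidx] at this
    obtain ⟨i, j, l, w, hw, hxp⟩ := hdec _ hxpE
    have hv : X ^ p = A ^ i * B ^ j * F ^ l := by
      rw [← map_pow, hxp]; simp only [map_mul, map_pow, hπ.mpr hw, mul_one]
      rfl
    have hA : A ^ p = 1 := hEp haE
    have hB : B ^ p = 1 := hEp hbE
    have hF : F ^ p = 1 := hEp hfE
    -- coordinates in `E₀ / Φ` are unique
    have huniq : ∀ i j l : ℕ, A ^ i * B ^ j * F ^ l = 1 →
        (i : ZMod p) = 0 ∧ (j : ZMod p) = 0 ∧ (l : ZMod p) = 0 := by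
      let μ : ZMod p × ZMod p × ZMod p → E₀.map π := fun v =>
        ⟨A ^ v.1.val * B ^ v.2.1.val * F ^ v.2.2.val,
          Subgroup.mul_mem _ (Subgroup.mul_mem _ (Subgroup.pow_mem _ (Subgroup.mem_map_of_mem π haE) _)
            (Subgroup.pow_mem _ (Subgroup.mem_map_of_mem π hbE) _)) (Subgroup.pow_mem _ (Subgroup.mem_map_of_mem π hfE) _)⟩
      have hμ : Function.Bijective μ := by
        rw [Nat.bijective_iff_surjective_and_card]
        refine ⟨?_, ?_⟩
        · rintro ⟨_, y, hy, rfl⟩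
          obtain ⟨i, j, l, w, hw, rfl⟩ := hdec y hy
          refine ⟨((i : ZMod p), (j : ZMod p), (l : ZMod p)), Subtype.ext ?_⟩
          show A ^ _ * B ^ _ * F ^ _ = π _
          simp only [map_mul, map_pow, hπ.mpr hw, mul_one]
          rw [pow_nat_val hA, pow_nat_val hB, pow_nat_val hF]
        · have e1 := Nat.card_congr (QuotientGroup.quotientKerEquivRange (π.comp E₀.subtype)).toEquiv
          rw [MonoidHom.range_comp, Subgroup.range_subtype] at e1
          rw [← e1]
          have hk : (π.comp E₀.subtype).ker = frattini E₀ := by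
            ext y
            rw [MonoidHom.mem_ker, MonoidHom.comp_apply, hπ]
            exact ⟨fun ⟨u, hu, hue⟩ => Subtype.ext (a1 := u) hue ▸ hu, fun h => ⟨y, h, rfl⟩⟩
          rw [hk]
          simp only [Nat.card_prod, Nat.card_zmod]
          show _ = (frattini E₀).index
          rw [hEcard]; ring
      intro i j l h
      have := @hμ.1 ((i : ZMod p), (j : ZMod p), (l : ZMod p)) (0, 0, 0) (Subtype.ext (by
        show A ^ _ * B ^ _ * F ^ _ = A ^ _ * B ^ _ * F ^ _
        rw [pow_nat_val hA, pow_nat_val hB, pow_nat_val hF, h]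
        simp))
      simpa using this
    -- `x` fixes `x^p`
    have hj0 : (j : ZMod p) = 0 := by
      have h1 : Commute X (A ^ i * B ^ j * F ^ l) := hv ▸ (Commute.refl X).pow_right p
      have hXBj : X * B ^ j = B ^ j * A ^ (s * j) * X := by
        rw [pow_mul, ← ((hEc hbE (E₀.pow_mem haE s)) |> fun h2 => by
          simpa [map_pow] using h2 : Commute B (A ^ s)).mul_pow]
        exact (SemiconjBy.pow_right (show SemiconjBy X B (B * A ^ s) from hXB) j).eq
      have h2 : X * (A ^ i * B ^ j * F ^ l) = A ^ i * B ^ j * F ^ l * A ^ (s * j) * X := by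
        calc X * (A ^ i * B ^ j * F ^ l) = (X * A ^ i) * B ^ j * F ^ l := by simp only [mul_assoc]
          _ = A ^ i * (X * B ^ j) * F ^ l := by rw [(hXA.pow_right i).eq]; simp only [mul_assoc]
          _ = A ^ i * B ^ j * A ^ (s * j) * (X * F ^ l) := by rw [hXBj]; simp only [mul_assoc]
          _ = A ^ i * B ^ j * (A ^ (s * j) * F ^ l) * X := by
            rw [(hXF.pow_right l).eq]; simp only [mul_assoc]
          _ = _ := by rw [((hEc haE hfE).pow_pow (s * j) l).eq]; simp only [mul_assoc]; rfl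
      have h3 : A ^ (s * j) = 1 := by
        have h4 := h2.symm.trans h1.eq
        rw [mul_left_inj] at h4
        simpa using h4
      have h5 := (huniq (s * j) 0 0 (by simpa using h3)).1
      push_cast at h5
      exact (mul_eq_zero.mp h5).resolve_left hs
    have hBj : B ^ j = 1 := by rw [hcz B hB j 0 (by rw [hj0, Nat.cast_zero]), pow_zero]
    rw [hBj, mul_one] at hv
    -- the weight
    obtain ⟨i', j', l', w', hw', he'⟩ := hdec _ hδx
    set m := (c * c).val
    have hδX : π (δ x) = X ^ m * (A ^ i' * B ^ j' * F ^ l') := by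
      rw [show δ x = x ^ m * ((x ^ m)⁻¹ * δ x) by rw [mul_inv_cancel_left], he']
      simp only [map_mul, map_pow, hπ.mpr hw', mul_one]
      rfl
    have hcent : ∀ y : G ⧸ Φ, Commute A y := fun y => by
      obtain ⟨i, j, k, l, rfl⟩ := hgen y
      exact (((hXA.symm.pow_right i).mul_right ((hEc haE hbE).pow_right j)).mul_right
        ((Commute.refl A).pow_right k)).mul_right ((hEc haE hfE).pow_right l)
    obtain ⟨r, hr⟩ : ∃ r : ℕ, ⁅A ^ i' * B ^ j' * F ^ l', X ^ m⁆ = A ^ r := by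
      have h1 : ⁅X, B⁆ = A ^ s := by
        rw [commutatorElement_def, hXB, mul_inv_cancel_right, ← ((hcent B).pow_left s).eq, mul_inv_cancel_right]
      have h2 : ⁅X, A ^ i' * B ^ j' * F ^ l'⁆ = A ^ (s * j') := by
        have e1 : ⁅X, A ^ i'⁆ = 1 := commutatorElement_eq_one_iff_commute.mpr (hXA.pow_right i')
        have e2 : ⁅X, F ^ l'⁆ = 1 := commutatorElement_eq_one_iff_commute.mpr (hXF.pow_right l')
        have e3 : ⁅X, B ^ j'⁆ = A ^ (s * j') := by
          rw [PGroup.commutatorElement_pow_right (by rw [h1]; exact ((hcent B).pow_left s)), h1, ← pow_mul]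
        rw [commutatorElement_mul_right_eq_mul_conj, commutatorElement_mul_right_eq_mul_conj, e1, e2, e3, one_mul, mul_one,
          mul_inv_cancel_right, ← ((hcent (A ^ i')).pow_left (s * j')).eq, mul_inv_cancel_right]
      refine ⟨(p - 1) * (s * j' * m), ?_⟩
      rw [← commutatorElement_inv, PGroup.commutatorElement_pow_left (by rw [h2]; exact (hcent X).pow_left _), h2,
        ← pow_mul, inv_eq_iff_mul_eq_one, ← pow_add, show s * j' * m + (p - 1) * (s * j' * m) = p * (s * j' * m) by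
          conv_rhs => rw [show p = (p - 1) + 1 by omega]
          ring, pow_mul, hA, one_pow]
    have hpow : (X ^ m * (A ^ i' * B ^ j' * F ^ l')) ^ p = (X ^ p) ^ m := by
      have hZp : (A ^ i' * B ^ j' * F ^ l') ^ p = 1 := by
        have := hEp (E₀.mul_mem (E₀.mul_mem (E₀.pow_mem haE i') (E₀.pow_mem hbE j')) (E₀.pow_mem hfE l'))
        simpa only [map_mul, map_pow] using this
      rw [PGroup.mul_pow_of_commute_commutator (by rw [hr]; exact (hcent _).pow_left _)
        (by rw [hr]; exact (hcent _).pow_left _), hr, hZp, mul_one]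
      obtain ⟨t, ht⟩ := hpp.dvd_choose_self (k := 2) (by norm_num) (by omega)
      rw [ht, ← pow_mul A, mul_comm r, mul_assoc p, pow_mul A, hA, one_pow, mul_one, ← pow_mul, ← pow_mul,
        mul_comm]
    have hδv : π (δ (x ^ p)) = A ^ (c.val * i) * F ^ l := by
      rw [hxp]
      simp only [map_mul, map_pow]
      have hw2 : π (δ w) = 1 := by
        rw [hπ]
        obtain ⟨u, hu, rfl⟩ := hw
        -- `δ` restricted to `E₀`
        have hmap : E₀.map δ.toMonoidHom = E₀ := Subgroup.eq_of_le_of_card_ge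
          (by rintro _ ⟨q, hq, rfl⟩; exact hδE q hq)
          (by rw [Subgroup.card_map_of_injective δ.injective])
        let δE : MulAut E₀ := (δ.subgroupMap E₀).trans (MulEquiv.subgroupCongr hmap)
        exact ⟨δE u, Subgroup.characteristic_iff_map_le.mp inferInstance δE ⟨u, hu, rfl⟩, rfl⟩
      rw [hw2, mul_one, hπeq hδa, hπeq hδb, hπeq hδf, map_pow, map_pow, ← pow_mul, ← pow_mul,
        show B ^ (c⁻¹.val * j) = 1 by
          rw [hcz B hB _ 0 (by push_cast; rw [hj0, mul_zero]), pow_zero], mul_one]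
    rw [map_pow, map_pow, hδX, hpow, hv,
      ((hEc haE hfE).pow_pow i l).mul_pow, ← pow_mul, ← pow_mul] at hδv
    have h7 : A ^ (i * m + (p - 1) * (c.val * i)) * B ^ 0 * F ^ (l * m + (p - 1) * l) = 1 := by
      rw [pow_zero, mul_one, pow_add, pow_add,
        show A ^ (i * m) * A ^ ((p - 1) * (c.val * i)) * (F ^ (l * m) * F ^ ((p - 1) * l)) =
          (A ^ (i * m) * F ^ (l * m)) * (A ^ ((p - 1) * (c.val * i)) * F ^ ((p - 1) * l)) from ?_, hδv]
      · rw [show A ^ (c.val * i) * F ^ l * (A ^ ((p - 1) * (c.val * i)) * F ^ ((p - 1) * l)) =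
            A ^ (c.val * i) * A ^ ((p - 1) * (c.val * i)) * (F ^ l * F ^ ((p - 1) * l)) from ?_, ← pow_add,
          ← pow_add, hpm, hpm, pow_mul A, pow_mul F, hA, hF, one_pow, one_pow, one_mul]
        rw [mul_assoc, ← mul_assoc (F ^ l), ← ((hEc haE hfE).pow_pow ((p - 1) * (c.val * i)) l).eq]
        simp only [mul_assoc]; rfl
      · rw [mul_assoc, ← mul_assoc (A ^ ((p - 1) * (c.val * i))),
          ((hEc haE hfE).pow_pow ((p - 1) * (c.val * i)) (l * m)).eq]
        simp only [mul_assoc]; rfl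
    obtain ⟨hi, -, hl⟩ := huniq _ _ _ h7
    push_cast [Nat.cast_sub hpp.pos, ZMod.natCast_self, ZMod.natCast_zmod_val, m] at hi hl
    have hi0 : (i : ZMod p) = 0 := by
      have : c * (c - 1) * (i : ZMod p) = 0 := by linear_combination hi
      exact (mul_eq_zero.mp this).resolve_left (mul_ne_zero hc0 (sub_ne_zero.mpr hc1))
    have hl0 : (l : ZMod p) = 0 := by
      have : (c ^ 2 - 1) * (l : ZMod p) = 0 := by linear_combination hl
      exact (mul_eq_zero.mp this).resolve_left (sub_ne_zero.mpr hc2)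
    rw [hv, hcz A hA i 0 (by rw [hi0, Nat.cast_zero]), hcz F hF l 0 (by rw [hl0, Nat.cast_zero]),
      pow_zero, pow_zero, mul_one]
  let P0 : Frame p (G ⧸ Φ) :=
    { x := X, b := B, a := A, f := F, s := (s : ZMod p), hs := hs, hxp := hXp, hbp := hEp hbE,
      hap := hEp haE, hfp := hEp hfE, hxa := hXA, hxf := hXF, hba := hEc hbE haE, hbf := hEc hbE hfE,
      haf := hEc haE hfE, hxb := by rw [pow_nat_val (hEp haE)]; exact hXB, gen := hgen, card := hcardQ }
  have hmapΦ : ∀ q ∈ Φ, δ q ∈ Φ := by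
    rintro _ ⟨u, hu, rfl⟩
    have hmap : E₀.map δ.toMonoidHom = E₀ := Subgroup.eq_of_le_of_card_ge
      (by rintro _ ⟨q, hq, rfl⟩; exact hδE q hq)
      (by rw [Subgroup.card_map_of_injective δ.injective])
    let δE : MulAut E₀ := (δ.subgroupMap E₀).trans (MulEquiv.subgroupCongr hmap)
    exact ⟨δE u, Subgroup.characteristic_iff_map_le.mp inferInstance δE ⟨u, hu, rfl⟩, rfl⟩
  let δq : MulAut (G ⧸ Φ) := QuotientGroup.congr Φ Φ δ
    (Subgroup.eq_of_le_of_card_ge (by rintro _ ⟨q, hq, rfl⟩; exact hmapΦ q hq)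
      (Subgroup.card_map_of_injective (f := δ.toMonoidHom) δ.injective).ge)
  have hδq : ∀ q : G, δq (π q) = π (δ q) := fun q => rfl
  have hdb : δq P0.b = P0.T 0 c⁻¹ 0 0 := by
    show δq (π b) = _
    rw [hδq, hπeq hδb, map_pow]
    simp [Frame.T, P0, B]
  have hda : δq P0.a = P0.T 0 0 c 0 := by
    show δq (π a) = _
    rw [hδq, hπeq hδa, map_pow]
    simp [Frame.T, P0, A]
  have hdf : δq P0.f = P0.T 0 0 0 1 := by
    show δq (π f) = _
    rw [hδq, hπeq hδf]
    simp [Frame.T, P0, F, ZMod.val_one]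
  have hE₀ : ∀ q : G, q ∈ E₀ ↔ P0.c₁ (π q) = 0 := by
    intro q
    have h1 : P0.T (P0.c₁ (π q)) (P0.c₂ (π q)) (P0.c₃ (π q)) (P0.c₄ (π q)) = π q := P0.T_co _
    set i := P0.c₁ (π q)
    set y := b ^ (P0.c₂ (π q)).val * a ^ (P0.c₃ (π q)).val * f ^ (P0.c₄ (π q)).val
    have hy : y ∈ E₀ := E₀.mul_mem (E₀.mul_mem (E₀.pow_mem hbE _) (E₀.pow_mem haE _)) (E₀.pow_mem hfE _)
    have h2 : π q = π (x ^ i.val * y) := by
      rw [← h1]
      simp only [Frame.T, y, map_mul, map_pow, ← mul_assoc]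
      rfl
    have h3 : (x ^ i.val * y)⁻¹ * q ∈ E₀ := hΦE (hπ.mp (by rw [map_mul, map_inv, h2, inv_mul_cancel]))
    constructor
    · intro hq
      by_contra hne
      apply hx
      have h4 : x ^ i.val ∈ E₀ := by
        have h5 := E₀.mul_mem (E₀.mul_mem hq (E₀.inv_mem h3)) (E₀.inv_mem hy)
        simpa [mul_assoc] using h5
      have h6 := E₀.pow_mem h4 i⁻¹.val
      have h7 : x ^ (i.val * i⁻¹.val) * x⁻¹ ∈ E₀ := by
        have hm : (i.val * i⁻¹.val) % p = 1 := by
          have : ((i.val * i⁻¹.val : ℕ) : ZMod p) = ((1 : ℕ) : ZMod p) := by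
            push_cast; rw [ZMod.natCast_zmod_val, ZMod.natCast_zmod_val, mul_inv_cancel₀ hne]
          rw [(ZMod.natCast_eq_natCast_iff' _ _ _).mp this, Nat.mod_eq_of_lt hpp.one_lt]
        rw [← Nat.mod_add_div (i.val * i⁻¹.val) p, hm, pow_add, pow_one, pow_mul]
        have hxpE : x ^ p ∈ E₀ := by have := Subgroup.pow_index_mem E₀ x; rwa [hidx] at this
        exact hE₀n.conj_mem _ (E₀.pow_mem hxpE _) x
      rw [pow_mul] at h7
      have h8 := E₀.mul_mem (E₀.inv_mem h7) h6
      simpa [mul_assoc] using h8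
    · intro hi
      have h4 : i = 0 := hi
      rw [h4, ZMod.val_zero, pow_zero, one_mul] at h3
      have h5 := E₀.mul_mem hy h3
      rwa [mul_inv_cancel_left] at h5
  -- the eigenvector
  obtain ⟨hdx1, hdx⟩ : P0.c₁ (δq P0.x) = c * c ∧
      P0.T (c * c) (P0.c₂ (δq P0.x)) (P0.c₃ (δq P0.x)) (P0.c₄ (δq P0.x)) = δq P0.x := by
    have h1 : P0.c₁ (δq P0.x) = c * c := by
      have h2 := (hE₀ _).mp hδx
      rw [map_mul, map_inv, map_pow] at h2
      have h3 : P0.c₁ (δq P0.x) = P0.c₁ (X ^ (c * c).val) +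
          P0.c₁ ((X ^ (c * c).val)⁻¹ * π (δ x)) := by
        rw [← P0.c₁_mul, mul_inv_cancel_left]; rfl
      rw [h3, h2, add_zero, (P0.c_pow _ _).1, show X = P0.x from rfl, ← P0.T_x, P0.c₁_T, mul_one,
        ZMod.natCast_zmod_val]
    exact ⟨h1, by conv_rhs => rw [← P0.T_co (δq P0.x), h1]⟩
  set β := P0.c₂ (δq P0.x)
  set l0 := P0.c₄ (δq P0.x)
  set t := β / (c * c - c⁻¹)
  set u := l0 / (c * c - 1)
  have hd1 : c * c - c⁻¹ ≠ 0 := fun h => hc3 (by
    have := congrArg (· * c) h
    simp only [sub_mul, inv_mul_cancel₀ hc0, zero_mul] at this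
    linear_combination this)
  have hd2 : c * c - 1 ≠ 0 := sub_ne_zero.mpr (by rw [← sq]; exact hc2)
  have hx' : P0.x * P0.T 0 t 0 u = P0.T 1 t 0 u := by
    rw [← P0.T_x, P0.T_mul]; congr 1 <;> ring
  let P : Frame p (G ⧸ Φ) :=
    { P0 with
      x := P0.T 1 t 0 u
      hxp := P0.exp (by omega) _
      hxa := by
        rw [← P0.T_a]
        show _ * _ = _ * _
        rw [P0.T_mul, P0.T_mul]; congr 1 <;> ring
      hxf := by
        rw [← P0.T_f]
        show _ * _ = _ * _
        rw [P0.T_mul, P0.T_mul]; congr 1 <;> ring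
      hxb := by
        rw [show P0.b * P0.a ^ P0.s.val = P0.T 0 1 P0.s 0 by simp [Frame.T, ZMod.val_one],
          show P0.b = P0.T 0 1 0 0 from (P0.T_b).symm, P0.T_mul, P0.T_mul]
        congr 1 <;> ring
      gen := fun q => by
        obtain ⟨i, j, k, l, hq⟩ := P0.surj q
        refine ⟨i.val, (j - i * t).val, (k + P0.s * t * (i.val.choose 2)).val, (l - i * u).val, ?_⟩
        rw [← hq, P0.T_pow, show P0.b ^ (j - i * t).val = P0.T 0 (j - i * t) 0 0 by simp [Frame.T],
          show P0.a ^ (k + P0.s * t * (i.val.choose 2)).val = P0.T 0 0 (k + P0.s * t * (i.val.choose 2)) 0 by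
            simp [Frame.T],
          show P0.f ^ (l - i * u).val = P0.T 0 0 0 (l - i * u) by simp [Frame.T],
          P0.T_mul, P0.T_mul, P0.T_mul, ZMod.natCast_zmod_val]
        congr 1 <;> ring }
  have hPT : ∀ i j k l : ZMod p, P.T i j k l =
      P0.T i (i * t + j) (k - P0.s * t * (i.val.choose 2)) (i * u + l) := by
    intro i j k l
    show (P0.T 1 t 0 u) ^ i.val * P0.b ^ j.val * P0.a ^ k.val * P0.f ^ l.val = _
    rw [P0.T_pow, show P0.b ^ j.val = P0.T 0 j 0 0 by simp [Frame.T],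
      show P0.a ^ k.val = P0.T 0 0 k 0 by simp [Frame.T],
      show P0.f ^ l.val = P0.T 0 0 0 l by simp [Frame.T], P0.T_mul, P0.T_mul, P0.T_mul, ZMod.natCast_zmod_val]
    congr 1 <;> ring
  have hPc1 : ∀ q : G ⧸ Φ, P.c₁ q = P0.c₁ q := fun q => by
    conv_rhs => rw [← P.T_co q, hPT, Frame.c₁_T]
  have hdP : ∀ i j k l : ZMod p, δq (P0.T i j k l) =
      δq P0.x ^ i.val * P0.T 0 c⁻¹ 0 0 ^ j.val * P0.T 0 0 c 0 ^ k.val * P0.T 0 0 0 1 ^ l.val := by
    intro i j k l
    simp only [Frame.T, map_mul, map_pow]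
    rw [hdb, hda, hdf]
    rfl
  obtain ⟨κ, hκ⟩ : ∃ κ, δq P.x = P.T (c * c) 0 κ 0 := by
    refine ⟨P.c₃ (δq P.x), ?_⟩
    have h1 : δq P.x = P0.T (c * c) (β + c⁻¹ * t) (P0.c₃ (δq P0.x)) (l0 + u) := by
      show δq (P0.T 1 t 0 u) = _
      rw [hdP, ZMod.val_one, pow_one, ← hdx, P0.T_pow, P0.T_pow, P0.T_pow, P0.T_mul, P0.T_mul, P0.T_mul]
      simp only [ZMod.natCast_zmod_val, Frame.c₃_T]
      congr 1 <;> ring
    have h2 : δq P.x = P.T (c * c) 0
        (P0.c₃ (δq P0.x) + P0.s * t * ((c * c).val.choose 2)) 0 := by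
      rw [h1, hPT]
      congr 1
      · simp only [t]; field_simp; ring
      · ring
      · simp only [u]; field_simp; ring
    conv_lhs => rw [h2]
    rw [h2, Frame.c₃_T]
  refine ⟨Φ, hΦn, P, κ, hΦdef, hΦG, hΦE, ?_, fun q => (hE₀ q).trans (by rw [hPc1]; rfl), ?_⟩
  swap
  · intro q i j k l hq
    show δq (π q) = _
    rw [show π q = P.T i j k l from hq, Frame.T, map_mul, map_mul, map_mul, map_pow, map_pow, map_pow,
      map_pow, hκ, show δq P.b = P.T 0 c⁻¹ 0 0 from (hdb.trans (by rw [hPT]; simp)),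
      show δq P.a = P.T 0 0 c 0 from (hda.trans (by rw [hPT]; simp)),
      show δq P.f = P.T 0 0 0 1 from (hdf.trans (by rw [hPT]; simp)),
      P.T_pow, P.T_pow, P.T_pow, P.T_pow, P.T_mul, P.T_mul, P.T_mul]
    simp only [ZMod.natCast_zmod_val]
    congr 1 <;> ring
  -- all conjugates of `E₀` have the same Frattini subgroup
  intro φ
  set D := frattini G with hD
  have hDmem : ∀ q : G, q ∈ D ↔ P0.c₁ (π q) = 0 ∧ P0.c₂ (π q) = 0 ∧ P0.c₄ (π q) = 0 := by
    let D' : Subgroup G :=
      { carrier := {q | P0.c₁ (π q) = 0 ∧ P0.c₂ (π q) = 0 ∧ P0.c₄ (π q) = 0}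
        one_mem' := by
          simp only [Set.mem_setOf_eq, map_one, ← P0.T_zero, Frame.c₁_T, Frame.c₂_T, Frame.c₄_T, and_self]
        mul_mem' := fun {u v} hu hv => by
          simp only [Set.mem_setOf_eq, map_mul, P0.c₁_mul, P0.c₂_mul, P0.c₄_mul] at *
          simp [hu, hv]
        inv_mem' := fun {u} hu => by
          have h : ∀ (cc : G ⧸ Φ → ZMod p), (∀ v w, cc (v * w) = cc v + cc w) → cc (π u) = 0 →
              cc ((π u)⁻¹) = 0 := fun cc hcc h0 => by
            have h1 : cc 1 = 0 := by have := hcc 1 1; simpa using this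
            have := hcc (π u) (π u)⁻¹
            rw [mul_inv_cancel, h1, h0, zero_add] at this
            exact this.symm
          simp only [Set.mem_setOf_eq, map_inv] at *
          exact ⟨h _ P0.c₁_mul hu.1, h _ P0.c₂_mul hu.2.1, h _ P0.c₄_mul hu.2.2⟩ }
    haveI : D'.Normal := ⟨fun u hu g => by
      have h : ∀ (cc : G ⧸ Φ → ZMod p), (∀ v w, cc (v * w) = cc v + cc w) →
          cc (π (g * u * g⁻¹)) = cc (π u) := fun cc hcc => by
        rw [map_mul, map_mul, map_inv, hcc, hcc, add_right_comm, ← hcc, mul_inv_cancel]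
        have h1 : cc 1 = 0 := by have := hcc 1 1; simpa using this
        rw [h1, zero_add]
      exact ⟨(h _ P0.c₁_mul).trans hu.1, (h _ P0.c₂_mul).trans hu.2.1, (h _ P0.c₄_mul).trans hu.2.2⟩⟩
    have h1 : D ≤ D' := by
      refine PGroup.frattini_le_of_quotient (p := p) ?_ fun g => ?_
      · rw [commutator_eq_closure, Subgroup.closure_le]
        rintro _ ⟨u, v, rfl⟩
        have h : ∀ (cc : G ⧸ Φ → ZMod p), (∀ v w, cc (v * w) = cc v + cc w) → cc (π ⁅u, v⁆) = 0 :=
          fun cc hcc => by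
            have h1 : cc 1 = 0 := by have := hcc 1 1; simpa using this
            have hi : ∀ w, cc w⁻¹ = -cc w := fun w => by
              have := hcc w w⁻¹
              rw [mul_inv_cancel, h1] at this
              exact (neg_eq_of_add_eq_zero_right this.symm).symm
            rw [map_commutatorElement, commutatorElement_def, hcc, hcc, hcc, hi, hi]
            ring
        exact ⟨h _ P0.c₁_mul, h _ P0.c₂_mul, h _ P0.c₄_mul⟩
      · show P0.c₁ _ = 0 ∧ P0.c₂ _ = 0 ∧ P0.c₄ _ = 0
        rw [map_pow, P0.exp (by omega), ← P0.T_zero]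
        simp
    intro q
    refine ⟨fun h => h1 h, fun h => ?_⟩
    have haD : a ∈ D := by
      have h2 : ⁅x, b⁆⁻¹ * a ^ s ∈ Φ := by
        rw [← hπ, map_mul, map_inv, map_commutatorElement, map_pow, inv_mul_eq_one, commutatorElement_def, hXB,
          mul_inv_cancel_right, ((hEc haE hbE).pow_left s).eq.symm, mul_inv_cancel_right]
      have h3 : a ^ s ∈ D := by
        have := D.mul_mem (PGroup.comm_mem_frattini hG x b) (hΦG h2)
        rwa [mul_inv_cancel_left] at this
      have h5 : (a ^ (s * ((s : ZMod p)⁻¹).val))⁻¹ * a ∈ Φ := by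
        rw [← hπ, map_mul, map_inv, map_pow, inv_mul_eq_one, hcz A (hEp haE) _ 1 (by
          push_cast; rw [ZMod.natCast_zmod_val, mul_inv_cancel₀ hs]), pow_one]
      have := D.mul_mem (D.pow_mem h3 ((s : ZMod p)⁻¹).val) (hΦG h5)
      rwa [← pow_mul, mul_inv_cancel_left] at this
    have h4 : π q = π (a ^ (P0.c₃ (π q)).val) := by
      conv_lhs => rw [← P0.T_co (π q), h.1, h.2.1, h.2.2]
      simp [Frame.T, map_pow]
      rfl
    have := D.mul_mem (D.pow_mem haD (P0.c₃ (π q)).val)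
      (hΦG (hπ.mp (show π ((a ^ (P0.c₃ (π q)).val)⁻¹ * q) = 1 by rw [map_mul, map_inv, ← h4, inv_mul_cancel])))
    rwa [mul_inv_cancel_left] at this
  have hφD : ∀ q ∈ D, φ q ∈ D := fun q hq =>
    Subgroup.characteristic_iff_map_le.mp (inferInstance : (frattini G).Characteristic) φ ⟨q, hq, rfl⟩
  have hDE : D ≤ E₀ := fun q hq => (hE₀ q).mpr ((hDmem q).mp hq).1
  have haD : a ∈ D := (hDmem a).mpr (by
    rw [show π a = P0.T 0 0 1 0 from P0.T_a.symm]; simp)
  set Φ₁ := Φ.map φ.toMonoidHom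
  haveI : Φ₁.Normal := hΦn.map _ φ.surjective
  suffices hle : Φ₁ ≤ Φ from fun q hq => hle ⟨q, hq, rfl⟩
  by_contra hne
  have hAΦ : Φ ⊓ Φ₁ < Φ := lt_of_le_of_ne inf_le_left fun h => hne (by
    rw [Subgroup.eq_of_le_of_card_ge (h.symm.le.trans inf_le_right)
      (by rw [Subgroup.card_map_of_injective φ.injective])])
  set Z := D ⊔ Subgroup.zpowers f with hZ
  have hfD : f ∉ D := fun h => by
    have := ((hDmem f).mp h).2.2
    rw [show π f = P0.T 0 0 0 1 from P0.T_f.symm, Frame.c₄_T] at this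
    exact one_ne_zero this
  have hΦD : Φ < D := lt_of_le_of_ne hΦG fun h => by
    have h1 := hπ.mpr (h.ge haD)
    rw [show π a = P0.T 0 0 1 0 from P0.T_a.symm, ← P0.T_zero] at h1
    exact one_ne_zero (P0.inj h1).2.2.1
  have hDZ : D < Z := lt_of_le_of_ne le_sup_left fun h =>
    hfD (h.ge (Subgroup.mem_sup_right (Subgroup.mem_zpowers f)))
  by_cases hin : φ f ∈ Z
  · -- then `φ(E₀) / Φ` is elementary abelian
    apply hne
    have hmap : Z.map φ.toMonoidHom = Z := Subgroup.eq_of_le_of_card_ge (by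
      rw [Subgroup.map_sup, MonoidHom.map_zpowers]
      exact sup_le (by rintro _ ⟨q, hq, rfl⟩; exact Subgroup.mem_sup_left (hφD q hq))
        (Subgroup.zpowers_le.mpr hin))
      (by rw [Subgroup.card_map_of_injective φ.injective])
    set K := E₀.map φ.toMonoidHom
    have hZK : Z ≤ K := by
      rw [← hmap]
      exact Subgroup.map_mono (sup_le hDE (Subgroup.zpowers_le.mpr hfE))
    have hbZ : b ∉ Z := fun h => by
      have hle : Z ≤ (Subgroup.closure {A, F}).comap π := by
        refine sup_le (fun q hq => ?_) (Subgroup.zpowers_le.mpr (Subgroup.subset_closure (by simp [F])))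
        rw [Subgroup.mem_comap]
        obtain ⟨e1, e2, e4⟩ := (hDmem q).mp hq
        rw [← P0.T_co (π q), e1, e2, e4]
        simp only [Frame.T, ZMod.val_zero, pow_zero, one_mul, mul_one]
        exact Subgroup.pow_mem _ (Subgroup.subset_closure (by simp [P0])) _
      have hB0 : ∀ y ∈ Subgroup.closure {A, F}, P0.c₂ y = 0 := by
        intro y hy
        induction hy using Subgroup.closure_induction with
        | mem z hz =>
          rcases hz with rfl | rfl
          · rw [show A = P0.T 0 0 1 0 from P0.T_a.symm]; simp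
          · rw [show F = P0.T 0 0 0 1 from P0.T_f.symm]; simp
        | one => rw [← P0.T_zero]; simp
        | mul u v _ _ hu hv => rw [P0.c₂_mul, hu, hv, add_zero]
        | inv u _ hu =>
          have := P0.c₂_mul u u⁻¹
          rw [mul_inv_cancel, ← P0.T_zero, Frame.c₂_T, hu, zero_add] at this
          exact this.symm
      have := hB0 _ (hle h)
      rw [show π b = P0.T 0 1 0 0 from P0.T_b.symm, Frame.c₂_T] at this
      exact one_ne_zero this
    obtain ⟨m, hm, hmZ⟩ : ∃ m ∈ K, m ∉ Z := by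
      have h1 : Z < E₀ := lt_of_le_of_ne (sup_le hDE (Subgroup.zpowers_le.mpr hfE)) fun h => hbZ (h ▸ hbE)
      by_contra hc
      push Not at hc
      have h2 := card_mul_le' hG h1
      have h3 := Subgroup.card_le_of_le (hc : K ≤ Z)
      rw [Subgroup.card_map_of_injective φ.injective] at h3
      have := Nat.card_pos (α := Z)
      have := hpp.two_le
      nlinarith
    have hEZ : Nat.card E₀ ≤ p * Nat.card Z := by
      have h0 := card_mul_le' hG hΦD
      have h1 := card_mul_le' hG hDZ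
      have h2 : Nat.card E₀ = p ^ 3 * Nat.card Φ := by
        rw [hΦdef, Subgroup.card_map_of_injective E₀.subtype_injective, ← hEcard]
        exact (Subgroup.index_mul_card _).symm
      rw [h2]
      calc p ^ 3 * Nat.card Φ = p * (p * (p * Nat.card Φ)) := by ring
        _ ≤ p * (p * Nat.card D) := by gcongr
        _ ≤ _ := by gcongr
    have hKeq : Z ⊔ Subgroup.zpowers m = K := by
      refine Subgroup.eq_of_le_of_card_ge (sup_le hZK (Subgroup.zpowers_le.mpr hm)) ?_
      rw [Subgroup.card_map_of_injective φ.injective]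
      refine le_trans hEZ (card_mul_le' hG (lt_of_le_of_ne le_sup_left fun h =>
        hmZ (h.ge (Subgroup.mem_sup_right (Subgroup.mem_zpowers m)))))
    have hK : ∀ u ∈ K, ∀ v ∈ K, Commute (π u) (π v) := by
      have hz : ∀ (y : G ⧸ Φ) (k l : ZMod p), Commute (P0.T 0 0 k l) y := fun y k l => by
        rw [← P0.T_co y]
        show _ * _ = _ * _
        rw [P0.T_mul, P0.T_mul]
        congr 1 <;> ring
      have hzZ : ∀ q ∈ Z, ∀ y, Commute (π q) y := by
        intro q hq y
        obtain ⟨d, hd, z, hz', rfl⟩ := (Subgroup.mem_sup_of_normal_left (s := D)).mp hq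
        obtain ⟨n, rfl⟩ := hz'
        rw [map_mul, map_zpow]
        refine Commute.mul_left ?_ (Commute.zpow_left ?_ n)
        · obtain ⟨e1, e2, -⟩ := (hDmem d).mp hd
          rw [← P0.T_co (π d), e1, e2]
          exact hz y _ _
        · rw [show π f = P0.T 0 0 0 1 from P0.T_f.symm]; exact hz y _ _
      have hKc : K.map π ≤ Subgroup.closure (π '' (Z : Set G) ∪ {π m}) := by
        rw [← hKeq, Subgroup.map_sup, MonoidHom.map_zpowers]
        refine sup_le ?_ (Subgroup.zpowers_le.mpr (Subgroup.subset_closure (Or.inr rfl)))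
        rintro _ ⟨q, hq, rfl⟩
        exact Subgroup.subset_closure (Or.inl ⟨q, hq, rfl⟩)
      intro u hu v hv
      refine commute_of_closure ?_ (hKc ⟨u, hu, rfl⟩) (hKc ⟨v, hv, rfl⟩)
      rintro y (⟨q, hq, rfl⟩ | rfl) z (⟨q', hq', rfl⟩ | rfl)
      · exact hzZ q hq _
      · exact hzZ q hq _
      · exact (hzZ q' hq' _).symm
      · exact Commute.refl _
    show ((frattini E₀).map E₀.subtype).map φ.toMonoidHom ≤ Φ
    rw [Subgroup.map_map, Subgroup.map_le_iff_le_comap]
    refine PGroup.frattini_le_of_quotient (p := p) ?_ fun u => ?_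
    · rw [commutator_eq_closure, Subgroup.closure_le]
      rintro _ ⟨u, v, rfl⟩
      rw [SetLike.mem_coe, Subgroup.mem_comap, map_commutatorElement, ← hπ, map_commutatorElement,
        commutatorElement_eq_one_iff_commute]
      exact hK _ ⟨u, u.2, rfl⟩ _ ⟨v, v.2, rfl⟩
    · rw [Subgroup.mem_comap, map_pow, ← hπ, map_pow]
      exact P0.exp (by omega) _
  · -- an elementary section of rank four
    set H := Z ⊔ Subgroup.zpowers (φ f) with hH
    have hZH : Z < H := lt_of_le_of_ne le_sup_left fun h =>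
      hin (h.ge (Subgroup.mem_sup_right (Subgroup.mem_zpowers _)))
    haveI : (Φ ⊓ Φ₁).Normal := Subgroup.normal_inf_normal _ _
    let αA := QuotientGroup.mk' (Φ ⊓ Φ₁)
    have hα : ∀ {q : G}, αA q = 1 ↔ q ∈ Φ ∧ q ∈ Φ₁ := fun {q} => QuotientGroup.eq_one_iff q
    have hz : ∀ (g : G), g ∈ D ∨ g = f → ∀ y, ⁅g, y⁆ ∈ Φ := by
      intro g hg y
      rw [← hπ, map_commutatorElement, commutatorElement_eq_one_iff_commute]
      obtain ⟨k, l, hkl⟩ : ∃ k l, π g = P0.T 0 0 k l := by
        rcases hg with hg | rfl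
        · obtain ⟨e1, e2, -⟩ := (hDmem g).mp hg
          exact ⟨P0.c₃ (π g), P0.c₄ (π g), by conv_lhs => rw [← P0.T_co (π g), e1, e2]⟩
        · exact ⟨0, 1, P0.T_f.symm⟩
      rw [hkl, ← P0.T_co (π y)]
      show _ * _ = _ * _
      rw [P0.T_mul, P0.T_mul]
      congr 1 <;> ring
    have hz1 : ∀ (g : G), g ∈ D ∨ g = φ f → ∀ y, ⁅g, y⁆ ∈ Φ₁ := by
      intro g hg y
      refine ⟨⁅φ.symm g, φ.symm y⁆, hz _ ?_ _, by simp [map_commutatorElement]⟩
      rcases hg with hg | rfl
      · exact Or.inl (Subgroup.characteristic_iff_map_le.mp (inferInstance : (frattini G).Characteristic) φ.symm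
          ⟨g, hg, rfl⟩)
      · exact Or.inr (φ.symm_apply_apply f)
    have hc : H.map αA ≤ Subgroup.closure (αA '' (D : Set G) ∪ {αA f, αA (φ f)}) := by
      rw [hH, hZ, Subgroup.map_sup, Subgroup.map_sup, MonoidHom.map_zpowers, MonoidHom.map_zpowers]
      refine sup_le (sup_le ?_ (Subgroup.zpowers_le.mpr (Subgroup.subset_closure (by simp))))
        (Subgroup.zpowers_le.mpr (Subgroup.subset_closure (by simp)))
      rintro _ ⟨q, hq, rfl⟩
      exact Subgroup.subset_closure (Or.inl ⟨q, hq, rfl⟩)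
    have hcomm : ∀ u ∈ H, ∀ v ∈ H, ⁅u, v⁆ ∈ Φ ⊓ Φ₁ := by
      intro u hu v hv
      rw [← QuotientGroup.eq_one_iff]
      show αA ⁅u, v⁆ = 1
      rw [map_commutatorElement, commutatorElement_eq_one_iff_commute]
      refine commute_of_closure ?_ (hc ⟨u, hu, rfl⟩) (hc ⟨v, hv, rfl⟩)
      have key : ∀ g g' : G, (g ∈ D ∨ g = f ∨ g = φ f) → (g' ∈ D ∨ g' = f ∨ g' = φ f) →
          Commute (αA g) (αA g') := by
        intro g g' hg hg'
        rcases eq_or_ne g g' with rfl | hne'
        · exact Commute.refl _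
        rw [← commutatorElement_eq_one_iff_commute, ← map_commutatorElement, hα]
        constructor
        · rcases hg with h | h | h
          · exact hz g (Or.inl h) g'
          · exact hz g (Or.inr h) g'
          · rcases hg' with h' | h' | h'
            · rw [← commutatorElement_inv]; exact Φ.inv_mem (hz g' (Or.inl h') g)
            · rw [← commutatorElement_inv]; exact Φ.inv_mem (hz g' (Or.inr h') g)
            · exact absurd (h.trans h'.symm) hne'
        · rcases hg with h | h | h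
          · exact hz1 g (Or.inl h) g'
          · rcases hg' with h' | h' | h'
            · rw [← commutatorElement_inv]; exact Φ₁.inv_mem (hz1 g' (Or.inl h') g)
            · exact absurd (h.trans h'.symm) hne'
            · rw [← commutatorElement_inv]; exact Φ₁.inv_mem (hz1 g' (Or.inr h') g)
          · exact hz1 g (Or.inr h) g'
      rintro y (⟨q, hq, rfl⟩ | rfl | rfl) z (⟨q', hq', rfl⟩ | rfl | rfl) <;>
        exact key _ _ (by first | exact Or.inl hq | exact Or.inr (Or.inl rfl) | exact Or.inr (Or.inr rfl))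
          (by first | exact Or.inl hq' | exact Or.inr (Or.inl rfl) | exact Or.inr (Or.inr rfl))
    have hexp : ∀ u ∈ H, u ^ p ∈ Φ ⊓ Φ₁ := fun u _ =>
      ⟨hπ.mp (by rw [map_pow]; exact P0.exp (by omega) _),
        ⟨φ.symm (u ^ p), hπ.mp (by rw [map_pow, map_pow]; exact P0.exp (by omega) _), φ.apply_symm_apply _⟩⟩
    have hfin := hrank H (Φ ⊓ Φ₁) ((inf_le_left.trans hΦG).trans (hDZ.le.trans hZH.le)) inferInstance hcomm hexp
    have h1 := card_mul_le' hG hAΦ
    have h2 := card_mul_le' hG hΦD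
    have h3 := card_mul_le' hG hDZ
    have h4 := card_mul_le' hG hZH
    have hpos := Nat.card_pos (α := (Φ ⊓ Φ₁ : Subgroup G))
    have h5 : p ^ 4 * Nat.card (Φ ⊓ Φ₁ : Subgroup G) ≤ p ^ 3 * Nat.card (Φ ⊓ Φ₁ : Subgroup G) := by
      calc _ = p * (p * (p * (p * Nat.card (Φ ⊓ Φ₁ : Subgroup G)))) := by ring
        _ ≤ p * (p * (p * Nat.card Φ)) := by gcongr
        _ ≤ p * (p * Nat.card D) := by gcongr
        _ ≤ p * Nat.card Z := by gcongr
        _ ≤ Nat.card H := h4
        _ ≤ _ := hfin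
    exact absurd (Nat.le_of_mul_le_mul_right h5 hpos) (not_le.mpr (Nat.pow_lt_pow_right hpp.one_lt (by norm_num)))

end Cfsg.Agent.LocalEvenD.RTE
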